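import Groth.Agent.Henselization.Basic
import Groth.Agent.Henselization.Transfer
import Groth.Agent.Henselization.Properties
import Groth.Agent.EtAlgEasy.EssEtBasic
import Groth.Agent.SHTensor.Basic
import Groth.Prelude.Def_EssEt
import Mathlib

/-!
Essentially étale local subalgebras of a strict henselization.
-/

set_option autoImplicit false

universe u

open IsLocalRing

namespace Groth.Agent.SHInter

open Henselization

noncomputable section

section EssEt

variable {A E : Type u} [CommRing A] [IsLocalRing A] [CommRing E] [Algebra A E]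

theorem formallyEtale_of_essEt (hE : EGA4loc.IsEssentiallyEtale A E) :
    Algebra.FormallyEtale A E := by
  obtain ⟨C, _, _, q, _, _, -, ⟨e⟩⟩ := hE
  haveI : Algebra.FormallyEtale C (Localization.AtPrime q) :=
    Algebra.FormallyEtale.of_isLocalization q.primeCompl
  haveI : Algebra.FormallyEtale A (Localization.AtPrime q) := Algebra.FormallyEtale.comp A C _
  exact Algebra.FormallyEtale.of_equiv e.symm

theorem essFiniteType_of_essEt (hE : EGA4loc.IsEssentiallyEtale A E) :
    Algebra.EssFiniteType A E := by
  obtain ⟨C, _, _, q, _, _, -, ⟨e⟩⟩ := hE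
  haveI : Algebra.EssFiniteType C (Localization.AtPrime q) := .of_isLocalization _ q.primeCompl
  haveI : Algebra.EssFiniteType A (Localization.AtPrime q) := Algebra.EssFiniteType.comp A C _
  exact Algebra.EssFiniteType.of_surjective e.symm.toAlgHom e.symm.surjective

theorem flat_of_essEt (hE : EGA4loc.IsEssentiallyEtale A E) : Module.Flat A E := by
  obtain ⟨C, _, _, q, _, _, -, ⟨e⟩⟩ := hE
  haveI : Module.Flat C (Localization.AtPrime q) := IsLocalization.flat _ q.primeCompl
  haveI : Module.Flat A (Localization.AtPrime q) := Module.Flat.trans A C _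
  exact Module.Flat.of_linearEquiv e.toLinearEquiv

theorem isLocalHom_algebraMap_of_essEt [IsLocalRing E] (hE : EGA4loc.IsEssentiallyEtale A E) :
    IsLocalHom (algebraMap A E) := by
  obtain ⟨C, _, _, q, _, _, hq, ⟨e⟩⟩ := hE
  refine ⟨fun a ha => ?_⟩
  have h := ha.map e
  rw [e.commutes, IsScalarTower.algebraMap_apply A C (Localization.AtPrime q),
    IsLocalization.AtPrime.isUnit_to_map_iff (Localization.AtPrime q) q] at h
  by_contra hn
  exact h (hq.ge ((mem_maximalIdeal a).2 hn))

theorem essEt_of_algEquiv {E' : Type u} [CommRing E'] [Algebra A E']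
    (hE : EGA4loc.IsEssentiallyEtale A E) (f : E ≃ₐ[A] E') : EGA4loc.IsEssentiallyEtale A E' := by
  obtain ⟨C, i1, i2, q, i3, i4, hq, ⟨e⟩⟩ := hE
  exact ⟨C, i1, i2, q, i3, i4, hq, ⟨f.symm.trans e⟩⟩

end EssEt

theorem isEssentiallyEtale_idx {R : Type u} [CommRing R] [IsLocalRing R] {K : Type u} [Field K]
    [Algebra R K] [Algebra (ResidueField R) K] [IsScalarTower R (ResidueField R) K] (i : Idx R K) :
    EGA4loc.IsEssentiallyEtale R i.L := by
  refine ⟨i.S, inferInstance, inferInstance, i.q, inferInstance, inferInstance, ?_, ⟨AlgEquiv.refl⟩⟩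
  ext r
  show i.pt (algebraMap R i.S r) = 0 ↔ _
  rw [i.pt.commutes, algebraMap_eq_zero_iff]

variable {A S : Type u} [CommRing A] [IsLocalRing A] [CommRing S] [IsLocalRing S] [Algebra A S]
  [IsLocalHom (algebraMap A S)] [Hensel.IsStrictHenselization A S]

theorem flat_sh : Module.Flat A S := by
  obtain ⟨e⟩ := exists_algEquiv_of_isStrictHenselization A S
  exact Module.Flat.of_linearEquiv e.symm.toLinearEquiv

theorem map_maximalIdeal_sh : (maximalIdeal A).map (algebraMap A S) = maximalIdeal S := by
  obtain ⟨e⟩ := exists_algEquiv_of_isStrictHenselization A S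
  exact map_maximalIdeal_of_equiv e

theorem isNoetherianRing_sh [IsNoetherianRing A] : IsNoetherianRing S := by
  obtain ⟨e⟩ := exists_algEquiv_of_isStrictHenselization A S
  exact (isNoetherianRing_of_equiv e).2 ‹_›

theorem isSeparable_residue_sh : Algebra.IsSeparable (ResidueField A) (ResidueField S) :=
  (Hensel.IsStrictHenselization.isSepClosure (R := A) (S := S)).2

/-- A strict henselization is faithfully flat over every local essentially étale algebra mapping
to it. -/
theorem faithfullyFlat_of_essEt {E : Type u} [CommRing E] [IsLocalRing E] [Algebra A E]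
    (hE : EGA4loc.IsEssentiallyEtale A E) [Algebra E S] [IsScalarTower A E S] :
    Module.FaithfullyFlat E S := by
  haveI : Module.Flat A S := flat_sh
  haveI := formallyEtale_of_essEt hE
  haveI := essFiniteType_of_essEt hE
  haveI := isLocalHom_algebraMap_of_essEt hE
  haveI : Module.Flat E S := Algebra.FormallyUnramified.flat_of_restrictScalars A E S
  haveI : IsLocalHom (algebraMap E S) :=
    EtAlgEasy.isLocalHom_of_essEtale hE (IsScalarTower.toAlgHom A E S)
  exact Module.FaithfullyFlat.of_flat_of_isLocalHom

/-- The inclusion of an essentially étale local subalgebra. -/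
theorem isLocalHom_subalgebra (E : Subalgebra A S) [IsLocalRing E]
    (hE : EGA4loc.IsEssentiallyEtale A E) : IsLocalHom (algebraMap E S) :=
  EtAlgEasy.isLocalHom_of_essEtale hE (IsScalarTower.toAlgHom A E S)

/-- Divisibility descends from the strict henselization to a subalgebra over which it is
faithfully flat. -/
theorem mem_of_mul_mem (E : Subalgebra A S) [Module.FaithfullyFlat E S] {b x : S} (hb : b ∈ E)
    (hnz : ∀ y : S, b * y = 0 → y = 0) (hbx : b * x ∈ E) : x ∈ E := by
  have h1 : (⟨b * x, hbx⟩ : E) ∈ ((Ideal.span {(⟨b, hb⟩ : E)}).map (algebraMap E S)).comap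
      (algebraMap E S) := by
    rw [Ideal.mem_comap, Ideal.map_span, Set.image_singleton, Ideal.mem_span_singleton]
    exact ⟨x, rfl⟩
  rw [Ideal.comap_map_eq_self_of_faithfullyFlat, Ideal.mem_span_singleton] at h1
  obtain ⟨y, hy⟩ := h1
  have h2 : b * x = b * (y : S) := congrArg Subtype.val hy
  have h3 : x = y := sub_eq_zero.1 (hnz _ (by rw [mul_sub, h2, sub_self]))
  exact h3 ▸ y.2

variable (A S) in
/-- Every finite subset of a strict henselization lies in an essentially étale local subalgebra. -/
theorem exists_stage (s : Finset S) :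
    ∃ E : Subalgebra A S, (s : Set S) ⊆ E ∧ ∃ _ : IsLocalRing E,
      IsLocalHom (algebraMap E S) ∧ EGA4loc.IsEssentiallyEtale A E := by
  classical
  obtain ⟨e⟩ := exists_algEquiv_of_isStrictHenselization A S
  obtain ⟨i, hi⟩ := exists_lift_finset (s.image e.symm)
  let f : i.L →ₐ[A] S := e.toAlgHom.comp (ι i)
  have hf : Function.Injective f := e.injective.comp (ι_injective i)
  let g : i.L ≃ₐ[A] f.range := AlgEquiv.ofInjective f hf
  haveI : IsLocalRing f.range := g.toRingEquiv.isLocalRing
  have hE := essEt_of_algEquiv (isEssentiallyEtale_idx i) g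
  refine ⟨f.range, fun x hx => ?_, inferInstance, isLocalHom_subalgebra _ hE, hE⟩
  obtain ⟨y, hy⟩ := hi (e.symm x) (Finset.mem_image_of_mem _ hx)
  exact ⟨y, by show e (ι i y) = x; rw [hy, e.apply_symm_apply]⟩

end

end Groth.Agent.SHInter
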