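import Groth.Agent.SHInter.Basic
import Groth.Agent.S2139
import Groth.Agent.S16448

/-!
Total rings of fractions of subalgebras of a strict henselization of a reduced local ring.
-/

set_option autoImplicit false

universe u

open IsLocalRing
open scoped nonZeroDivisors

namespace Groth.Agent.SHInter

noncomputable section

variable {A S : Type u} [CommRing A] [IsLocalRing A] [CommRing S] [IsLocalRing S] [Algebra A S]
  [IsLocalHom (algebraMap A S)] [Hensel.IsStrictHenselization A S]

theorem isRegular_algebraMap {a : A} (ha : a ∈ A⁰) {y : S} (h : algebraMap A S a * y = 0) :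
    y = 0 := by
  haveI : Module.Flat A S := flat_sh
  have h1 : IsSMulRegular S a :=
    Module.Flat.isSMulRegular_of_isRegular (isRegular_iff_mem_nonZeroDivisors.mpr ha)
  exact h1.right_eq_zero_of_smul (by rw [Algebra.smul_def]; exact h)

/-- Every element of a strict henselization of a reduced local ring with finitely many minimal
primes is, after tensoring with the total ring of fractions, a unit times an idempotent of the
algebra it generates. -/
theorem exists_sub_mul_eq_zero [IsReduced A] (hmin : (minimalPrimes A).Finite) (e : S) :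
    ∃ a ∈ A⁰, ∃ y ∈ Algebra.adjoin A ({e} : Set S), (algebraMap A S a - e * y) * e = 0 := by
  classical
  obtain ⟨E, hsE, _, _, hE⟩ := exists_stage A S {e}
  have he : e ∈ E := hsE (by simp)
  haveI := isLocalHom_algebraMap_of_essEt hE
  haveI : IsArtinianRing (FractionRing A) := Groth.Agent.S2139.isNoetherian_frac hmin
  obtain ⟨hloc, t, ht⟩ := Groth.Agent.S16448.result A E hmin hE
  let FE := FractionRing E
  let Q := FractionRing A
  have hu : ∀ a : A⁰, IsUnit (algebraMap A FE a) := fun a => by
    rw [IsScalarTower.algebraMap_apply A E FE]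
    exact IsLocalization.map_units FE (⟨_, (a : A), a.2, rfl⟩ : A⁰.map (algebraMap A E))
  let ι : Q →+* FE := IsLocalization.lift hu
  letI : Algebra Q FE := ι.toAlgebra
  haveI : IsScalarTower A Q FE :=
    IsScalarTower.of_algebraMap_eq fun a => (IsLocalization.lift_eq hu a).symm
  haveI : Module.Finite Q FE := by
    refine ⟨⟨t, top_le_iff.1 fun x _ => ?_⟩⟩
    obtain ⟨a, ha, hx⟩ := ht x
    have h1 : algebraMap A FE a * x ∈ Submodule.span Q (t : Set FE) :=
      Submodule.span_subset_span A Q _ hx
    have h2 : x = (IsLocalization.mk' Q 1 (⟨a, ha⟩ : A⁰)) • (algebraMap A FE a * x) := by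
      rw [Algebra.smul_def, ← mul_assoc, IsScalarTower.algebraMap_apply A Q FE, ← map_mul,
        IsLocalization.mk'_spec, map_one, map_one, one_mul]
    rw [h2]
    exact Submodule.smul_mem _ _ h1
  haveI : IsReduced S := by
    obtain ⟨i⟩ := Henselization.exists_algEquiv_of_isStrictHenselization A S
    exact (Henselization.isReduced_of_equiv i).2 inferInstance
  haveI : IsReduced E := isReduced_of_injective E.val Subtype.val_injective
  haveI : IsReduced FE := isReduced_localizationPreserves E⁰ FE inferInstance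
  let e' : FE := algebraMap E FE ⟨e, he⟩
  let T : Subalgebra Q FE := Algebra.adjoin Q {e'}
  haveI : Module.Finite Q T := Module.Finite.of_injective T.val.toLinearMap Subtype.val_injective
  haveI : IsArtinianRing T := IsArtinianRing.of_finite Q T
  obtain ⟨n, z, hz⟩ := IsArtinian.exists_pow_succ_smul_dvd
    (⟨e', Algebra.subset_adjoin rfl⟩ : T) (1 : T)
  have hz' : e' ^ n.succ * (z : FE) = e' ^ n := by simpa [smul_eq_mul] using congrArg Subtype.val hz
  have key : e' * (1 - e' * (z : FE)) = 0 := by
    refine IsNilpotent.eq_zero ⟨n + 1, ?_⟩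
    have h0 : e' ^ n * (1 - e' * (z : FE)) = 0 := by
      rw [mul_sub, mul_one, ← mul_assoc, ← pow_succ, hz', sub_self]
    rw [mul_pow, pow_succ, pow_succ, show e' ^ n * e' * ((1 - e' * (z : FE)) ^ n * (1 - e' * (z : FE))) =
      (e' ^ n * (1 - e' * (z : FE))) * (e' * (1 - e' * (z : FE)) ^ n) by ring, h0, zero_mul]
  have hclear : ∀ w ∈ T, ∃ a ∈ A⁰, ∃ y ∈ Algebra.adjoin A ({(⟨e, he⟩ : E)} : Set E),
      algebraMap A FE a * w = algebraMap E FE y := by
    intro w hw
    induction hw using Algebra.adjoin_induction with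
    | mem x hx =>
      rw [Set.mem_singleton_iff] at hx
      exact ⟨1, one_mem _, _, Algebra.subset_adjoin rfl, by rw [hx, map_one, one_mul]⟩
    | algebraMap q =>
      obtain ⟨⟨b, s⟩, hs⟩ := IsLocalization.surj A⁰ q
      refine ⟨s, s.2, algebraMap A E b, Subalgebra.algebraMap_mem _ b, ?_⟩
      rw [← IsScalarTower.algebraMap_apply A E FE, IsScalarTower.algebraMap_apply A Q FE b,
        IsScalarTower.algebraMap_apply A Q FE, ← map_mul, mul_comm, hs]
    | add x y _ _ hx hy =>
      obtain ⟨a, ha, u, hu', h1⟩ := hx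
      obtain ⟨b, hb, v, hv, h2⟩ := hy
      refine ⟨a * b, mul_mem ha hb, algebraMap A E b * u + algebraMap A E a * v,
        add_mem (mul_mem (Subalgebra.algebraMap_mem _ b) hu')
          (mul_mem (Subalgebra.algebraMap_mem _ a) hv), ?_⟩
      rw [map_add, map_mul (algebraMap E FE), map_mul (algebraMap E FE), ← h1, ← h2,
        ← IsScalarTower.algebraMap_apply, ← IsScalarTower.algebraMap_apply, map_mul]
      ring
    | mul x y _ _ hx hy =>
      obtain ⟨a, ha, u, hu', h1⟩ := hx
      obtain ⟨b, hb, v, hv, h2⟩ := hy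
      refine ⟨a * b, mul_mem ha hb, u * v, mul_mem hu' hv, ?_⟩
      rw [map_mul (algebraMap E FE), ← h1, ← h2, map_mul]
      ring
  obtain ⟨a, ha, y, hy, hay⟩ := hclear z z.2
  refine ⟨a, ha, (y : S), ?_, ?_⟩
  · have h1 : (y : S) ∈ (Algebra.adjoin A ({(⟨e, he⟩ : E)} : Set E)).map E.val := ⟨y, hy, rfl⟩
    rwa [AlgHom.map_adjoin, Set.image_singleton] at h1
  · have h0 : algebraMap E FE ((algebraMap A E a - ⟨e, he⟩ * y) * ⟨e, he⟩) = 0 := by
      rw [map_mul, map_sub, map_mul, ← IsScalarTower.algebraMap_apply, ← hay]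
      show (algebraMap A FE a - e' * (algebraMap A FE a * (z : FE))) * e' = 0
      rw [show (algebraMap A FE a - e' * (algebraMap A FE a * (z : FE))) * e' =
        algebraMap A FE a * (e' * (1 - e' * (z : FE))) by ring, key, mul_zero]
    rw [← map_zero (algebraMap E FE)] at h0
    exact congrArg Subtype.val (IsFractionRing.injective E FE h0)

variable [IsReduced A] (hmin : (minimalPrimes A).Finite)
include hmin

/-- A nonzerodivisor of a subalgebra divides the image of a nonzerodivisor of the base. -/
theorem exists_mul_eq_algebraMap (D : Subalgebra A S) {e : D} (he : e ∈ D⁰) :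
    ∃ a ∈ A⁰, ∃ y : D, e * y = algebraMap A D a := by
  obtain ⟨a, ha, y, hy, h⟩ := exists_sub_mul_eq_zero hmin (e : S)
  have hyD : y ∈ D := Algebra.adjoin_le (Set.singleton_subset_iff.2 e.2) hy
  refine ⟨a, ha, ⟨y, hyD⟩, ?_⟩
  have h0 : (algebraMap A D a - e * ⟨y, hyD⟩) * e = 0 := Subtype.ext h
  exact (sub_eq_zero.1 ((mem_nonZeroDivisors_iff_right.1 he) _ h0)).symm

theorem exists_mul_mem_range (D : Subalgebra A S) (z : FractionRing D) :
    ∃ a ∈ A⁰, ∃ d : D, algebraMap A (FractionRing D) a * z = algebraMap D (FractionRing D) d := by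
  obtain ⟨⟨d, e⟩, h⟩ := IsLocalization.surj D⁰ z
  obtain ⟨a, ha, y, hy⟩ := exists_mul_eq_algebraMap hmin D e.2
  refine ⟨a, ha, d * y, ?_⟩
  rw [IsScalarTower.algebraMap_apply A D (FractionRing D), ← hy, map_mul, map_mul,
    ← show z * algebraMap D (FractionRing D) (e : D) = algebraMap D (FractionRing D) d from h]
  ring

/-- A subalgebra whose total ring of fractions is finitely generated lies in an essentially étale
local subalgebra. -/
theorem exists_le_of_fg (D : Subalgebra A S)
    (hfg : ∃ t : Finset (FractionRing D), ∀ x : FractionRing D, ∃ a ∈ A⁰,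
      algebraMap A (FractionRing D) a * x ∈ Algebra.adjoin A (t : Set (FractionRing D))) :
    ∃ E : Subalgebra A S, D ≤ E ∧ ∃ _ : IsLocalRing E,
      IsLocalHom (algebraMap E S) ∧ EGA4loc.IsEssentiallyEtale A E := by
  classical
  obtain ⟨t, ht⟩ := hfg
  choose a ha d hd using fun z : FractionRing D => exists_mul_mem_range hmin D z
  obtain ⟨E, hsE, hloc, hlh, hE⟩ := exists_stage A S (t.image fun z => (d z : S))
  refine ⟨E, fun x hx => ?_, hloc, hlh, hE⟩
  haveI := faithfullyFlat_of_essEt (S := S) hE
  let φ : D →ₐ[A] FractionRing D := IsScalarTower.toAlgHom A D (FractionRing D)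
  have hinj : Function.Injective φ := IsFractionRing.injective D (FractionRing D)
  have hcl : ∀ z ∈ Algebra.adjoin A (t : Set (FractionRing D)), ∃ b ∈ A⁰, ∃ w : D,
      (w : S) ∈ E ∧ algebraMap A (FractionRing D) b * z = φ w := by
    intro z hz
    induction hz using Algebra.adjoin_induction with
    | mem z hz =>
      exact ⟨a z, ha z, d z, hsE (Finset.mem_image_of_mem _ hz), hd z⟩
    | algebraMap r =>
      refine ⟨1, one_mem _, algebraMap A D r, E.algebraMap_mem r, ?_⟩
      rw [map_one, one_mul]
      exact (φ.commutes r).symm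
    | add x y _ _ hx hy =>
      obtain ⟨b, hb, u, hu, h1⟩ := hx
      obtain ⟨c, hc, v, hv, h2⟩ := hy
      refine ⟨b * c, mul_mem hb hc, algebraMap A D c * u + algebraMap A D b * v,
        E.add_mem (E.mul_mem (E.algebraMap_mem c) hu) (E.mul_mem (E.algebraMap_mem b) hv), ?_⟩
      rw [map_add φ, map_mul φ, map_mul φ, φ.commutes, φ.commutes, ← h1, ← h2, map_mul]
      ring
    | mul x y _ _ hx hy =>
      obtain ⟨b, hb, u, hu, h1⟩ := hx
      obtain ⟨c, hc, v, hv, h2⟩ := hy
      refine ⟨b * c, mul_mem hb hc, u * v, E.mul_mem hu hv, ?_⟩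
      rw [map_mul φ, ← h1, ← h2, map_mul]
      ring
  obtain ⟨b, hb, hbx⟩ := ht (φ ⟨x, hx⟩)
  obtain ⟨c, hc, w, hw, hcw⟩ := hcl _ hbx
  rw [← mul_assoc, ← map_mul, ← φ.commutes, ← map_mul φ] at hcw
  have h1 : algebraMap A S (c * b) * x = (w : S) := congrArg Subtype.val (hinj hcw)
  exact mem_of_mul_mem E (E.algebraMap_mem _)
    (fun y hy => isRegular_algebraMap (mul_mem hc hb) hy) (h1 ▸ hw)

/-- A subalgebra of an essentially étale local subalgebra has a finitely generated total ring of
fractions. -/
theorem fg_of_le (D E : Subalgebra A S) (hle : D ≤ E) [IsLocalRing E]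
    (hE : EGA4loc.IsEssentiallyEtale A E) :
    ∃ t : Finset (FractionRing D), ∀ x : FractionRing D, ∃ a ∈ A⁰,
      algebraMap A (FractionRing D) a * x ∈ Algebra.adjoin A (t : Set (FractionRing D)) := by
  classical
  haveI := isLocalHom_algebraMap_of_essEt hE
  haveI : IsArtinianRing (FractionRing A) := Groth.Agent.S2139.isNoetherian_frac hmin
  obtain ⟨hloc, t, ht⟩ := Groth.Agent.S16448.result A E hmin hE
  let FE := FractionRing E
  let Q := FractionRing A
  have hu : ∀ a : A⁰, IsUnit (algebraMap A FE a) := fun a => by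
    rw [IsScalarTower.algebraMap_apply A E FE]
    exact IsLocalization.map_units FE (⟨_, (a : A), a.2, rfl⟩ : A⁰.map (algebraMap A E))
  let ι : Q →+* FE := IsLocalization.lift hu
  letI : Algebra Q FE := ι.toAlgebra
  haveI : IsScalarTower A Q FE :=
    IsScalarTower.of_algebraMap_eq fun a => (IsLocalization.lift_eq hu a).symm
  haveI : Module.Finite Q FE := by
    refine ⟨⟨t, top_le_iff.1 fun x _ => ?_⟩⟩
    obtain ⟨a, ha, hx⟩ := ht x
    have h1 : algebraMap A FE a * x ∈ Submodule.span Q (t : Set FE) :=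
      Submodule.span_subset_span A Q _ hx
    have h2 : x = (IsLocalization.mk' Q 1 (⟨a, ha⟩ : A⁰)) • (algebraMap A FE a * x) := by
      rw [Algebra.smul_def, ← mul_assoc, IsScalarTower.algebraMap_apply A Q FE, ← map_mul,
        IsLocalization.mk'_spec, map_one, map_one, one_mul]
    rw [h2]
    exact Submodule.smul_mem _ _ h1
  let ψ : D →ₐ[A] FE := (IsScalarTower.toAlgHom A E FE).comp (Subalgebra.inclusion hle)
  have hψ : Function.Injective ψ :=
    (IsFractionRing.injective E FE).comp (Subalgebra.inclusion_injective hle)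
  obtain ⟨s, hs, hsp⟩ := (Submodule.fg_span_iff_fg_span_finset_subset (R := Q) (Set.range ψ)).1
    (IsNoetherian.noetherian _)
  choose g hg using hs
  let G : Finset D := s.attach.image fun v => g v.2
  refine ⟨G.image (algebraMap D (FractionRing D)), fun x => ?_⟩
  obtain ⟨a, ha, d, hd⟩ := exists_mul_mem_range hmin D x
  have h1 : ψ d ∈ Submodule.span Q (s : Set FE) := hsp.le (Submodule.subset_span ⟨d, rfl⟩)
  have h2 : ∀ v ∈ Submodule.span Q (s : Set FE), ∃ b ∈ A⁰, ∃ w ∈ Submodule.span A (G : Set D),
      algebraMap A FE b * v = ψ w := by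
    intro v hv
    induction hv using Submodule.span_induction with
    | zero => exact ⟨1, one_mem _, 0, zero_mem _, by rw [mul_zero, map_zero]⟩
    | mem v hv =>
      refine ⟨1, one_mem _, g hv, Submodule.subset_span
        (Finset.mem_image.2 ⟨⟨v, hv⟩, Finset.mem_attach _ _, rfl⟩), ?_⟩
      rw [map_one, one_mul, hg hv]
    | add x y _ _ hx hy =>
      obtain ⟨b, hb, u, hu', e1⟩ := hx
      obtain ⟨c, hc, v, hv, e2⟩ := hy
      refine ⟨b * c, mul_mem hb hc, c • u + b • v,
        add_mem (Submodule.smul_mem _ _ hu') (Submodule.smul_mem _ _ hv), ?_⟩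
      rw [map_add ψ, map_smul, map_smul, ← e1, ← e2, Algebra.smul_def, Algebra.smul_def, map_mul]
      ring
    | smul q x _ hx =>
      obtain ⟨b, hb, u, hu', e1⟩ := hx
      obtain ⟨⟨r, k⟩, hk⟩ := IsLocalization.surj A⁰ q
      refine ⟨k * b, mul_mem k.2 hb, r • u, Submodule.smul_mem _ _ hu', ?_⟩
      rw [map_smul, ← e1, Algebra.smul_def, Algebra.smul_def, map_mul,
        IsScalarTower.algebraMap_apply A Q FE r, ← hk, map_mul,
        ← IsScalarTower.algebraMap_apply A Q FE (k : A)]
      ring
  obtain ⟨b, hb, w, hw, hbw⟩ := h2 _ h1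
  refine ⟨b * a, mul_mem hb ha, ?_⟩
  rw [← ψ.commutes, ← map_mul] at hbw
  rw [map_mul, mul_assoc, hd, IsScalarTower.algebraMap_apply A D (FractionRing D), ← map_mul,
    hψ hbw]
  have hle' : Submodule.span A (G : Set D) ≤
      (Subalgebra.toSubmodule (Algebra.adjoin A
        ((G.image (algebraMap D (FractionRing D)) : Finset _) : Set (FractionRing D)))).comap
        (IsScalarTower.toAlgHom A D (FractionRing D)).toLinearMap :=
    Submodule.span_le.2 fun v hv => Algebra.subset_adjoin (Finset.mem_image_of_mem _ hv)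
  exact hle' hw

end

end Groth.Agent.SHInter
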