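import Groth.Agent.SHInter.SplitCriterion2
import Groth.Agent.HensBranch.QuotStage
import Groth.Agent.BranchLib.Count
import Groth.Agent.S7655

/-!
Minimal primes of the strict henselization extended from the henselization.
-/

set_option autoImplicit false

universe u

open IsLocalRing
open scoped nonZeroDivisors

namespace Groth.Agent.SHInter

noncomputable section

theorem forall_card_eq_one_of_card_sigma {ι : Type u} [Finite ι] {β : ι → Type u} (h1 : ∀ i, Nonempty (β i))
    (h : ENat.card (Σ i, β i) = ENat.card ι) : ∀ i, ENat.card (β i) = 1 := by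
  classical
  have hfin : Finite (Σ i, β i) := by
    rw [← not_infinite_iff_finite]
    intro hinf
    rw [ENat.card_eq_top_of_infinite, ENat.card_eq_coe_natCard] at h
    exact (ENat.coe_ne_top _) h.symm
  have hcard : Nat.card (Σ i, β i) = Nat.card ι := by
    rw [ENat.card_eq_coe_natCard, ENat.card_eq_coe_natCard] at h
    exact_mod_cast h
  have hbij : Function.Bijective (Sigma.fst : (Σ i, β i) → ι) :=
    (Nat.bijective_iff_surjective_and_card _).2 ⟨fun i => ⟨⟨i, (h1 i).some⟩, rfl⟩, hcard⟩
  intro i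
  rw [BranchLib.enat_card_eq_one]
  exact ⟨⟨fun a b => sigma_mk_injective (hbij.1 (a₁ := ⟨i, a⟩) (a₂ := ⟨i, b⟩) rfl)⟩, h1 i⟩

theorem card_sigma_eq_of_forall {ι : Type u} {β : ι → Type u} (h : ∀ i, ENat.card (β i) = 1) :
    ENat.card (Σ i, β i) = ENat.card ι := by
  have h' := fun i => (BranchLib.enat_card_eq_one.1 (h i))
  refine ENat.card_congr (Equiv.ofBijective Sigma.fst ⟨fun a b hab => ?_, fun i => ⟨⟨i, (h' i).2.some⟩, rfl⟩⟩)
  obtain ⟨i, a⟩ := a
  obtain ⟨j, b⟩ := b
  obtain rfl : i = j := hab
  haveI := (h' i).1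
  rw [Subsingleton.elim a b]

/-- Equal branch counts and purely inseparable residue fields of the normalization. -/
theorem numGeomBranches_eq_iff (A : Type u) [CommRing A] [IsLocalRing A] [IsReduced A]
    [IsNoetherianRing A] :
    Brnch.numGeomBranches A = Brnch.numBranches A ↔
      ∀ (M : Ideal (integralClosure A (FractionRing A))) [M.IsMaximal],
        ∀ x : (integralClosure A (FractionRing A)) ⧸ M, ∃ n : ℕ,
          x ^ (ringExpChar ((integralClosure A (FractionRing A)) ⧸ M)) ^ n ∈
            ((Ideal.Quotient.mk M).comp (algebraMap A (integralClosure A (FractionRing A)))).range := by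
  classical
  obtain ⟨ψ, hψ⟩ := Groth.Agent.S7655.exists_equiv A
  have hN : {M : Ideal (CAlg2.normRed A) | M.IsMaximal}.Finite := by
    refine ((finite_maximal_integralClosure A).image fun M => M.map ψ.toRingHom).subset fun M hM => ?_
    haveI : M.IsMaximal := hM
    exact ⟨M.comap ψ.toRingHom, Ideal.comap_isMaximal_of_surjective _ ψ.surjective,
      Ideal.map_comap_of_surjective _ ψ.surjective M⟩
  haveI : Finite (MaximalSpectrum (CAlg2.normRed A)) := by
    haveI := hN.to_subtype
    exact Finite.of_injective (fun M : MaximalSpectrum (CAlg2.normRed A) =>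
      (⟨M.asIdeal, M.isMaximal⟩ : {M : Ideal (CAlg2.normRed A) | M.IsMaximal}))
      fun a b h => MaximalSpectrum.ext (congrArg Subtype.val h)
  have hmin := Ideal.finite_minimalPrimes_of_isNoetherianRing A ⊥
  have h1 : Brnch.numGeomBranches A = Brnch.numBranches A ↔
      ∀ M : MaximalSpectrum (CAlg2.normRed A), ENat.card (Brnch.Emb A M) = 1 := by
    unfold Brnch.numGeomBranches Brnch.numBranches
    rw [if_pos hmin, if_pos hmin]
    exact ⟨forall_card_eq_one_of_card_sigma fun M =>
      (ENat.one_le_card_iff_nonempty _).1 (BranchLib.card_emb A M).1, card_sigma_eq_of_forall⟩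
  rw [h1]
  have key : ∀ (M : Ideal (integralClosure A (FractionRing A))) (N : Ideal (CAlg2.normRed A))
      [M.IsMaximal] [N.IsMaximal] (h : N = M.map ψ.toRingHom) (x : (integralClosure A (FractionRing A)) ⧸ M),
      (∃ n : ℕ, x ^ (ringExpChar ((integralClosure A (FractionRing A)) ⧸ M)) ^ n ∈
        ((Ideal.Quotient.mk M).comp (algebraMap A (integralClosure A (FractionRing A)))).range) ↔
      ∃ n : ℕ, (Ideal.quotientEquiv M N ψ h x) ^ (ringExpChar (CAlg2.normRed A ⧸ N)) ^ n ∈
        ((Ideal.Quotient.mk N).comp (S7655.toNorm A)).range := by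
    intro M N _ _ h x
    letI := Ideal.Quotient.field M
    letI := Ideal.Quotient.field N
    let e := Ideal.quotientEquiv M N ψ h
    haveI : ExpChar (CAlg2.normRed A ⧸ N) (ringExpChar ((integralClosure A (FractionRing A)) ⧸ M)) :=
      expChar_of_injective_ringHom (f := e.toRingHom) e.injective _
    have hq := ringExpChar.eq (CAlg2.normRed A ⧸ N) (ringExpChar ((integralClosure A (FractionRing A)) ⧸ M))
    rw [hq]
    refine exists_congr fun n => ?_
    rw [← map_pow]
    constructor
    · rintro ⟨a, ha⟩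
      exact ⟨a, by rw [← ha]; exact congrArg (Ideal.Quotient.mk N) (hψ a).symm⟩
    · rintro ⟨a, ha⟩
      refine ⟨a, e.injective (Eq.trans ?_ ha)⟩
      exact congrArg (Ideal.Quotient.mk N) (hψ a)
  constructor
  · intro h M hM x
    haveI : (M.map ψ.toRingHom).IsMaximal := Ideal.map_isMaximal_of_equiv ψ
    rw [key M (M.map ψ.toRingHom) rfl x]
    exact ((BranchLib.card_emb A ⟨M.map ψ.toRingHom, inferInstance⟩).2.1 (h _)) _
  · intro h N
    haveI := N.isMaximal
    haveI : (N.asIdeal.comap ψ.toRingHom).IsMaximal := Ideal.comap_isMaximal_of_surjective _ ψ.surjective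
    have hN : N.asIdeal = (N.asIdeal.comap ψ.toRingHom).map ψ.toRingHom :=
      (Ideal.map_comap_of_surjective _ ψ.surjective _).symm
    refine (BranchLib.card_emb A N).2.2 fun x => ?_
    obtain ⟨y, rfl⟩ := (Ideal.quotientEquiv (N.asIdeal.comap ψ.toRingHom) N.asIdeal ψ hN).surjective x
    exact (key _ _ hN y).1 (h _ y)

/-- Extended minimal primes and the counts of minimal primes. -/
theorem minimalPrimes_extended_iff_card {B S : Type u} [CommRing B] [HenselianLocalRing B] [IsReduced B]
    [IsNoetherianRing B] [CommRing S] [IsLocalRing S] [Algebra B S] [IsLocalHom (algebraMap B S)]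
    [Hensel.IsStrictHenselization B S] :
    (∀ Q ∈ minimalPrimes S, Q = Ideal.map (algebraMap B S) (Q.comap (algebraMap B S))) ↔
      ENat.card (minimalPrimes S) = ENat.card (minimalPrimes B) := by
  classical
  haveI : Module.Flat B S := flat_sh
  haveI : Module.FaithfullyFlat B S := Module.FaithfullyFlat.of_flat_of_isLocalHom
  haveI : IsNoetherianRing S := isNoetherianRing_sh (A := B)
  have hdown : ∀ Q ∈ minimalPrimes S, Q.comap (algebraMap B S) ∈ minimalPrimes B := fun Q hQ => by
    haveI := hQ.1.1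
    refine ⟨⟨Ideal.IsPrime.comap _, bot_le⟩, fun P' hP' hle => ?_⟩
    haveI := hP'.1
    haveI : Q.LiesOver (Q.comap (algebraMap B S)) := ⟨rfl⟩
    obtain ⟨Q', hQ'le, hQ'p, hQ'o⟩ := Ideal.exists_ideal_le_liesOver_of_le Q hle
    have := hQ.2 ⟨hQ'p, bot_le⟩ hQ'le
    rw [hQ'o.over]
    exact Ideal.comap_mono this
  have hup : ∀ q ∈ minimalPrimes B, ∀ P ∈ (q.map (algebraMap B S)).minimalPrimes,
      P ∈ minimalPrimes S ∧ P.comap (algebraMap B S) = q := by
    intro q hq P hP
    haveI := hP.1.1
    obtain ⟨Q, hQ, hQP⟩ := Ideal.exists_minimalPrimes_le (I := (⊥ : Ideal S)) (J := P) bot_le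
    haveI := hq.1.1
    haveI : P.LiesOver (P.comap (algebraMap B S)) := ⟨rfl⟩
    obtain ⟨Q', hQ'le, hQ'p, hQ'o⟩ := Ideal.exists_ideal_le_liesOver_of_le (p := q)
      (q := P.comap (algebraMap B S)) P (Ideal.map_le_iff_le_comap.1 hP.1.2)
    have hc : Q'.comap (algebraMap B S) = q := hQ'o.over.symm
    have hP' : P ≤ Q' := hP.2 ⟨hQ'p, Ideal.map_le_iff_le_comap.2 hc.ge⟩ hQ'le
    have hcP : P.comap (algebraMap B S) = q := le_antisymm ((Ideal.comap_mono hP').trans hc.le)
      (Ideal.map_le_iff_le_comap.1 hP.1.2)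
    have hcQ : Q.comap (algebraMap B S) = q :=
      le_antisymm ((Ideal.comap_mono hQP).trans hcP.le)
        (hq.2 ⟨(hdown Q hQ).1.1, bot_le⟩ ((Ideal.comap_mono hQP).trans hcP.le))
    obtain rfl : Q = P := le_antisymm hQP (hP.2 ⟨hQ.1.1, Ideal.map_le_iff_le_comap.2 hcQ.ge⟩ hQP)
    exact ⟨hQ, hcP⟩
  let c : minimalPrimes S → minimalPrimes B := fun Q => ⟨_, hdown Q.1 Q.2⟩
  have hne : ∀ q ∈ minimalPrimes B, q.map (algebraMap B S) ≠ ⊤ := fun q hq h => by
    have h1 := Ideal.comap_map_eq_self_of_faithfullyFlat (B := S) q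
    rw [h, Ideal.comap_top] at h1
    exact hq.1.1.ne_top h1.symm
  have hsurj : Function.Surjective c := fun q => by
    obtain ⟨P, hP⟩ := Ideal.nonempty_minimalPrimes (hne q.1 q.2)
    obtain ⟨h1, h2⟩ := hup q.1 q.2 P hP
    exact ⟨⟨P, h1⟩, Subtype.ext h2⟩
  haveI : Finite (minimalPrimes B) := (Ideal.finite_minimalPrimes_of_isNoetherianRing B ⊥).to_subtype
  haveI : Finite (minimalPrimes S) := (Ideal.finite_minimalPrimes_of_isNoetherianRing S ⊥).to_subtype
  constructor
  · intro h
    refine ENat.card_congr (Equiv.ofBijective c ⟨fun Q Q' hQQ => Subtype.ext ?_, hsurj⟩)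
    rw [h Q.1 Q.2, h Q'.1 Q'.2, show Q.1.comap (algebraMap B S) = Q'.1.comap (algebraMap B S) from
      congrArg Subtype.val hQQ]
  · intro h Q hQ
    have hcard : Nat.card (minimalPrimes S) = Nat.card (minimalPrimes B) := by
      rw [ENat.card_eq_coe_natCard, ENat.card_eq_coe_natCard] at h
      exact_mod_cast h
    have hbij : Function.Bijective c := (Nat.bijective_iff_surjective_and_card c).2 ⟨hsurj, hcard⟩
    let q := Q.comap (algebraMap B S)
    have hq : q ∈ minimalPrimes B := hdown Q hQ
    haveI := hq.1.1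
    haveI : IsLocalRing (B ⧸ q) := IsLocalRing.of_surjective' (Ideal.Quotient.mk q) Ideal.Quotient.mk_surjective
    haveI : IsLocalRing (S ⧸ q.map (algebraMap B S)) := by
      haveI : Nontrivial (S ⧸ q.map (algebraMap B S)) := Ideal.Quotient.nontrivial_iff.2 (hne q hq)
      exact IsLocalRing.of_surjective' (Ideal.Quotient.mk _) Ideal.Quotient.mk_surjective
    letI : Algebra (B ⧸ q) (S ⧸ q.map (algebraMap B S)) :=
      (Ideal.quotientMap (q.map (algebraMap B S)) (algebraMap B S) Ideal.le_comap_map).toAlgebra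
    haveI : IsLocalHom (algebraMap (B ⧸ q) (S ⧸ q.map (algebraMap B S))) := ⟨fun x hx => by
      obtain ⟨b, rfl⟩ := Ideal.Quotient.mk_surjective x
      haveI : IsLocalHom (Ideal.Quotient.mk (q.map (algebraMap B S))) :=
        Ideal.Quotient.mk_surjective.isLocalHom (f := Ideal.Quotient.mk (q.map (algebraMap B S)))
      exact (isUnit_of_map_unit (algebraMap B S) b
        (isUnit_of_map_unit (Ideal.Quotient.mk (q.map (algebraMap B S))) _ hx)).map _⟩
    haveI : IsLocalHom (Ideal.Quotient.mk (q.map (algebraMap B S))) :=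
      Ideal.Quotient.mk_surjective.isLocalHom (f := Ideal.Quotient.mk (q.map (algebraMap B S)))
    haveI : IsLocalHom (algebraMap B (B ⧸ q)) :=
      Ideal.Quotient.mk_surjective.isLocalHom (f := Ideal.Quotient.mk q)
    haveI : Hensel.IsStrictHenselization (B ⧸ q) (S ⧸ q.map (algebraMap B S)) :=
      HensBranch.isStrictHenselization_of_surjective (R := B) (S := S) (A := B ⧸ q)
        (T := S ⧸ q.map (algebraMap B S)) (Ideal.Quotient.mk _) Ideal.Quotient.mk_surjective
        Ideal.Quotient.mk_surjective (by rw [Ideal.Quotient.algebraMap_eq, Ideal.mk_ker, Ideal.mk_ker])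
        (RingHom.ext fun b => rfl)
    haveI : IsReduced (S ⧸ q.map (algebraMap B S)) := by
      obtain ⟨e⟩ := Henselization.exists_algEquiv_of_isStrictHenselization (B ⧸ q) (S ⧸ q.map (algebraMap B S))
      exact (Henselization.isReduced_of_equiv e).2 inferInstance
    have hrad : (q.map (algebraMap B S)).IsRadical := (Ideal.isRadical_iff_quotient_reduced _).2 inferInstance
    have hall : ∀ P ∈ (q.map (algebraMap B S)).minimalPrimes, P = Q := fun P hP => by
      obtain ⟨h1, h2⟩ := hup q hq P hP
      exact congrArg Subtype.val (hbij.1 (a₁ := ⟨P, h1⟩) (a₂ := ⟨Q, hQ⟩) (Subtype.ext h2))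
    refine le_antisymm ?_ Ideal.map_comap_le
    rw [← hrad.radical, ← Ideal.sInf_minimalPrimes]
    exact le_sInf fun P hP => (hall P hP).ge

/-- The criterion over a local ring. -/
theorem purelyInsep_iff_extended (A Ah Ash : Type u) [CommRing A] [IsLocalRing A] [IsReduced A]
    [IsNoetherianRing A] [CommRing Ah] [IsLocalRing Ah] [Algebra A Ah] [IsLocalHom (algebraMap A Ah)]
    [Hensel.IsHenselization A Ah] [CommRing Ash] [IsLocalRing Ash] [Algebra A Ash]
    [IsLocalHom (algebraMap A Ash)] [Hensel.IsStrictHenselization A Ash] [Algebra Ah Ash]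
    [IsScalarTower A Ah Ash] :
    (∀ (M : Ideal (integralClosure A (FractionRing A))) [M.IsMaximal],
      ∀ x : (integralClosure A (FractionRing A)) ⧸ M, ∃ n : ℕ,
        x ^ (ringExpChar ((integralClosure A (FractionRing A)) ⧸ M)) ^ n ∈
          ((Ideal.Quotient.mk M).comp (algebraMap A (integralClosure A (FractionRing A)))).range) ↔
      (∀ Q ∈ minimalPrimes Ash, Q = Ideal.map (algebraMap Ah Ash) (Q.comap (algebraMap Ah Ash))) := by
  haveI : IsLocalHom (algebraMap Ah Ash) :=
    SHTensor.isLocalHom_of_isHenselization (R := A) (algebraMap Ah Ash)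
      (by rw [← IsScalarTower.algebraMap_eq]; infer_instance)
  haveI hH := (inferInstance : Hensel.IsHenselization A Ah).henselian
  haveI : Hensel.IsStrictHenselization Ah Ash :=
    SHTensor.isStrictHenselization_of_intermediate A Ah Ash fun W _ _ f f' hf hf' hA _ => by
      obtain ⟨g, -, hu⟩ := (inferInstance : Hensel.IsHenselization A Ah).universal W
        (f.comp (algebraMap A Ah)) (RingHom.isLocalHom_comp _ _)
      exact (hu f rfl).trans (hu f' hA.symm).symm
  obtain ⟨e⟩ := Henselization.exists_algEquiv_of_isHenselization A Ah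
  obtain ⟨e'⟩ := Henselization.exists_algEquiv_of_isStrictHenselization A Ash
  haveI : IsReduced Ah := (Henselization.isReduced_of_equiv e).2 inferInstance
  haveI : IsNoetherianRing Ah := (Henselization.isNoetherianRing_of_equiv e).2 inferInstance
  rw [minimalPrimes_extended_iff_card, HensBranch.card_minimalPrimes_of_equiv e,
    HensBranch.card_minimalPrimes_of_equiv e', HensBranch.card_minimalPrimes_henselization A,
    HensBranch.card_minimalPrimes_strictHenselization A]
  exact (numGeomBranches_eq_iff A).symm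

end

end Groth.Agent.SHInter
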