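import Groth.Agent.SHInter.Noetherian
import Groth.Agent.HensBranch.Normal

/-!
Normal local subalgebras of a strict henselization of a normal local domain.
-/

set_option autoImplicit false

universe u

open IsLocalRing
open scoped nonZeroDivisors

namespace Groth.Agent.SHInter

open Henselization

noncomputable section

variable {A S : Type u} [CommRing A] [IsLocalRing A] [CommRing S] [IsLocalRing S] [Algebra A S]
  [IsLocalHom (algebraMap A S)] [Hensel.IsStrictHenselization A S]

theorem isDomain_sh [IsDomain A] [IsIntegrallyClosed A] : IsDomain S ∧ IsIntegrallyClosed S := by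
  obtain ⟨e⟩ := exists_algEquiv_of_isStrictHenselization A S
  exact (HensBranch.normal_iff_of_equiv e).1 ⟨inferInstance, inferInstance⟩

/-- A strict henselization is a strict henselization of each of its normal local subalgebras, hence
faithfully flat over them. -/
theorem faithfullyFlat_of_normal (D : Subalgebra A S) [IsLocalRing D] [IsLocalHom (algebraMap D S)]
    [IsDomain D] [IsIntegrallyClosed D] : Module.FaithfullyFlat D S := by
  haveI := isLocalHom_base D
  haveI := (inferInstance : Hensel.IsStrictHenselization A S).henselian
  haveI hsep := isSeparable_residue_sh (A := A) (S := S)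
  haveI hsc : IsSepClosed (ResidueField S) :=
    (Hensel.IsStrictHenselization.isSepClosure (R := A) (S := S)).sep_closed
  let K := SeparableClosure (ResidueField D)
  let H := StrictHenselizationRing D
  letI : Algebra A H := ((algebraMap D H).comp (algebraMap A D)).toAlgebra
  haveI : IsScalarTower A D H := IsScalarTower.of_algebraMap_eq fun _ => rfl
  haveI : IsDomain H := (HensBranch.hz_normal (R := D) (K := K)).1
  haveI : IsScalarTower (ResidueField A) (ResidueField D) (ResidueField S) :=
    IsScalarTower.of_algebraMap_eq fun x => by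
      obtain ⟨r, rfl⟩ := residue_surjective x
      show residue S (algebraMap A S r) = residue S (algebraMap D S (algebraMap A D r))
      rw [← IsScalarTower.algebraMap_apply]
  haveI : Algebra.IsSeparable (ResidueField D) (ResidueField S) :=
    Algebra.isSeparable_tower_top_of_isSeparable (ResidueField A) (ResidueField D) (ResidueField S)
  haveI : IsSepClosure (ResidueField D) (ResidueField S) := ⟨hsc, inferInstance⟩
  haveI hH : Hensel.IsStrictHenselization D H := inferInstance
  haveI := hH.isSepClosure
  let ε : ResidueField H ≃ₐ[ResidueField D] ResidueField S :=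
    IsSepClosure.equiv (ResidueField D) (ResidueField H) (ResidueField S)
  obtain ⟨g, ⟨hg, hgr⟩, -⟩ := hH.universal S (algebraMap D S) (ε : _ →+* _)
    (RingHom.ext fun x => ε.commutes x)
  haveI : IsLocalHom (algebraMap A H) := by
    rw [IsScalarTower.algebraMap_eq A D H]
    exact RingHom.isLocalHom_comp _ _
  haveI := hH.henselian
  have hS : Hensel.IsStrictHenselization A S := inferInstance
  obtain ⟨j, ⟨hj, hjr⟩, -⟩ := hS.universal H (algebraMap A H) (ε.symm : _ →+* _)
    (RingHom.ext fun x => by
      obtain ⟨r, rfl⟩ := residue_surjective x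
      show ε.symm (residue S (algebraMap A S r)) = residue H (algebraMap A H r)
      rw [AlgEquiv.symm_apply_eq, IsScalarTower.algebraMap_apply A D S,
        IsScalarTower.algebraMap_apply A D H]
      exact (ε.commutes (residue D (algebraMap A D r))).symm)
  have hgj : g.comp j = RingHom.id S :=
    (hS.universal S (algebraMap A S) (RingHom.id _) (RingHom.id_comp _)).unique
      ⟨by rw [RingHom.comp_assoc, hj, IsScalarTower.algebraMap_eq A D H, ← RingHom.comp_assoc, hg,
          ← IsScalarTower.algebraMap_eq], fun x => by
        show residue S (g (j x)) = residue S x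
        rw [hgr, hjr]
        exact ε.apply_symm_apply _⟩ ⟨RingHom.id_comp _, fun _ => rfl⟩
  have hgs : Function.Surjective g := fun y => ⟨j y, RingHom.congr_fun hgj y⟩
  have hker : RingHom.ker g = ⊥ := by
    haveI : IsDomain S := by
      haveI : IsDomain A :=
        Function.Injective.isDomain (algebraMap A D) (fun x y h => by
          haveI : Module.Flat A S := flat_sh
          haveI : Module.FaithfullyFlat A S := Module.FaithfullyFlat.of_flat_of_isLocalHom
          exact FaithfulSMul.algebraMap_injective A S (congrArg (algebraMap D S) h))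
      exact Function.Injective.isDomain j (Function.LeftInverse.injective (g := g)
        fun y => RingHom.congr_fun hgj y)
    haveI : (RingHom.ker g).IsPrime := RingHom.ker_isPrime g
    refine (eq_of_le_of_comap_eq (P := (⊥ : Ideal H)) bot_le ?_).symm
    ext x
    constructor
    · intro hx
      show g (algebraMap D H x) = 0
      rw [show algebraMap D H x = 0 from hx, map_zero]
    · intro hx
      have h1 : (x : S) = 0 := (RingHom.congr_fun hg x).symm.trans hx
      show algebraMap D H x = 0
      rw [show x = 0 from Subtype.ext h1, map_zero]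
  let e : H ≃ₐ[D] S :=
    AlgEquiv.ofBijective ({ g with commutes' := RingHom.congr_fun hg } : H →ₐ[D] S)
      ⟨(RingHom.injective_iff_ker_eq_bot g).2 hker, hgs⟩
  haveI : Module.Flat D S := Module.Flat.of_linearEquiv e.symm.toLinearEquiv
  exact Module.FaithfullyFlat.of_flat_of_isLocalHom

/-- A normal local subalgebra inside an essentially étale one is essentially étale. -/
theorem isEssentiallyEtale_of_normal [IsNoetherianRing A] [IsDomain A] [IsIntegrallyClosed A]
    (D : Subalgebra A S) [IsLocalRing D] [IsLocalHom (algebraMap D S)] [IsDomain D]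
    [IsIntegrallyClosed D] (E : Subalgebra A S) [IsLocalRing E]
    (hE : EGA4loc.IsEssentiallyEtale A E) (hle : D ≤ E) :
    EGA4loc.IsEssentiallyEtale A D := by
  haveI := faithfullyFlat_of_normal D
  haveI := isLocalHom_base D
  haveI : IsNoetherianRing S := isNoetherianRing_sh (A := A)
  haveI : IsNoetherianRing D := by
    haveI : WellFoundedGT (Ideal S) := (isNoetherian_iff').1 inferInstance
    have h : StrictMono fun I : Ideal D => I.map (algebraMap D S) := fun I J hIJ =>
      lt_of_le_of_ne (Ideal.map_mono hIJ.le) fun h => hIJ.ne (by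
        rw [← Ideal.comap_map_eq_self_of_faithfullyFlat (B := S) I,
          ← Ideal.comap_map_eq_self_of_faithfullyFlat (B := S) J]
        exact congrArg (Ideal.comap (algebraMap D S)) h)
    exact (isNoetherian_iff').2 h.wellFoundedGT
  have hm : Ideal.map (algebraMap A D) (maximalIdeal A) = maximalIdeal D := by
    refine le_antisymm (((local_hom_TFAE (algebraMap A D)).out 0 2 rfl rfl).mp inferInstance) ?_
    rw [← Ideal.comap_map_eq_self_of_faithfullyFlat (B := S)
      (Ideal.map (algebraMap A D) (maximalIdeal A)), Ideal.map_map, ← IsScalarTower.algebraMap_eq,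
      map_maximalIdeal_sh, ← Ideal.map_le_iff_le_comap]
    exact ((local_hom_TFAE (algebraMap D S)).out 0 2 rfl rfl).mp inferInstance
  exact isEssentiallyEtale_of_noetherian D
    (fg_of_le (Ideal.finite_minimalPrimes_of_isNoetherianRing A ⊥) D E hle hE) hm

/-- Membership in a stage for elements of the field generated by a finite set. -/
theorem mem_of_mem_closure [IsDomain A] [IsIntegrallyClosed A] {F : Type u} [Field F] [Algebra A F]
    (D : Subalgebra A S) (φ : D →ₐ[A] F) (hφ : Function.Injective φ) (E : Subalgebra A S)
    [IsLocalRing E] (hE : EGA4loc.IsEssentiallyEtale A E) (s : Set D)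
    (hs : ∀ d ∈ s, (d : S) ∈ E) (x : D)
    (hx : φ x ∈ Subfield.closure (Set.range (algebraMap A F) ∪ φ '' s)) : (x : S) ∈ E := by
  haveI : IsDomain S := (isDomain_sh (A := A) (S := S)).1
  haveI := faithfullyFlat_of_essEt (S := S) hE
  let W : Subring F := ((E.toSubring.comap D.val.toRingHom).map φ.toRingHom)
  have hW : Subring.closure (Set.range (algebraMap A F) ∪ φ '' s) ≤ W := by
    rw [Subring.closure_le]
    rintro _ (⟨a, rfl⟩ | ⟨d, hd, rfl⟩)
    · exact ⟨algebraMap A D a, E.algebraMap_mem a, φ.commutes a⟩
    · exact ⟨d, hs d hd, rfl⟩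
  obtain ⟨p, hp, q, hq, hpq⟩ := Subfield.mem_closure_iff.1 hx
  obtain ⟨p, hpE, rfl⟩ := hW hp
  obtain ⟨q, hqE, rfl⟩ := hW hq
  rcases eq_or_ne q 0 with rfl | hq0
  · have : φ x = 0 := by rw [← hpq]; simp
    rw [show x = 0 from hφ (this.trans (map_zero φ).symm)]
    exact E.zero_mem
  · have h1 : q * x = p := hφ (by
      rw [map_mul, ← hpq]
      exact mul_div_cancel₀ _ (fun h => hq0 (hφ (h.trans (map_zero φ).symm))))
    refine mem_of_mul_mem E hqE (fun y hy => ?_) ?_
    · exact (mul_eq_zero.1 hy).resolve_left fun h => hq0 (Subtype.ext h)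
    · have h2 : (q : S) * (x : S) = (p : S) := congrArg Subtype.val h1
      exact (congrArg (fun z : S => z ∈ E) h2).mpr hpE

end

end Groth.Agent.SHInter
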