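import Groth.Agent.SHInter.Unram
import Groth.Agent.EssEtLift.Basic
import Groth.Agent.SHTensor.Basic

/-!
Strict henselizations of henselian local rings: monogenic finite étale stages.
-/

set_option autoImplicit false

universe u

open IsLocalRing Polynomial

namespace Groth.Agent.SHInter

noncomputable section

variable {A S : Type u} [CommRing A] [HenselianLocalRing A] [CommRing S] [IsLocalRing S]
  [Algebra A S] [IsLocalHom (algebraMap A S)] [Hensel.IsStrictHenselization A S]

variable (A S) in
/-- Over a henselian base every finite subset of the strict henselization lies in a finite étale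
subalgebra generated by a root of a monic polynomial with separable irreducible reduction. -/
theorem exists_monogenic_stage (s : Finset S) :
    ∃ (f : A[X]) (x₀ : S), f.Monic ∧ (f.map (residue A)).Separable ∧
      Irreducible (f.map (residue A)) ∧ aeval x₀ f = 0 ∧
      ((s : Set S) ⊆ (Algebra.adjoin A ({x₀} : Set S) : Set S)) ∧
      ∃ _ : IsLocalRing (Algebra.adjoin A ({x₀} : Set S)),
        IsLocalHom (algebraMap (Algebra.adjoin A ({x₀} : Set S)) S) ∧
        EGA4loc.IsEssentiallyEtale A (Algebra.adjoin A ({x₀} : Set S)) ∧
        Module.Finite A (Algebra.adjoin A ({x₀} : Set S)) ∧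
        (maximalIdeal A).map (algebraMap A (Algebra.adjoin A ({x₀} : Set S))) =
          maximalIdeal (Algebra.adjoin A ({x₀} : Set S)) := by
  classical
  haveI := (inferInstance : Hensel.IsStrictHenselization A S).henselian
  haveI := isSeparable_residue_sh (A := A) (S := S)
  obtain ⟨E, hsE, _, _, hE⟩ := exists_stage A S s
  haveI := isLocalHom_algebraMap_of_essEt hE
  haveI := formallyEtale_of_essEt hE
  haveI := essFiniteType_of_essEt hE
  haveI : Module.Finite (ResidueField A) (ResidueField E) :=
    Algebra.FormallyUnramified.finite_of_free _ _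
  haveI : Algebra.IsSeparable (ResidueField A) (ResidueField E) := inferInstance
  let j : ResidueField E →ₐ[ResidueField A] ResidueField S :=
    { toRingHom := ResidueField.map (algebraMap E S)
      commutes' := fun x => by obtain ⟨r, rfl⟩ := residue_surjective x; rfl }
  obtain ⟨θ₀, hθ₀⟩ := Field.exists_primitive_element (ResidueField A) (ResidueField E)
  have hint : IsIntegral (ResidueField A) θ₀ := IsIntegral.of_finite _ _
  obtain ⟨f, hf, -, hfm⟩ := Polynomial.lifts_and_natDegree_eq_and_monic
    (show minpoly (ResidueField A) θ₀ ∈ Polynomial.lifts (residue A) from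
      (Polynomial.lifts_iff_coeff_lifts _).2 fun _ => residue_surjective _) (minpoly.monic hint)
  have hev : ∀ (g : A[X]) (y : S), residue S (aeval y g) = aeval (residue S y) (g.map (residue A)) :=
    fun g y => by
      rw [aeval_def, Polynomial.hom_eval₂, aeval_def, eval₂_map]
      rfl
  obtain ⟨y₀, hy₀⟩ := residue_surjective (j θ₀)
  have hsep : (minpoly (ResidueField A) θ₀).Separable := Algebra.IsSeparable.isSeparable _ θ₀
  have hroot : aeval (j θ₀) (minpoly (ResidueField A) θ₀) = 0 := by
    rw [aeval_algHom_apply, minpoly.aeval, map_zero]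
  obtain ⟨x₀, hx₀, hx₀y⟩ := HenselianLocalRing.is_henselian (f.map (algebraMap A S)) (hfm.map _) y₀
    (by rw [eval_map, ← aeval_def, ← residue_eq_zero_iff, hev, hy₀, hf, hroot])
    (by
      rw [derivative_map, eval_map, ← aeval_def, ← residue_ne_zero_iff_isUnit, hev, hy₀,
        ← derivative_map, hf]
      exact hsep.aeval_derivative_ne_zero hroot)
  have hfx : aeval x₀ f = 0 := by rw [aeval_def, ← eval_map]; exact hx₀
  have hres : residue S x₀ = j θ₀ := by
    rw [← hy₀, ← sub_eq_zero, ← map_sub, residue_eq_zero_iff]
    exact hx₀y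
  let W := Algebra.adjoin A ({x₀} : Set S)
  haveI hWfin : Module.Finite A W := Algebra.finite_adjoin_simple_of_isIntegral ⟨f, hfm, hfx⟩
  let ρ : W →+* ResidueField S := (residue S).comp W.val.toRingHom
  have hWrep : ∀ w : W, ∃ g : A[X], aeval x₀ g = (w : S) := fun w => by
    have := w.2
    simp only [W, Algebra.adjoin_singleton_eq_range_aeval] at this
    exact this
  have hker : RingHom.ker ρ = (maximalIdeal A).map (algebraMap A W) := by
    refine le_antisymm (fun w hw => ?_) (Ideal.map_le_iff_le_comap.2 fun a ha => ?_)
    · obtain ⟨g, hg⟩ := hWrep w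
      have h0 : residue S (aeval x₀ g) = 0 := by rw [hg]; exact hw
      rw [hev, hres, aeval_algHom_apply, map_eq_zero] at h0
      obtain ⟨c, hc⟩ := minpoly.dvd (ResidueField A) θ₀ h0
      obtain ⟨c, rfl⟩ := Polynomial.map_surjective _ residue_surjective c
      rw [← hf, ← Polynomial.map_mul, ← sub_eq_zero, ← Polynomial.map_sub] at hc
      have hmem : g - f * c ∈ (maximalIdeal A).map Polynomial.C := by
        rw [Ideal.mem_map_C_iff]
        intro i
        rw [← residue_eq_zero_iff, ← Polynomial.coeff_map, hc, Polynomial.coeff_zero]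
      let e : A[X] →ₐ[A] W := aeval ⟨x₀, Algebra.subset_adjoin rfl⟩
      have he : ∀ p, ((e p : W) : S) = aeval x₀ p := fun p =>
        (aeval_algHom_apply W.val _ p).symm
      have h2 := Ideal.mem_map_of_mem e.toRingHom hmem
      rw [Ideal.map_map, show e.toRingHom.comp Polynomial.C = algebraMap A W from
        RingHom.ext fun a => Polynomial.aeval_C _ a] at h2
      rwa [show w = e.toRingHom (g - f * c) from Subtype.ext (by
        show (w : S) = ((e (g - f * c) : W) : S)
        rw [he, map_sub, map_mul, hfx, zero_mul, sub_zero, hg])]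
    · show residue S (algebraMap A S a) = 0
      rw [residue_eq_zero_iff, mem_maximalIdeal, mem_nonunits_iff]
      exact fun h => (mem_maximalIdeal a).1 ha (isUnit_of_map_unit _ a h)
  haveI : (RingHom.ker ρ).IsPrime := RingHom.ker_isPrime ρ
  have hmax : (RingHom.ker ρ).IsMaximal := by
    refine Ideal.isMaximal_of_isIntegral_of_isMaximal_comap (R := A) _ ?_
    rw [show (RingHom.ker ρ).comap (algebraMap A W) = maximalIdeal A from ?_]
    · exact maximalIdeal.isMaximal A
    refine le_antisymm (le_maximalIdeal (Ideal.IsPrime.ne_top inferInstance)) ?_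
    rw [← Ideal.map_le_iff_le_comap, hker]
  haveI hWloc : IsLocalRing W := IsLocalRing.of_unique_max_ideal ⟨RingHom.ker ρ, hmax, fun M hM => by
    refine (hmax.eq_of_le hM.ne_top ?_).symm
    rw [hker, Ideal.map_le_iff_le_comap]
    haveI := hM
    exact (eq_maximalIdeal (Ideal.isMaximal_comap_of_isIntegral_of_isMaximal (R := A) M)).ge⟩
  have hWmax : maximalIdeal W = RingHom.ker ρ := (eq_maximalIdeal hmax).symm
  haveI hWlh : IsLocalHom (algebraMap W S) := ⟨fun w hw => by
    by_contra hn
    have h1 : w ∈ RingHom.ker ρ := hWmax ▸ (mem_maximalIdeal w).2 hn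
    exact (residue_ne_zero_iff_isUnit _).2 hw h1⟩
  haveI := isLocalHom_base W
  have hWm : (maximalIdeal A).map (algebraMap A W) = maximalIdeal W := by rw [hWmax, hker]
  haveI : Algebra.EssFiniteType A W := inferInstance
  have hW : EGA4loc.IsEssentiallyEtale A W := isEssentiallyEtale_of_unramified W hWm
  refine ⟨f, x₀, hfm, hf ▸ hsep, hf ▸ minpoly.irreducible hint, hfx, ?_, hWloc, hWlh, hW, hWfin, hWm⟩
  haveI : Algebra.IsIntegral A W := Algebra.IsIntegral.of_finite A W
  haveI : HenselianLocalRing W := SHTensor.henselian_of_isIntegral A W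
  let κ : ResidueField W →+* ResidueField S := ResidueField.map (algebraMap W S)
  have hjκ : ∀ z, ∃ w, κ w = j z := by
    intro z
    have hz : z ∈ (IntermediateField.adjoin (ResidueField A) {θ₀}).toSubalgebra := by
      rw [hθ₀]; trivial
    rw [IntermediateField.adjoin_simple_toSubalgebra_of_isAlgebraic hint.isAlgebraic,
      Algebra.adjoin_singleton_eq_range_aeval] at hz
    obtain ⟨g, rfl⟩ := hz
    obtain ⟨g, rfl⟩ := Polynomial.map_surjective _ residue_surjective g
    have hmem : aeval x₀ g ∈ W := by
      simp only [W, Algebra.adjoin_singleton_eq_range_aeval]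
      exact ⟨g, rfl⟩
    refine ⟨residue W ⟨aeval x₀ g, hmem⟩, ?_⟩
    show residue S (aeval x₀ g) = j (aeval θ₀ (g.map (residue A)))
    rw [hev, hres, aeval_algHom_apply]
  choose α hα using hjκ
  let α' : ResidueField E →+* ResidueField W :=
    { toFun := α
      map_one' := κ.injective (by rw [hα, map_one, map_one])
      map_mul' := fun a b => κ.injective (by rw [hα, map_mul, map_mul, hα, hα])
      map_zero' := κ.injective (by rw [hα, map_zero, map_zero])
      map_add' := fun a b => κ.injective (by rw [hα, map_add, map_add, hα, hα]) }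
  obtain ⟨ψ, ⟨_, hψc, hψr⟩, -⟩ := EssEtLift.existsUnique_lift hE W (algebraMap A W) α'
    (RingHom.ext fun x => κ.injective (by
      obtain ⟨r, rfl⟩ := residue_surjective x
      show κ (α _) = κ _
      rw [hα]
      rfl))
  let u : E →ₐ[A] S := W.val.comp { ψ with commutes' := RingHom.congr_fun hψc }
  have huv : u = E.val := EtAlgEasy.hom_ext_of_essEtale hE (RingHom.ext fun e => by
    show residue S ((ψ e : W) : S) = residue S (e : S)
    have h1 := congrArg κ (hψr e)
    rw [show κ (residue W (ψ e)) = residue S ((ψ e : W) : S) from rfl,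
      show α' (residue E e) = α (residue E e) from rfl, hα] at h1
    exact h1)
  intro z hz
  have h1 : ((ψ ⟨z, hsE hz⟩ : W) : S) = z := AlgHom.congr_fun huv ⟨z, hsE hz⟩
  exact h1 ▸ (ψ ⟨z, hsE hz⟩).2

/-- In any field receiving the strict henselization, the polynomial of a
monogenic stage splits, with all its roots in the strict henselization. -/
theorem splits_and_roots_mem_of_hom {f : A[X]} (hf : f.Monic)
    (hsep : (f.map (residue A)).Separable) {F : Type u} [Field F] (φ : S →+* F) :
    (f.map (φ.comp (algebraMap A S))).Splits ∧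
      ∀ r ∈ (f.map (φ.comp (algebraMap A S))).roots, r ∈ φ.range := by
  classical
  haveI := (inferInstance : Hensel.IsStrictHenselization A S).henselian
  haveI : IsSepClosed (ResidueField S) :=
    (Hensel.IsStrictHenselization.isSepClosure (R := A) (S := S)).sep_closed
  let fb : (ResidueField S)[X] := (f.map (algebraMap A S)).map (residue S)
  have hfb : fb = (f.map (residue A)).map (algebraMap (ResidueField A) (ResidueField S)) := by
    show (f.map (algebraMap A S)).map (residue S) = _
    rw [Polynomial.map_map, Polynomial.map_map]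
    rfl
  have hfbsep : fb.Separable := by rw [hfb]; exact hsep.map
  have hfbsplit : fb.Splits := IsSepClosed.splits_of_separable fb hfbsep
  have hfbm : fb.Monic := (hf.map _).map _
  have hlift : ∀ θ ∈ fb.roots.toFinset, ∃ x : S, (f.map (algebraMap A S)).IsRoot x ∧ residue S x = θ := by
    intro θ hθ
    rw [Multiset.mem_toFinset, mem_roots hfbm.ne_zero, IsRoot] at hθ
    obtain ⟨y, rfl⟩ := residue_surjective θ
    rw [Polynomial.eval_map, Polynomial.eval₂_at_apply] at hθ
    obtain ⟨x, hx, hxy⟩ := HenselianLocalRing.is_henselian (f.map (algebraMap A S)) (hf.map _) y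
      ((residue_eq_zero_iff _).1 hθ) (by
        rw [← residue_ne_zero_iff_isUnit]
        intro h0
        have h1 : fb.derivative.eval (residue S y) = 0 := by
          rw [derivative_map, Polynomial.eval_map, Polynomial.eval₂_at_apply]
          exact h0
        exact hfbsep.eval₂_derivative_ne_zero (RingHom.id _)
          (by rw [Polynomial.eval₂_id, Polynomial.eval_map, Polynomial.eval₂_at_apply]; exact hθ)
          (by rw [Polynomial.eval₂_id]; exact h1))
    exact ⟨x, hx, by rw [← sub_eq_zero, ← map_sub, residue_eq_zero_iff]; exact hxy⟩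
  choose x hx hxr using hlift
  let X : Finset F := fb.roots.toFinset.attach.image fun θ => φ (x θ.1 θ.2)
  have hXcard : X.card = f.natDegree := by
    rw [Finset.card_image_of_injective _ (fun a b h => Subtype.ext (by
        rw [← hxr a.1 a.2, ← hxr b.1 b.2, ← sub_eq_zero, ← map_sub, residue_eq_zero_iff]
        exact le_maximalIdeal (RingHom.ker_ne_top φ) (show φ (_ - _) = 0 by rw [map_sub, h, sub_self]))),
      Finset.card_attach, Multiset.toFinset_card_of_nodup (nodup_roots hfbsep)]
    exact hfbsplit.natDegree_eq_card_roots.symm.trans (by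
      rw [(hf.map _).natDegree_map, hf.natDegree_map])
  let fF := f.map (φ.comp (algebraMap A S))
  have hfF : fF ≠ 0 := (hf.map _).ne_zero
  have hXsub : X ⊆ fF.roots.toFinset := by
    intro z hz
    obtain ⟨θ, -, rfl⟩ := Finset.mem_image.1 hz
    rw [Multiset.mem_toFinset, mem_roots hfF, IsRoot]
    show (f.map (φ.comp (algebraMap A S))).eval (φ (x θ.1 θ.2)) = 0
    rw [← Polynomial.map_map, Polynomial.eval_map, Polynomial.eval₂_at_apply]
    rw [show (f.map (algebraMap A S)).eval (x θ.1 θ.2) = 0 from hx θ.1 θ.2, map_zero]
  have hle : fF.roots.toFinset.card ≤ f.natDegree :=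
    (Multiset.toFinset_card_le _).trans ((card_roots' fF).trans (by rw [hf.natDegree_map]))
  have hXeq : X = fF.roots.toFinset := Finset.eq_of_subset_of_card_le hXsub (hle.trans hXcard.ge)
  have hcard : fF.roots.card = fF.natDegree := le_antisymm (card_roots' fF) (by
    rw [hf.natDegree_map, ← hXcard, hXeq]
    exact Multiset.toFinset_card_le _)
  refine ⟨splits_iff_card_roots.2 hcard, fun r hr => ?_⟩
  have : r ∈ X := by
    rw [hXeq, Multiset.mem_toFinset]
    exact hr
  obtain ⟨θ, -, rfl⟩ := Finset.mem_image.1 this
  exact ⟨_, rfl⟩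

/-- Over the fraction field of a strict henselization that is a domain, the polynomial of a
monogenic stage splits, with all its roots in the strict henselization. -/
theorem splits_and_roots_mem [IsDomain S] {f : A[X]} (hf : f.Monic)
    (hsep : (f.map (residue A)).Separable) {F : Type u} [Field F] (φ : S →+* F)
    (_hφ : Function.Injective φ) :
    (f.map (φ.comp (algebraMap A S))).Splits ∧
      ∀ r ∈ (f.map (φ.comp (algebraMap A S))).roots, r ∈ φ.range :=
  splits_and_roots_mem_of_hom hf hsep φ

end

end Groth.Agent.SHInter
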