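import Groth.Agent.SHInter.NoethIff

/-!
Reduction to intermediate algebras with trivial residue extension.
-/

set_option autoImplicit false

universe u

open IsLocalRing Polynomial

namespace Groth.Agent.SHInter

noncomputable section

theorem resSepFinite_iff_of_eq {S : Type u} [CommRing S] {R₁ R₂ : Subring S} (h : R₁ = R₂) :
    ResSepFinite R₁ ↔ ResSepFinite R₂ := by
  subst h; rfl

theorem isNoetherianRing_iff_of_eq {S : Type u} [CommRing S] {R₁ R₂ : Subring S} (h : R₁ = R₂) :
    IsNoetherianRing R₁ ↔ IsNoetherianRing R₂ := by
  subst h; rfl

variable {A S : Type u} [CommRing A] [HenselianLocalRing A] [IsReduced A] [IsNoetherianRing A]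
  [CommRing S] [IsLocalRing S] [Algebra A S] [IsLocalHom (algebraMap A S)]
  [Hensel.IsStrictHenselization A S]

/-- Over a base with the same residue field. -/
theorem isNoetherianRing_iff_resSepFinite_of_residue (D : Subalgebra A S)
    (hkD : ∀ d : D, ∃ a : A, residue S (d : S) = residue S (algebraMap A S a)) :
    IsNoetherianRing D ↔ ResSepFinite D := by
  refine ⟨fun _ => ?_, fun h => ?_⟩
  · haveI := finite_of_isNoetherianRing D hkD
    exact resSepFinite_of_finite D hkD
  · haveI := finite_of_resSepFinite D hkD h
    exact IsNoetherianRing.of_finite A D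

variable (A S) in
/-- An intermediate algebra lies over a henselian Noetherian base with the same residue field. -/
theorem exists_residue_base (D : Subalgebra A S) :
    ∃ (B : Type u) (_ : CommRing B) (_ : HenselianLocalRing B) (_ : IsReduced B)
      (_ : IsNoetherianRing B) (_ : Algebra B S) (_ : IsLocalHom (algebraMap B S))
      (_ : Hensel.IsStrictHenselization B S) (D' : Subalgebra B S),
      D'.toSubring = D.toSubring ∧
      ∀ d : D', ∃ b : B, residue S (d : S) = residue S (algebraMap B S b) := by
  haveI := isLocalRing_of_henselian D
  haveI := isLocalHom_of_henselian D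
  haveI := isLocalHom_base D
  haveI : Algebra.IsIntegral A D := by
    haveI := isIntegral_sh (A := A) (S := S)
    exact Algebra.IsIntegral.of_injective D.val Subtype.val_injective
  haveI : HenselianLocalRing D := SHTensor.henselian_of_isIntegral A D
  haveI := isSeparable_residue D
  let K := ResidueField D
  let B := Henselization.Hz A K
  obtain ⟨β, ⟨hβc, hβr⟩, -⟩ := Henselization.existsUnique_hom (R := A) (K := K) (T := D)
    (algebraMap A D) (RingHom.id K) (RingHom.ext fun a => rfl)
  haveI : IsLocalHom β := ⟨fun z hz => (Henselization.isUnit_iff z).2 (by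
    rw [← RingHom.id_apply (α := K) (Henselization.εH A K z), ← hβr, residue_ne_zero_iff_isUnit]
    exact hz)⟩
  haveI : IsNoetherianRing B := Henselization.isNoetherianRing_iff.2 inferInstance
  haveI : IsReduced B := Henselization.isReduced_iff.2 inferInstance
  letI : Algebra B S := ((algebraMap D S).comp β).toAlgebra
  haveI : IsScalarTower A B S := IsScalarTower.of_algebraMap_eq fun a => by
    show algebraMap A S a = algebraMap D S (β (algebraMap A B a))
    rw [show β (algebraMap A B a) = algebraMap A D a from RingHom.congr_fun hβc a,
      ← IsScalarTower.algebraMap_apply]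
  haveI : IsLocalHom (algebraMap B S) := RingHom.isLocalHom_comp (algebraMap D S) β
  have hbij : Function.Bijective (ResidueField.map β) := ⟨RingHom.injective _, fun x => by
    obtain ⟨z, hz⟩ := Henselization.εH_surjective (R := A) (K := K) x
    exact ⟨residue B z, (hβr z).trans hz⟩⟩
  haveI : Hensel.IsStrictHenselization B S :=
    SHTensor.isStrictHenselization_of_intermediate A B S fun W _ _ f f' _ _ hff hres => by
      let e := RingEquiv.ofBijective _ hbij
      let τ : K →+* ResidueField W := (ResidueField.map f).comp e.symm.toRingHom
      have hz : ∀ z, e.symm (Henselization.εH A K z) = residue B z := fun z =>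
        e.symm_apply_eq.2 (hβr z).symm
      have hτ : τ.comp (algebraMap A K) = (residue W).comp (f.comp (algebraMap A B)) :=
        RingHom.ext fun a => by
          show ResidueField.map f (e.symm (algebraMap A K a)) = _
          rw [← (Henselization.εH A K).commutes a, hz]
          rfl
      obtain ⟨g, -, hu⟩ := Henselization.existsUnique_hom (f.comp (algebraMap A B)) τ hτ
      refine (hu f ⟨rfl, fun z => ?_⟩).trans (hu f' ⟨hff.symm, fun z => ?_⟩).symm
      · show residue W (f z) = ResidueField.map f (e.symm _)
        rw [hz]; rfl
      · rw [← hres]
        show residue W (f z) = ResidueField.map f (e.symm _)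
        rw [hz]; rfl
  let D' : Subalgebra B S := { D.toSubsemiring with algebraMap_mem' := fun b => (β b).2 }
  refine ⟨B, inferInstance, inferInstance, inferInstance, inferInstance, inferInstance, inferInstance,
    inferInstance, D', rfl, fun d => ?_⟩
  obtain ⟨z, hz⟩ := Henselization.εH_surjective (R := A) (K := K) (residue D ⟨(d : S), d.2⟩)
  exact ⟨z, congrArg (ResidueField.map (algebraMap D S)) ((hβr z).trans hz).symm⟩

/-- An intermediate algebra is Noetherian iff its normalization has finite separable residue
extensions. -/
theorem isNoetherianRing_iff_resSepFinite (D : Subalgebra A S) :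
    IsNoetherianRing D ↔ ResSepFinite D := by
  obtain ⟨B, _, _, _, _, _, _, _, D', hD', hkD⟩ := exists_residue_base A S D
  have h := isNoetherianRing_iff_resSepFinite_of_residue D' hkD
  exact ((isNoetherianRing_iff_of_eq hD').symm.trans h).trans (resSepFinite_iff_of_eq hD')

end

end Groth.Agent.SHInter
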