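import Groth.Agent.SHInter.Unibranch
import Groth.Agent.EssEtLift.Basic
import Groth.Agent.SHTensor.Bijective

/-!
Finite subalgebras of strict henselizations with purely inseparable residue fields of normalization.
-/

set_option autoImplicit false

universe u

open IsLocalRing Polynomial
open scoped nonZeroDivisors

namespace Groth.Agent.SHInter

noncomputable section

section

variable {A S : Type u} [CommRing A] [HenselianLocalRing A] [CommRing S] [IsLocalRing S]
  [Algebra A S] [IsLocalHom (algebraMap A S)] [Hensel.IsStrictHenselization A S]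

/-- A strict henselization of a henselian local ring is integral over it. -/
theorem isIntegral_sh : Algebra.IsIntegral A S := ⟨fun x => by
  obtain ⟨f, x₀, -, -, -, -, hs, -, -, -, hfin, -⟩ := exists_monogenic_stage A S {x}
  haveI := hfin
  have h := (Algebra.IsIntegral.of_finite A (Algebra.adjoin A ({x₀} : Set S))).isIntegral ⟨x, hs (by simp)⟩
  exact h.map (Algebra.adjoin A ({x₀} : Set S)).val⟩

theorem isLocalHom_of_henselian (D : Subalgebra A S) : IsLocalHom (algebraMap D S) := by
  haveI := isIntegral_sh (A := A) (S := S)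
  haveI : Algebra.IsIntegral D S := Algebra.IsIntegral.tower_top (R := A)
  refine ⟨fun d hd => ?_⟩
  by_contra hn
  obtain ⟨M, hM, hdM⟩ := exists_max_ideal_of_mem_nonunits hn
  haveI := hM
  obtain ⟨M', hM', hM'M⟩ := Ideal.exists_ideal_over_maximal_of_isIntegral M (by
    rw [(RingHom.injective_iff_ker_eq_bot (algebraMap D S)).1 Subtype.val_injective]
    exact bot_le)
  exact hM'.ne_top (Ideal.eq_top_of_isUnit_mem _ (hM'M.ge hdM : algebraMap D S d ∈ M') hd)

theorem isLocalRing_of_henselian (D : Subalgebra A S) : IsLocalRing D := by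
  haveI := isLocalHom_of_henselian D
  refine IsLocalRing.of_isUnit_or_isUnit_one_sub_self fun d => ?_
  rcases IsLocalRing.isUnit_or_isUnit_one_sub_self (d : S) with h | h
  · exact Or.inl (isUnit_of_map_unit (algebraMap D S) d h)
  · exact Or.inr (isUnit_of_map_unit (algebraMap D S) (1 - d) h)

theorem ker_comp_fractionRing {D : Type u} [CommRing D] (P : Ideal D) [P.IsPrime] :
    RingHom.ker ((algebraMap (D ⧸ P) (FractionRing (D ⧸ P))).comp (Ideal.Quotient.mk P)) = P := by
  rw [RingHom.ker_comp_of_injective _ (IsFractionRing.injective (D ⧸ P) _), Ideal.mk_ker]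

theorem frac_comp_fractionRing {D : Type u} [CommRing D] (P : Ideal D) [P.IsPrime]
    (z : FractionRing (D ⧸ P)) : ∃ a b : D,
      algebraMap (D ⧸ P) _ (Ideal.Quotient.mk P b) ≠ (0 : FractionRing (D ⧸ P)) ∧
      z * algebraMap (D ⧸ P) _ (Ideal.Quotient.mk P b) = algebraMap (D ⧸ P) _ (Ideal.Quotient.mk P a) := by
  obtain ⟨⟨a, b⟩, h⟩ := IsLocalization.surj (D ⧸ P)⁰ z
  obtain ⟨a', rfl⟩ := Ideal.Quotient.mk_surjective a
  obtain ⟨b', hb'⟩ := Ideal.Quotient.mk_surjective (b : D ⧸ P)
  refine ⟨a', b', ?_, ?_⟩
  · rw [hb']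
    exact ((IsLocalization.map_units (FractionRing (D ⧸ P)) b)).ne_zero
  · rw [hb']
    exact h

/-- All minimal primes stay prime in the strict henselization when the residue fields of the
normalization are purely inseparable. -/
theorem isPrime_map_of_resPurelyInsep [IsReduced A] [IsNoetherianRing A] (hres : ResPurelyInsep A)
    {q : Ideal A} [q.IsPrime] (hq : q ∈ minimalPrimes A) : (q.map (algebraMap A S)).IsPrime := by
  have h := isPrime_map (S := S) ((algebraMap (A ⧸ q) (FractionRing (A ⧸ q))).comp (Ideal.Quotient.mk q))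
    fun f hf hir hsep => irreducible_map_of_resPurelyInsep hres _ (frac_comp_fractionRing q)
      (by rw [ker_comp_fractionRing]; exact hq) f hf hir hsep
  rwa [ker_comp_fractionRing] at h

/-- A finite subalgebra with the same residue field and purely inseparable residue fields of
normalization is trivial. -/
theorem eq_bot_of_resPurelyInsep [IsReduced A] [IsNoetherianRing A] (D : Subalgebra A S)
    [Module.Finite A D] (hkD : ∀ d : D, ∃ a : A, residue S (d : S) = residue S (algebraMap A S a))
    (hres : ResPurelyInsep D) : D = ⊥ := by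
  classical
  haveI : IsNoetherianRing S := isNoetherianRing_sh (A := A)
  haveI : IsReduced S := by
    obtain ⟨e⟩ := Henselization.exists_algEquiv_of_isStrictHenselization A S
    exact (Henselization.isReduced_of_equiv e).2 inferInstance
  haveI : Module.Flat A S := flat_sh
  haveI : Module.FaithfullyFlat A S := Module.FaithfullyFlat.of_flat_of_isLocalHom
  haveI := isLocalRing_of_henselian D
  haveI := isLocalHom_of_henselian D
  haveI := isLocalHom_base D
  haveI : IsReduced D := isReduced_of_injective D.val Subtype.val_injective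
  haveI : IsNoetherianRing D := IsNoetherianRing.of_finite A D
  haveI : Algebra.IsIntegral A D := Algebra.IsIntegral.of_finite A D
  have hbij : Function.Bijective (ResidueField.map (algebraMap A D)) := by
    refine ⟨RingHom.injective _, fun z => ?_⟩
    obtain ⟨d, rfl⟩ := residue_surjective z
    obtain ⟨a, ha⟩ := hkD d
    refine ⟨residue A a, (ResidueField.map (algebraMap D S)).injective ?_⟩
    exact ha.symm
  have hfk : ∀ f : A[X], (f.map (algebraMap A D)).map (residue D) =
      (f.map (residue A)).map (ResidueField.map (algebraMap A D)) := fun f => by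
    rw [Polynomial.map_map, Polynomial.map_map]
    rfl
  have hirD : ∀ f : A[X], Irreducible (f.map (residue A)) →
      Irreducible ((f.map (algebraMap A D)).map (residue D)) := fun f hf => by
    rw [hfk]
    exact (MulEquiv.irreducible_iff (f := (Polynomial.mapEquiv (RingEquiv.ofBijective _ hbij)).toMulEquiv)).2 hf
  -- minimal primes of the base stay prime
  have hprime : ∀ q ∈ minimalPrimes A, (q.map (algebraMap A S)).IsPrime := by
    intro q hq
    haveI := hq.1.1
    obtain ⟨P₀, -, hP₀, hP₀q⟩ := Ideal.exists_ideal_over_prime_of_isIntegral q (⊥ : Ideal D) (by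
      rw [← RingHom.ker_eq_comap_bot, (RingHom.injective_iff_ker_eq_bot (algebraMap A D)).1
        (Function.Injective.of_comp (f := D.val) (FaithfulSMul.algebraMap_injective A S))]
      exact bot_le)
    haveI := hP₀
    obtain ⟨P, hP, hPle⟩ := Ideal.exists_minimalPrimes_le (I := (⊥ : Ideal D)) (J := P₀) bot_le
    haveI := hP.1.1
    have hPq : P.comap (algebraMap A D) = q :=
      le_antisymm ((Ideal.comap_mono hPle).trans hP₀q.le)
        (hq.2 ⟨Ideal.IsPrime.comap _, bot_le⟩ ((Ideal.comap_mono hPle).trans hP₀q.le))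
    let κD : D →+* FractionRing (D ⧸ P) :=
      (algebraMap (D ⧸ P) (FractionRing (D ⧸ P))).comp (Ideal.Quotient.mk P)
    have h := isPrime_map (S := S) (κD.comp (algebraMap A D)) fun f hf hir hsep => by
      rw [← Polynomial.map_map]
      exact irreducible_map_of_resPurelyInsep hres κD (frac_comp_fractionRing P)
        (by rw [ker_comp_fractionRing]; exact hP) _ (hf.map _) (hirD f hir)
        (by rw [hfk]; exact hsep.map)
    rwa [← RingHom.comap_ker, ker_comp_fractionRing, hPq] at h
  -- the branches of `D` are those of the base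
  have key : ∀ q ∈ minimalPrimes A, ∀ d : D, ∃ a : A, (d : S) - algebraMap A S a ∈ q.map (algebraMap A S) := by
    intro q hq
    let Q := q.map (algebraMap A S)
    haveI : Q.IsPrime := hprime q hq
    haveI := hq.1.1
    let φ : S →+* FractionRing (S ⧸ Q) := (algebraMap (S ⧸ Q) _).comp (Ideal.Quotient.mk Q)
    obtain ⟨s, hs⟩ := Module.Finite.fg_top (R := A) (M := D)
    let t : Finset (FractionRing (S ⧸ Q)) := s.image fun d : D => φ (d : S)
    obtain ⟨x₀, E, hE, hEfin, hEinv, -, -, hEloc, hElh, hEunr⟩ := exists_finite_inter (A := A) Q t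
    haveI := hEfin
    haveI := hEloc
    haveI := hElh
    haveI := hEunr
    let L : Subfield (FractionRing (S ⧸ Q)) :=
      Subfield.closure (Set.range (algebraMap A (FractionRing (S ⧸ Q))) ∪
        (t : Set (FractionRing (S ⧸ Q))))
    have hDL : ∀ d : D, φ (d : S) ∈ L := by
      intro d
      have hd : d ∈ Submodule.span A (s : Set D) := hs.ge trivial
      induction hd using Submodule.span_induction with
      | mem d hd => exact Subfield.subset_closure (Or.inr (Finset.mem_image_of_mem _ hd))
      | zero => rw [ZeroMemClass.coe_zero, map_zero]; exact L.zero_mem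
      | add a b _ _ ha hb => rw [Subalgebra.coe_add, map_add]; exact L.add_mem ha hb
      | smul c a _ ha =>
        rw [Subalgebra.coe_smul, Algebra.smul_def, map_mul]
        exact L.mul_mem (Subfield.subset_closure (Or.inl ⟨c, rfl⟩)) ha
    have hDE : ∀ d : D, Ideal.Quotient.mk Q (d : S) ∈ E := fun d => by
      rw [← SetLike.mem_coe, hE]
      exact hDL d
    let κ : D →+* L := (φ.comp D.val.toRingHom).codRestrict L hDL
    have hgen : L ≤ Subfield.closure (((φ.comp D.val.toRingHom).range : Subring _) : Set _) := by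
      refine Subfield.closure_le.2 ?_
      rintro z (⟨a, rfl⟩ | hz)
      · exact Subfield.subset_closure ⟨algebraMap A D a, rfl⟩
      · obtain ⟨d, -, rfl⟩ := Finset.mem_image.1 hz
        exact Subfield.subset_closure ⟨d, rfl⟩
    have hfrac : ∀ z : L, ∃ a b : D, κ b ≠ 0 ∧ z * κ b = κ a := fun z => by
      obtain ⟨p, hp, r, hr, hpr⟩ := Subfield.mem_closure_iff.1 (hgen z.2)
      rw [Subring.closure_eq] at hp hr
      obtain ⟨a, rfl⟩ := hp
      obtain ⟨b, rfl⟩ := hr
      by_cases hb : (φ.comp D.val.toRingHom) b = 0
      · refine ⟨0, 1, by rw [map_one]; exact one_ne_zero, ?_⟩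
        rw [map_one, mul_one, map_zero]
        exact Subtype.ext (by rw [← hpr, hb, div_zero]; rfl)
      · exact ⟨a, b, fun h => hb (congrArg Subtype.val h),
          Subtype.ext (by
            show (z : FractionRing (S ⧸ Q)) * _ = _
            rw [← hpr]
            exact div_mul_cancel₀ _ hb)⟩
    have hmin : RingHom.ker κ ∈ minimalPrimes D := by
      have hk : RingHom.ker κ = Q.comap (algebraMap D S) := by
        ext d
        rw [RingHom.mem_ker, Ideal.mem_comap, ← Ideal.Quotient.eq_zero_iff_mem]
        exact ⟨fun h => IsFractionRing.injective (S ⧸ Q) (FractionRing (S ⧸ Q))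
            ((congrArg Subtype.val h).trans (map_zero _).symm),
          fun h => Subtype.ext (by
            show algebraMap (S ⧸ Q) _ (Ideal.Quotient.mk Q (algebraMap D S d)) = 0
            rw [h, map_zero])⟩
      rw [hk]
      refine ⟨⟨Ideal.IsPrime.comap _, bot_le⟩, fun P hP hle => ?_⟩
      haveI := hP.1
      refine (eq_or_lt_of_le hle).elim (fun h => h.ge) fun hlt => ?_
      have h1 := Ideal.IsIntegral.comap_lt_comap (R := A) hlt
      have h2 : (Q.comap (algebraMap D S)).comap (algebraMap A D) = q := by
        rw [Ideal.comap_comap, ← IsScalarTower.algebraMap_eq, Ideal.comap_map_eq_self_of_faithfullyFlat]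
      exact absurd (hq.2 ⟨Ideal.IsPrime.comap _, bot_le⟩ (h1.le.trans_eq h2)) (fun h =>
        (h1.trans_eq h2).not_ge h)
    haveI : HenselianLocalRing E := by
      haveI : Algebra.IsIntegral A E := Algebra.IsIntegral.of_finite A E
      exact SHTensor.henselian_of_isIntegral A E
    haveI : Algebra.IsSeparable (ResidueField A) (ResidueField E) := inferInstance
    haveI : Module.Finite (ResidueField A) (ResidueField E) :=
      Algebra.FormallyUnramified.finite_of_free _ _
    have hEres : ∀ z : E, ∃ a : A, z - algebraMap A E a ∈ maximalIdeal E := by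
      intro z
      have hzs : IsSeparable (ResidueField A) (residue E z) := Algebra.IsSeparable.isSeparable _ _
      obtain ⟨f, hf, -, hfm⟩ := Polynomial.lifts_and_natDegree_eq_and_monic
        (show minpoly (ResidueField A) (residue E z) ∈ Polynomial.lifts (residue A) from
          (Polynomial.lifts_iff_coeff_lifts _).2 fun _ => residue_surjective _)
        (minpoly.monic hzs.isIntegral)
      have hev : ∀ p : A[X], residue E ((p.map (algebraMap A E)).eval z) =
          aeval (residue E z) (p.map (residue A)) := fun p => by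
        rw [eval_map, Polynomial.hom_eval₂, aeval_def, eval₂_map]
        rfl
      obtain ⟨w, hw, hwz⟩ := HenselianLocalRing.is_henselian (f.map (algebraMap A E)) (hfm.map _) z
        (by rw [← residue_eq_zero_iff, hev, hf, minpoly.aeval])
        (by
          rw [derivative_map, ← residue_ne_zero_iff_isUnit, hev, ← derivative_map, hf]
          exact hzs.aeval_derivative_ne_zero (minpoly.aeval _ _))
      have hwL : algebraMap (S ⧸ Q) (FractionRing (S ⧸ Q)) (w : S ⧸ Q) ∈ L := by
        have hw2 : (w : S ⧸ Q) ∈ (E : Set (S ⧸ Q)) := w.2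
        rw [hE] at hw2
        exact hw2
      have hirK : Irreducible ((f.map (algebraMap A D)).map κ) :=
        irreducible_map_of_resPurelyInsep hres κ hfrac hmin _ (hfm.map _)
          (hirD f (hf ▸ minpoly.irreducible hzs.isIntegral))
          (by rw [hfk, hf]; exact (show (minpoly (ResidueField A) (residue E z)).Separable from hzs).map)
      have hroot : ((f.map (algebraMap A D)).map κ).IsRoot ⟨_, hwL⟩ := by
        rw [IsRoot, Polynomial.map_map, eval_map]
        apply Subtype.ext
        show L.subtype _ = 0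
        rw [Polynomial.hom_eval₂]
        show eval₂ _ ((algebraMap (S ⧸ Q) (FractionRing (S ⧸ Q))).comp E.val.toRingHom w) f = 0
        rw [show L.subtype.comp (κ.comp (algebraMap A D)) =
            ((algebraMap (S ⧸ Q) (FractionRing (S ⧸ Q))).comp E.val.toRingHom).comp (algebraMap A E) from
            RingHom.ext fun a => rfl,
          ← Polynomial.hom_eval₂, ← eval_map,
          show (f.map (algebraMap A E)).eval w = 0 from hw, map_zero]
      have hdeg := natDegree_eq_of_degree_eq_some (degree_eq_one_of_irreducible_of_root hirK hroot)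
      rw [(hfm.map _).natDegree_map, hfm.natDegree_map] at hdeg
      have h1 : (minpoly (ResidueField A) (residue E z)).natDegree = 1 := by
        rw [← hf, hfm.natDegree_map]; exact hdeg
      obtain ⟨c, hc⟩ := minpoly.natDegree_eq_one_iff.1 h1
      obtain ⟨a, rfl⟩ := residue_surjective c
      refine ⟨a, ?_⟩
      rw [← residue_eq_zero_iff, map_sub, sub_eq_zero]
      exact hc.symm
    have hEtop : LinearMap.range (Algebra.linearMap A E) = ⊤ := by
      refine top_le_iff.1 (Submodule.le_of_le_smul_of_le_jacobson_bot Module.Finite.fg_top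
        (jacobson_eq_maximalIdeal (⊥ : Ideal A) bot_ne_top).ge ?_)
      intro z _
      obtain ⟨a, ha⟩ := hEres z
      refine Submodule.mem_sup.2 ⟨algebraMap A E a, ⟨a, rfl⟩, z - algebraMap A E a, ?_, by abel⟩
      rw [Ideal.smul_top_eq_map, Submodule.restrictScalars_mem,
        Algebra.FormallyUnramified.map_maximalIdeal]
      exact ha
    intro d
    obtain ⟨a, ha⟩ := hEtop.ge (Submodule.mem_top (x := (⟨_, hDE d⟩ : E)))
    refine ⟨a, ?_⟩
    rw [← Ideal.Quotient.eq_zero_iff_mem, map_sub, sub_eq_zero]
    exact (congrArg Subtype.val ha).symm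
  -- glue
  refine eq_bot_iff.2 fun d hd => ?_
  choose a ha using fun q : {q // q ∈ minimalPrimes A} => key q.1 q.2 ⟨d, hd⟩
  haveI : Fintype {q // q ∈ minimalPrimes A} :=
    (Ideal.finite_minimalPrimes_of_isNoetherianRing A ⊥).fintype
  have hex : ∀ q : {q // q ∈ minimalPrimes A}, ∃ e : A, e ∉ q.1 ∧
      ∀ q' : {q // q ∈ minimalPrimes A}, q' ≠ q → e ∈ q'.1 := by
    intro q
    haveI := q.2.1.1
    have hnle : ¬ (Finset.univ.erase q).inf (fun q' => q'.1) ≤ q.1 := by
      intro h
      obtain ⟨q', hq', hle⟩ := (Ideal.IsPrime.inf_le' q.2.1.1).1 h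
      refine (Finset.mem_erase.1 hq').1 (Subtype.ext ?_)
      exact le_antisymm hle (q.2.2 q'.2.1 hle)
    obtain ⟨e, he, heq⟩ := SetLike.not_le_iff_exists.1 hnle
    refine ⟨e, heq, fun q' hq' => ?_⟩
    exact (Finset.inf_le (Finset.mem_erase.2 ⟨hq', Finset.mem_univ _⟩) :
      (Finset.univ.erase q).inf (fun q' => q'.1) ≤ q'.1) he
  choose e he heo using hex
  have hzero : ∀ x : A, (∀ q ∈ minimalPrimes A, x ∈ q) → x = 0 := fun x hx => by
    refine IsNilpotent.eq_zero (mem_nilradical.1 ?_)
    rw [nilradical, Ideal.zero_eq_bot, ← Ideal.sInf_minimalPrimes]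
    exact Ideal.mem_sInf.2 fun {q} hq => hx q hq
  let a' : A := ∑ q, e q
  have ha' : ∀ y : A, a' * y = 0 → y = 0 := by
    intro y hy
    refine hzero y fun q hq => ?_
    haveI := hq.1.1
    refine (Ideal.IsPrime.mem_or_mem ‹q.IsPrime› (hy ▸ q.zero_mem : a' * y ∈ q)).resolve_left fun h => ?_
    refine he ⟨q, hq⟩ ?_
    have h1 : ∑ q' ∈ Finset.univ.erase (⟨q, hq⟩ : {q // q ∈ minimalPrimes A}), e q' ∈ q :=
      Ideal.sum_mem _ fun q' hq' => heo q' ⟨q, hq⟩ (Finset.mem_erase.1 hq').1.symm
    have h2 : e ⟨q, hq⟩ + ∑ q' ∈ Finset.univ.erase (⟨q, hq⟩ : {q // q ∈ minimalPrimes A}), e q' = a' :=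
      Finset.add_sum_erase _ _ (Finset.mem_univ _)
    rw [show e ⟨q, hq⟩ = a' - ∑ q' ∈ Finset.univ.erase (⟨q, hq⟩ : {q // q ∈ minimalPrimes A}), e q' by
      rw [← h2]; ring]
    exact q.sub_mem h h1
  have heq : ∀ q, algebraMap A S (e q) * (d - algebraMap A S (a q)) = 0 := by
    intro q
    have h1 : algebraMap A S (e q) * (d - algebraMap A S (a q)) ∈
        (Ideal.span {e q} * q.1).map (algebraMap A S) := by
      rw [Ideal.map_mul]
      exact Ideal.mul_mem_mul (Ideal.mem_map_of_mem _ (Ideal.subset_span rfl)) (ha q)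
    have h2 : Ideal.span {e q} * q.1 = ⊥ := by
      rw [eq_bot_iff, Ideal.mul_le]
      intro r hr x hx
      obtain ⟨c, rfl⟩ := Ideal.mem_span_singleton'.1 hr
      refine Ideal.mem_bot.2 (hzero _ fun q' hq' => ?_)
      by_cases h : (⟨q', hq'⟩ : {q // q ∈ minimalPrimes A}) = q
      · subst h
        exact q'.mul_mem_left _ hx
      · exact q'.mul_mem_right _ (q'.mul_mem_left _ (heo q ⟨q', hq'⟩ h))
    rwa [h2, Ideal.map_bot, Ideal.mem_bot] at h1
  have hb : algebraMap A S a' * d = algebraMap A S (∑ q, e q * a q) := by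
    rw [map_sum, map_sum, Finset.sum_mul]
    refine Finset.sum_congr rfl fun q _ => ?_
    rw [map_mul, ← sub_eq_zero, ← mul_sub]
    exact heq q
  have h1 : (∑ q, e q * a q) ∈ ((Ideal.span {a'}).map (algebraMap A S)).comap (algebraMap A S) := by
    rw [Ideal.mem_comap, ← hb, Ideal.map_span, Set.image_singleton]
    exact Ideal.mul_mem_right _ _ (Ideal.subset_span rfl)
  rw [Ideal.comap_map_eq_self_of_faithfullyFlat] at h1
  obtain ⟨c, hc⟩ := Ideal.mem_span_singleton'.1 h1
  refine ⟨c, ?_⟩
  show algebraMap A S c = d
  rw [← hc, map_mul] at hb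
  have hreg : IsSMulRegular S a' := Module.Flat.isSMulRegular_of_isRegular
    (isRegular_iff_mem_nonZeroDivisors.mpr (mem_nonZeroDivisors_iff_right.2
      fun y hy => ha' y (by rw [mul_comm]; exact hy)))
  refine hreg ?_
  show a' • algebraMap A S c = a' • d
  rw [Algebra.smul_def, Algebra.smul_def, hb]
  ring

end

theorem isEssentiallyEtale_of_etale_local {A D : Type u} [CommRing A] [IsLocalRing A] [CommRing D]
    [IsLocalRing D] [Algebra A D] [IsLocalHom (algebraMap A D)] [Algebra.Etale A D] :
    EGA4loc.IsEssentiallyEtale A D := by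
  refine ⟨D, inferInstance, inferInstance, maximalIdeal D, inferInstance, inferInstance,
    ((local_hom_TFAE (algebraMap A D)).out 0 4 rfl rfl).mp inferInstance, ?_⟩
  haveI : IsLocalization (maximalIdeal D).primeCompl D := SHTensor.isLocalization_self D
  exact ⟨(IsLocalization.algEquiv (maximalIdeal D).primeCompl D
    (Localization.AtPrime (maximalIdeal D))).restrictScalars A⟩

section

variable {A S : Type u} [CommRing A] [IsLocalRing A] [CommRing S] [IsLocalRing S] [Algebra A S]
  [IsLocalHom (algebraMap A S)] [Hensel.IsStrictHenselization A S]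

/-- A strict henselization is a strict henselization of its essentially étale local subalgebras. -/
theorem isStrictHenselization_subalgebra (B : Subalgebra A S) [IsLocalRing B]
    [IsLocalHom (algebraMap A B)] [IsLocalHom (algebraMap B S)]
    (hB : EGA4loc.IsEssentiallyEtale A B) : Hensel.IsStrictHenselization B S := by
  refine SHTensor.isStrictHenselization_of_intermediate A B S fun W _ _ f f' hf hf' hA hr => ?_
  letI : Algebra A W := (f.comp (algebraMap A B)).toAlgebra
  let g : B →ₐ[A] W := { f with commutes' := fun a => rfl }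
  let g' : B →ₐ[A] W := { f' with commutes' := fun a => (RingHom.congr_fun hA a).symm }
  exact congrArg AlgHom.toRingHom (EssEtLift.algHom_ext hB (f := g) (g := g') hr)

end

end

end Groth.Agent.SHInter
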