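import Groth.Agent.SHInter.SplitCriterion

/-!
Minimal primes of a strict henselization and essentially étale bases.
-/

set_option autoImplicit false

universe u

open IsLocalRing Polynomial
open scoped nonZeroDivisors

namespace Groth.Agent.SHInter

noncomputable section

/-- All minimal primes are extended iff the residue fields of the normalization are purely
inseparable. -/
theorem minimalPrimes_extended_iff {B S : Type u} [CommRing B] [HenselianLocalRing B] [IsReduced B]
    [IsNoetherianRing B] [CommRing S] [IsLocalRing S] [Algebra B S] [IsLocalHom (algebraMap B S)]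
    [Hensel.IsStrictHenselization B S] :
    (∀ Q ∈ minimalPrimes S, Q = Ideal.map (algebraMap B S) (Q.comap (algebraMap B S))) ↔
      ResPurelyInsep B := by
  haveI : Module.Flat B S := flat_sh
  haveI : Module.FaithfullyFlat B S := Module.FaithfullyFlat.of_flat_of_isLocalHom
  haveI : HenselianRing B (maximalIdeal B) :=
    Groth.Agent.Hensel.henselianRing_maximalIdeal_iff.2 inferInstance
  constructor
  · intro hQ
    refine resPurelyInsep_of_irreducible fun K _ κ hfrac hmin f hf hir hsep =>
      irreducible_map_of_isPrime (S := S) κ hfrac ?_ f hf hir hsep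
    haveI := hmin.1.1
    obtain ⟨Q₀, hQ₀⟩ := PrimeSpectrum.comap_surjective_of_faithfullyFlat (A := B) (B := S)
      ⟨RingHom.ker κ, hmin.1.1⟩
    obtain ⟨Q, hQm, hQle⟩ := Ideal.exists_minimalPrimes_le (I := (⊥ : Ideal S)) (J := Q₀.asIdeal) bot_le
    haveI := hQm.1.1
    have hle : Q.comap (algebraMap B S) ≤ RingHom.ker κ :=
      (Ideal.comap_mono hQle).trans (congrArg PrimeSpectrum.asIdeal hQ₀).le
    have heq : Q.comap (algebraMap B S) = RingHom.ker κ :=
      le_antisymm hle (hmin.2 ⟨Ideal.IsPrime.comap _, bot_le⟩ hle)
    rw [← heq, ← hQ Q hQm]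
    exact hQm.1.1
  · intro hres Q hQ
    haveI := hQ.1.1
    have hP : Q.comap (algebraMap B S) ∈ minimalPrimes B := by
      refine ⟨⟨Ideal.IsPrime.comap _, bot_le⟩, fun P' hP' hle => ?_⟩
      haveI := hP'.1
      haveI : Q.LiesOver (Q.comap (algebraMap B S)) := ⟨rfl⟩
      obtain ⟨Q', hQ'le, hQ'p, hQ'o⟩ := Ideal.exists_ideal_le_liesOver_of_le Q hle
      have := hQ.2 ⟨hQ'p, bot_le⟩ hQ'le
      rw [hQ'o.over]
      exact Ideal.comap_mono this
    have hprime : ((Q.comap (algebraMap B S)).map (algebraMap B S)).IsPrime :=
      isPrime_map_of_resPurelyInsep hres hP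
    exact le_antisymm (hQ.2 ⟨hprime, bot_le⟩ Ideal.map_comap_le) Ideal.map_comap_le

variable {A S E : Type u} [CommRing A] [HenselianLocalRing A] [IsNoetherianRing A] [CommRing S]
  [IsLocalRing S] [Algebra A S] [IsLocalHom (algebraMap A S)] [Hensel.IsStrictHenselization A S]
  [CommRing E] [IsLocalRing E] [Algebra A E] [IsLocalHom (algebraMap A E)] [Algebra E S]
  [IsScalarTower A E S] [IsLocalHom (algebraMap E S)]

variable (S) in
include S in
/-- An essentially étale local algebra over a henselian Noetherian base is finite. -/
theorem finite_of_essEt_henselian (hE : EGA4loc.IsEssentiallyEtale A E) : Module.Finite A E := by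
  classical
  haveI := essFiniteType_of_essEt hE
  haveI := faithfullyFlat_of_essEt (S := S) hE
  let U := Algebra.EssFiniteType.subalgebra A E
  obtain ⟨f, x₀, -, -, -, -, hsW, hWloc, hWlh, -, hWfin, -⟩ :=
    exists_monogenic_stage A S ((Algebra.EssFiniteType.finset A E).image (algebraMap E S))
  haveI := hWfin
  haveI := hWloc
  haveI := hWlh
  let W := Algebra.adjoin A ({x₀} : Set S)
  have hU : ∀ p : U, algebraMap E S (p : E) ∈ W := fun p => by
    have h : U.map (IsScalarTower.toAlgHom A E S) ≤ W := by
      show (Algebra.adjoin A _).map _ ≤ W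
      rw [AlgHom.map_adjoin, Algebra.adjoin_le_iff]
      rintro _ ⟨e, he, rfl⟩
      exact hsW (Finset.mem_image_of_mem _ he)
    exact h ⟨p, p.2, rfl⟩
  have hmem : ∀ e : E, algebraMap E S e ∈ W := fun e => by
    obtain ⟨⟨p, q, hq⟩, hpq⟩ :=
      IsLocalization.surj (Algebra.EssFiniteType.submonoid A E) (S := E) e
    obtain ⟨v, hv⟩ := isUnit_of_map_unit (algebraMap W S) ⟨_, hU q⟩
      ((show IsUnit (q : E) from hq).map (algebraMap E S))
    have hpq' : algebraMap E S e * algebraMap E S (q : E) = algebraMap E S (p : E) := by
      rw [← map_mul]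
      exact congrArg _ hpq
    have hvs : algebraMap E S (q : E) * ((↑v⁻¹ : W) : S) = 1 := by
      have h1 := congrArg Subtype.val v.mul_inv
      rw [MulMemClass.coe_mul, hv] at h1
      exact h1
    rw [show algebraMap E S e = algebraMap E S (p : E) * ((↑v⁻¹ : W) : S) by
      rw [← hpq', mul_assoc, hvs, mul_one]]
    exact mul_mem (hU p) (SetLike.coe_mem _)
  exact Module.Finite.of_injective
    ((IsScalarTower.toAlgHom A E S).codRestrict W hmem).toLinearMap
    fun a b h => FaithfulSMul.algebraMap_injective E S (congrArg Subtype.val h)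

omit [CommRing S] [IsLocalRing S] [Algebra A S] [IsLocalHom (algebraMap A S)]
  [Hensel.IsStrictHenselization A S] [Algebra E S] [IsScalarTower A E S] [IsLocalHom (algebraMap E S)] in
/-- A finite unramified local algebra over a henselian base is generated by a simple root. -/
theorem exists_generator [Module.Finite A E] [Algebra.FormallyUnramified A E] [HenselianLocalRing E] :
    ∃ (x : E) (f : A[X]), f.Monic ∧ aeval x f = 0 ∧ IsUnit (aeval x f.derivative) ∧
      ∀ b, ∃ g : A[X], aeval x g = b := by
  classical
  haveI : Module.Finite (ResidueField A) (ResidueField E) :=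
    Algebra.FormallyUnramified.finite_of_free _ _
  haveI : Algebra.IsSeparable (ResidueField A) (ResidueField E) := inferInstance
  obtain ⟨θ, hθ⟩ := Field.exists_primitive_element (ResidueField A) (ResidueField E)
  have hint : IsIntegral (ResidueField A) θ := IsIntegral.of_finite _ _
  obtain ⟨f, hf, -, hfm⟩ := Polynomial.lifts_and_natDegree_eq_and_monic
    (show minpoly (ResidueField A) θ ∈ Polynomial.lifts (residue A) from
      (Polynomial.lifts_iff_coeff_lifts _).2 fun _ => residue_surjective _) (minpoly.monic hint)
  have hev : ∀ (g : A[X]) (y : E), residue E (aeval y g) = aeval (residue E y) (g.map (residue A)) :=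
    fun g y => by
      rw [aeval_def, Polynomial.hom_eval₂, aeval_def, eval₂_map]
      rfl
  obtain ⟨y₀, hy₀⟩ := residue_surjective θ
  have hd : aeval θ (derivative (f.map (residue A))) ≠ 0 := by
    rw [hf]
    exact (Algebra.IsSeparable.isSeparable (ResidueField A) θ).aeval_derivative_ne_zero (minpoly.aeval _ _)
  obtain ⟨x, hx, hxy⟩ := HenselianLocalRing.is_henselian (f.map (algebraMap A E)) (hfm.map _) y₀
    (by rw [eval_map, ← aeval_def, ← residue_eq_zero_iff, hev, hy₀, hf, minpoly.aeval])
    (by
      rw [derivative_map, eval_map, ← aeval_def, ← residue_ne_zero_iff_isUnit, hev, hy₀, ← derivative_map]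
      exact hd)
  have hres : residue E x = θ := by
    rw [← hy₀, ← sub_eq_zero, ← map_sub, residue_eq_zero_iff]
    exact hxy
  refine ⟨x, f, hfm, by rw [aeval_def, ← eval_map]; exact hx, ?_, fun b => ?_⟩
  · rw [← residue_ne_zero_iff_isUnit, hev, hres, ← derivative_map]
    exact hd
  · have htop : LinearMap.range (aeval x : A[X] →ₐ[A] E).toLinearMap = ⊤ := by
      refine top_le_iff.1 (Submodule.le_of_le_smul_of_le_jacobson_bot Module.Finite.fg_top
        (jacobson_eq_maximalIdeal (⊥ : Ideal A) bot_ne_top).ge ?_)
      intro z _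
      have hz : residue E z ∈ (IntermediateField.adjoin (ResidueField A) {θ}).toSubalgebra := by
        rw [hθ]; trivial
      rw [IntermediateField.adjoin_simple_toSubalgebra_of_isAlgebraic hint.isAlgebraic,
        Algebra.adjoin_singleton_eq_range_aeval] at hz
      obtain ⟨G, hG⟩ := hz
      obtain ⟨G, rfl⟩ := Polynomial.map_surjective _ residue_surjective G
      refine Submodule.mem_sup.2 ⟨aeval x G, ⟨G, rfl⟩, z - aeval x G, ?_, by abel⟩
      rw [Ideal.smul_top_eq_map, Submodule.restrictScalars_mem,
        Algebra.FormallyUnramified.map_maximalIdeal, ← residue_eq_zero_iff, map_sub, sub_eq_zero, hev, hres]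
      exact hG.symm
    obtain ⟨g, hg⟩ := htop.ge (Submodule.mem_top (x := b))
    exact ⟨g, hg⟩

/-- The splitting criterion. -/
theorem minimalPrimes_extended_iff_natCard {A S E : Type u} [CommRing A] [HenselianLocalRing A]
    [IsDomain A] [IsNoetherianRing A] [IsLocalRing (integralClosure A (FractionRing A))]
    [IsLocalHom (algebraMap A (integralClosure A (FractionRing A)))]
    [CommRing S] [IsLocalRing S] [Algebra A S] [IsLocalHom (algebraMap A S)]
    [Hensel.IsStrictHenselization A S] [CommRing E] [IsLocalRing E] [Algebra A E]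
    [IsLocalHom (algebraMap A E)] (hE : EGA4loc.IsEssentiallyEtale A E) [Algebra E S]
    [IsScalarTower A E S] :
    (∀ Q ∈ minimalPrimes S, Q = Ideal.map (algebraMap E S) (Q.comap (algebraMap E S))) ↔
      Nat.card (separableClosure (ResidueField A) (ResidueField (integralClosure A (FractionRing A))) →ₐ[ResidueField A]
          ResidueField E) =
        Module.finrank (ResidueField A)
          (separableClosure (ResidueField A) (ResidueField (integralClosure A (FractionRing A)))) := by
  haveI : IsLocalHom (algebraMap E S) :=
    _root_.EtAlgEasy.isLocalHom_of_essEtale hE (IsScalarTower.toAlgHom A E S)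
  haveI := (inferInstance : Hensel.IsStrictHenselization A S).henselian
  haveI : Module.Finite A E := finite_of_essEt_henselian S hE
  haveI : Algebra.IsIntegral A E := Algebra.IsIntegral.of_finite A E
  haveI : HenselianLocalRing E := SHTensor.henselian_of_isIntegral A E
  haveI := formallyEtale_of_essEt hE
  haveI := flat_of_essEt hE
  haveI := isReduced_of_essEt hE
  haveI : IsNoetherianRing E := IsNoetherianRing.of_finite A E
  haveI : Hensel.IsStrictHenselization E S :=
    SHTensor.isStrictHenselization_of_intermediate A E S fun W _ _ f f' hf hf' hA hr => by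
      letI : Algebra A W := (f.comp (algebraMap A E)).toAlgebra
      let g : E →ₐ[A] W := { f with commutes' := fun a => rfl }
      let g' : E →ₐ[A] W := { f' with commutes' := fun a => (RingHom.congr_fun hA a).symm }
      exact congrArg AlgHom.toRingHom (EssEtLift.algHom_ext hE (f := g) (g := g') hr)
  haveI : FiniteDimensional (ResidueField A) (ResidueField (integralClosure A (FractionRing A))) := by
    haveI : Module.Finite A (ResidueField (integralClosure A (FractionRing A))) :=
      (Groth.Agent.S2474.result (A := A) (K' := FractionRing A)).2 _ (maximalIdeal.isMaximal _)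
    exact Module.Finite.of_restrictScalars_finite A _ _
  rw [minimalPrimes_extended_iff, ← sepSplits_iff_natCard]
  refine ⟨fun h => sepSplits_of_resPurelyInsep h, fun h => ?_⟩
  obtain ⟨x, f, hfm, hfx, hu, hgen⟩ := exists_generator (A := A) (E := E)
  exact resPurelyInsep_of_sepSplits x hfm hfx hu hgen h

end

end Groth.Agent.SHInter
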