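import Groth.Agent.SHInter.Basic

/-!
Unramified local subalgebras of a strict henselization are essentially étale.
-/

set_option autoImplicit false

universe u

open IsLocalRing

namespace Groth.Agent.SHInter

open Henselization

noncomputable section

variable {A S : Type u} [CommRing A] [IsLocalRing A] [CommRing S] [IsLocalRing S] [Algebra A S]
  [IsLocalHom (algebraMap A S)]

theorem isLocalHom_base (D : Subalgebra A S) [IsLocalRing D] [IsLocalHom (algebraMap D S)] :
    IsLocalHom (algebraMap A D) :=
  ⟨fun a ha => isUnit_of_map_unit (algebraMap A S) a (ha.map (algebraMap D S))⟩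

variable [Hensel.IsStrictHenselization A S]

theorem isSeparable_residue (D : Subalgebra A S) [IsLocalRing D] [IsLocalHom (algebraMap D S)]
    [IsLocalHom (algebraMap A D)] :
    Algebra.IsSeparable (ResidueField A) (ResidueField D) := by
  haveI := isSeparable_residue_sh (A := A) (S := S)
  haveI : IsScalarTower (ResidueField A) (ResidueField D) (ResidueField S) :=
    IsScalarTower.of_algebraMap_eq fun x => by
      obtain ⟨r, rfl⟩ := residue_surjective x
      show residue S (algebraMap A S r) = residue S (algebraMap D S (algebraMap A D r))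
      rw [← IsScalarTower.algebraMap_apply]
  exact Algebra.isSeparable_tower_bot_of_isSeparable _ _ (ResidueField S)

theorem isEssentiallyEtale_of_unramified (D : Subalgebra A S) [IsLocalRing D]
    [IsLocalHom (algebraMap D S)] [Algebra.EssFiniteType A D]
    (hm : Ideal.map (algebraMap A D) (maximalIdeal A) = maximalIdeal D) :
    EGA4loc.IsEssentiallyEtale A D := by
  haveI := isLocalHom_base D
  haveI := isSeparable_residue D
  haveI : Algebra.FormallyUnramified A D := Algebra.FormallyUnramified.of_map_maximalIdeal hm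
  let B := Algebra.EssFiniteType.subalgebra A D
  let p : Ideal B := (maximalIdeal D).comap (algebraMap B D)
  haveI hBD : IsLocalization.AtPrime D p := by
    have h : p.primeCompl = Algebra.EssFiniteType.submonoid A D := by
      ext x
      show x ∉ p ↔ _
      rw [Ideal.mem_comap, mem_maximalIdeal, mem_nonunits_iff, not_not]
      rfl
    show IsLocalization p.primeCompl D
    rw [h]
    infer_instance
  let eD : Localization.AtPrime p ≃ₐ[B] D := IsLocalization.algEquiv p.primeCompl _ D
  haveI : Algebra.IsUnramifiedAt A p :=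
    Algebra.FormallyUnramified.of_equiv (eD.restrictScalars A).symm
  obtain ⟨f, hf, P, φ, hφ⟩ := Algebra.IsUnramifiedAt.exists_hasStandardEtaleSurjectionOn (R := A) p
  have hfu : ∀ y : Submonoid.powers f, IsUnit (IsScalarTower.toAlgHom A B D y) := by
    rintro ⟨_, n, rfl⟩
    show IsUnit (algebraMap B D (f ^ n))
    rw [map_pow]
    exact IsUnit.pow n (IsLocalization.map_units D (⟨f, hf⟩ : p.primeCompl))
  let ψ : Localization.Away f →ₐ[A] D := IsLocalization.liftAlgHom (M := Submonoid.powers f) hfu
  have hψ : ∀ b : B, ψ (algebraMap B (Localization.Away f) b) = algebraMap B D b :=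
    fun b => IsLocalization.lift_eq _ b
  let χ : P.Ring →ₐ[A] D := ψ.comp φ
  let q : Ideal P.Ring := (maximalIdeal D).comap χ.toRingHom
  haveI : q.IsPrime := Ideal.comap_isPrime _ _
  have hqA : q.comap (algebraMap A P.Ring) = maximalIdeal A := by
    ext a
    show χ (algebraMap A P.Ring a) ∈ maximalIdeal D ↔ _
    rw [χ.commutes, mem_maximalIdeal, mem_maximalIdeal, mem_nonunits_iff, mem_nonunits_iff]
    exact not_congr ⟨fun h => isUnit_of_map_unit _ _ h, fun h => h.map _⟩
  have hu : ∀ y : q.primeCompl, IsUnit (χ y) := fun y => by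
    by_contra hn
    exact y.2 ((mem_maximalIdeal _).2 hn)
  let L : Localization.AtPrime q →ₐ[A] D := IsLocalization.liftAlgHom (M := q.primeCompl) hu
  have hL : ∀ y, L (algebraMap P.Ring (Localization.AtPrime q) y) = χ y :=
    fun y => IsLocalization.lift_eq _ y
  have hsurj : Function.Surjective L := by
    intro d
    obtain ⟨⟨b, m⟩, hbm⟩ := IsLocalization.surj p.primeCompl d
    obtain ⟨yb, hyb⟩ := hφ (algebraMap B _ b)
    obtain ⟨ym, hym⟩ := hφ (algebraMap B _ (m : B))
    have hb : χ yb = algebraMap B D b := by rw [← hψ, ← hyb]; rfl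
    have hm' : χ ym = algebraMap B D (m : B) := by rw [← hψ, ← hym]; rfl
    have hmu : IsUnit (algebraMap B D (m : B)) := IsLocalization.map_units D m
    have hymq : ym ∈ q.primeCompl := fun h => (mem_maximalIdeal _).1 h (show IsUnit (χ ym) by rw [hm']; exact hmu)
    refine ⟨IsLocalization.mk' _ yb (⟨ym, hymq⟩ : q.primeCompl), hmu.mul_right_cancel ?_⟩
    rw [hbm, ← hm', ← hL, ← map_mul, IsLocalization.mk'_spec, hL, hb]
  have hE : EGA4loc.IsEssentiallyEtale A (Localization.AtPrime q) :=
    ⟨P.Ring, inferInstance, inferInstance, q, inferInstance, inferInstance, hqA, ⟨AlgEquiv.refl⟩⟩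
  let g : Localization.AtPrime q →ₐ[A] S := (IsScalarTower.toAlgHom A D S).comp L
  letI : Algebra (Localization.AtPrime q) S := g.toRingHom.toAlgebra
  haveI : IsScalarTower A (Localization.AtPrime q) S :=
    IsScalarTower.of_algebraMap_eq fun a => (g.commutes a).symm
  haveI := faithfullyFlat_of_essEt (S := S) hE
  have hinj : Function.Injective g :=
    FaithfulSMul.algebraMap_injective (Localization.AtPrime q) S
  exact essEt_of_algEquiv hE (AlgEquiv.ofBijective L ⟨fun x y h => hinj (congrArg (algebraMap D S) h), hsurj⟩)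

/-- An essentially of finite type local subalgebra is contained in an essentially étale one. -/
theorem exists_le_of_essFiniteType (D : Subalgebra A S) [IsLocalRing D]
    [IsLocalHom (algebraMap D S)] [Algebra.EssFiniteType A D] :
    ∃ E : Subalgebra A S, D ≤ E ∧ ∃ _ : IsLocalRing E,
      IsLocalHom (algebraMap E S) ∧ EGA4loc.IsEssentiallyEtale A E := by
  classical
  obtain ⟨σ, hσ⟩ := (Algebra.essFiniteType_iff A D).1 (inferInstance : Algebra.EssFiniteType A D)
  obtain ⟨E, hsE, hloc, hlh, hE⟩ := exists_stage A S (σ.image (fun d : D => (d : S)))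
  refine ⟨E, fun x hx => ?_, hloc, hlh, hE⟩
  obtain ⟨t, ht, htu, hst⟩ := hσ ⟨x, hx⟩
  have hle : Algebra.adjoin A (σ : Set D) ≤ E.comap D.val :=
    Algebra.adjoin_le fun d hd => hsE (Finset.mem_image_of_mem _ hd)
  have h1 : ((t : D) : S) ∈ E := hle ht
  have h2 : x * (t : S) ∈ E := hle hst
  obtain ⟨v, hv⟩ := (isUnit_of_map_unit (algebraMap E S) ⟨_, h1⟩ (htu.map (algebraMap D S))).exists_right_inv
  have h3 : (t : S) * (v : S) = 1 := congrArg Subtype.val hv
  have := E.mul_mem h2 v.2
  rwa [mul_assoc, h3, mul_one] at this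

end

end Groth.Agent.SHInter
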