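import Groth.Agent.SHInter.Basic
import Groth.Agent.S0396
import Mathlib

/-!
Flatness modulo powers of the maximal ideal, and standard presentations of flat unramified local
algebras.
-/

set_option autoImplicit false

universe u

open IsLocalRing Polynomial
open scoped TensorProduct

namespace Groth.Agent.SHInter

noncomputable section

/-- Quotients by powers of the maximal ideal of an unramified local algebra with finite residue
extension are module-finite. -/
theorem finite_quotient_map_pow {A D : Type u} [CommRing A] [IsLocalRing A] [CommRing D]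
    [IsLocalRing D] [Algebra A D] [IsLocalHom (algebraMap A D)]
    (hm : (maximalIdeal A).map (algebraMap A D) = maximalIdeal D)
    [Module.Finite (ResidueField A) (ResidueField D)] (n : ℕ) :
    Module.Finite A (D ⧸ ((maximalIdeal A) ^ n).map (algebraMap A D)) := by
  classical
  obtain ⟨v, hv⟩ := Module.Finite.fg_top (R := ResidueField A) (M := ResidueField D)
  choose l hl using fun z : ResidueField D => residue_surjective z
  let N : Submodule A D := Submodule.span A ((v.image l : Finset D) : Set D)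
  have h1 : ∀ d : D, d ∈ N ⊔ (maximalIdeal A) • (⊤ : Submodule A D) := by
    intro d
    have : ∀ z ∈ Submodule.span (ResidueField A) (v : Set (ResidueField D)),
        ∃ w ∈ N, residue D w = z := by
      intro z hz
      induction hz using Submodule.span_induction with
      | mem z hz => exact ⟨l z, Submodule.subset_span (Finset.mem_image_of_mem l hz), hl z⟩
      | zero => exact ⟨0, zero_mem _, map_zero _⟩
      | add x y _ _ hx hy =>
        obtain ⟨a, ha, rfl⟩ := hx
        obtain ⟨b, hb, rfl⟩ := hy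
        exact ⟨a + b, add_mem ha hb, map_add _ _ _⟩
      | smul c x _ hx =>
        obtain ⟨a, ha, rfl⟩ := hx
        obtain ⟨c, rfl⟩ := residue_surjective c
        refine ⟨c • a, Submodule.smul_mem _ _ ha, ?_⟩
        rw [Algebra.smul_def, map_mul, Algebra.smul_def]
        rfl
    obtain ⟨w, hw, hwd⟩ := this (residue D d) (by rw [hv]; trivial)
    refine Submodule.mem_sup.2 ⟨w, hw, d - w, ?_, add_sub_cancel w d⟩
    rw [Ideal.smul_top_eq_map, Submodule.restrictScalars_mem, hm, ← residue_eq_zero_iff, map_sub,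
      hwd, sub_self]
  have h2 : ∀ k : ℕ, (⊤ : Submodule A D) ≤ N ⊔ ((maximalIdeal A) ^ k) • (⊤ : Submodule A D) := by
    intro k
    induction k with
    | zero => rw [pow_zero, Ideal.one_eq_top, Submodule.top_smul]; exact le_sup_right
    | succ k ih =>
      refine ih.trans (sup_le le_sup_left ?_)
      calc ((maximalIdeal A) ^ k) • (⊤ : Submodule A D)
          ≤ ((maximalIdeal A) ^ k) • (N ⊔ (maximalIdeal A) • (⊤ : Submodule A D)) :=
            Submodule.smul_mono le_rfl fun d _ => h1 d
        _ ≤ _ := by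
          rw [Submodule.smul_sup, ← Submodule.mul_smul, ← pow_succ]
          exact sup_le_sup_right Submodule.smul_le_right _
  let q : D →ₗ[A] D ⧸ ((maximalIdeal A) ^ n).map (algebraMap A D) :=
    (Ideal.Quotient.mkₐ A _).toLinearMap
  refine ⟨⟨(v.image l).image q, top_le_iff.1 fun z _ => ?_⟩⟩
  obtain ⟨d, rfl⟩ := Ideal.Quotient.mk_surjective z
  obtain ⟨a, ha, b, hb, rfl⟩ := Submodule.mem_sup.1 (h2 n (Submodule.mem_top (x := d)))
  rw [Ideal.smul_top_eq_map, Submodule.restrictScalars_mem] at hb
  rw [map_add, Ideal.Quotient.eq_zero_iff_mem.2 hb, add_zero, Finset.coe_image,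
    ← Submodule.map_span]
  exact ⟨a, ha, rfl⟩

/-- Flatness descends along formally unramified quotients. -/
theorem flat_quotient_tensor {A D E : Type u} [CommRing A] [CommRing D] [CommRing E] [Algebra A D]
    [Algebra A E] [Algebra D E] [IsScalarTower A D E] [Module.Flat A E]
    (I : Ideal A) [Module.Finite A (D ⧸ I.map (algebraMap A D))]
    [Algebra.FormallyUnramified A (D ⧸ I.map (algebraMap A D))] :
    Module.Flat (D ⧸ I.map (algebraMap A D)) ((D ⧸ I.map (algebraMap A D)) ⊗[D] E) := by
  let J := I.map (algebraMap A D)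
  letI : Algebra (A ⧸ I) (D ⧸ J) := (Ideal.quotientMap J (algebraMap A D) Ideal.le_comap_map).toAlgebra
  haveI : IsScalarTower A (A ⧸ I) (D ⧸ J) := IsScalarTower.of_algebraMap_eq fun a => rfl
  haveI : Module.Finite (A ⧸ I) (D ⧸ J) := Module.Finite.of_restrictScalars_finite A _ _
  haveI : Algebra.EssFiniteType (A ⧸ I) (D ⧸ J) := inferInstance
  haveI : Algebra.FormallyUnramified (A ⧸ I) (D ⧸ J) :=
    Algebra.FormallyUnramified.of_restrictScalars A _ _
  haveI : Module.Flat (A ⧸ I) ((D ⧸ J) ⊗[D] E) := by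
    let e₁ : (D ⧸ J) ⊗[D] E ≃ₗ[A] E ⧸ (J • (⊤ : Submodule D E)) :=
      (TensorProduct.quotTensorEquivQuotSMul E J).restrictScalars A
    let e₂ : (A ⧸ I) ⊗[A] E ≃ₗ[A] E ⧸ (I • (⊤ : Submodule A E)) :=
      TensorProduct.quotTensorEquivQuotSMul E I
    have hIJ : I • (⊤ : Submodule A E) = (J • (⊤ : Submodule D E)).restrictScalars A := by
      ext x
      simp only [J, Ideal.smul_top_eq_map, Submodule.restrictScalars_mem, Ideal.map_map,
        ← IsScalarTower.algebraMap_eq]
    let e₃ : (E ⧸ (I • (⊤ : Submodule A E))) ≃ₗ[A] E ⧸ (J • (⊤ : Submodule D E)) :=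
      (Submodule.quotEquivOfEq _ _ hIJ).trans
        (Submodule.Quotient.restrictScalarsEquiv A (J • (⊤ : Submodule D E)))
    exact Module.Flat.of_linearEquiv
      ((e₁.trans (e₃.symm.trans e₂.symm)).extendScalarsOfSurjective
        (S := A ⧸ I) Ideal.Quotient.mk_surjective)
  exact Algebra.FormallyUnramified.flat_of_restrictScalars (A ⧸ I) (D ⧸ J) _

/-- A flat unramified local algebra is the localization of a monogenic finite free algebra. -/
theorem exists_presentation (D E : Type u) [CommRing D] [IsLocalRing D] [CommRing E] [IsLocalRing E]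
    [Algebra D E] [IsLocalHom (algebraMap D E)] [Algebra.EssFiniteType D E]
    [Algebra.FormallyUnramified D E] [Module.Flat D E] :
    ∃ (f : D[X]) (x : E), f.Monic ∧ aeval x f = 0 ∧
      (∀ e : E, ∃ G H : D[X], IsUnit (aeval x G) ∧ e * aeval x G = aeval x H) ∧
      ∀ G : D[X], aeval x G = 0 → ∃ U : D[X], IsUnit (aeval x U) ∧ f ∣ U * G := by
  let B := Algebra.EssFiniteType.subalgebra D E
  let p : Ideal B := (maximalIdeal E).comap (algebraMap B E)
  haveI hBE : IsLocalization.AtPrime E p := by
    have h : p.primeCompl = Algebra.EssFiniteType.submonoid D E := by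
      ext x
      show x ∉ p ↔ _
      rw [Ideal.mem_comap, mem_maximalIdeal, mem_nonunits_iff, not_not]
      rfl
    show IsLocalization p.primeCompl E
    rw [h]
    infer_instance
  let eE : Localization.AtPrime p ≃ₐ[B] E := IsLocalization.algEquiv p.primeCompl _ E
  haveI : Algebra.IsUnramifiedAt D p :=
    Algebra.FormallyUnramified.of_equiv (eE.restrictScalars D).symm
  obtain ⟨s, hs, P, φ, hφ⟩ := Algebra.IsUnramifiedAt.exists_hasStandardEtaleSurjectionOn (R := D) p
  have hsu : ∀ y : Submonoid.powers s, IsUnit (IsScalarTower.toAlgHom D B E y) := by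
    rintro ⟨_, n, rfl⟩
    show IsUnit (algebraMap B E (s ^ n))
    rw [map_pow]
    exact IsUnit.pow n (IsLocalization.map_units E (⟨s, hs⟩ : p.primeCompl))
  let ψ : Localization.Away s →ₐ[D] E := IsLocalization.liftAlgHom (M := Submonoid.powers s) hsu
  have hψ : ∀ b : B, ψ (algebraMap B (Localization.Away s) b) = algebraMap B E b :=
    fun b => IsLocalization.lift_eq _ b
  let R₀ := AdjoinRoot P.f
  let W := Localization.Away (AdjoinRoot.mk P.f P.g)
  haveI : Algebra.Etale D W := Algebra.Etale.of_equiv P.equivAwayAdjoinRoot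
  let χ : W →ₐ[D] E := (ψ.comp φ).comp P.equivAwayAdjoinRoot.symm.toAlgHom
  have hsurj : ∀ e : E, ∃ y m : W, IsUnit (χ m) ∧ e * χ m = χ y := by
    intro e
    obtain ⟨⟨b, m⟩, hbm⟩ := IsLocalization.surj p.primeCompl e
    obtain ⟨yb, hyb⟩ := hφ (algebraMap B _ b)
    obtain ⟨ym, hym⟩ := hφ (algebraMap B _ (m : B))
    have hb : χ (P.equivAwayAdjoinRoot yb) = algebraMap B E b := by
      show ψ (φ (P.equivAwayAdjoinRoot.symm (P.equivAwayAdjoinRoot yb))) = _
      rw [AlgEquiv.symm_apply_apply, hyb, hψ]
    have hm' : χ (P.equivAwayAdjoinRoot ym) = algebraMap B E (m : B) := by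
      show ψ (φ (P.equivAwayAdjoinRoot.symm (P.equivAwayAdjoinRoot ym))) = _
      rw [AlgEquiv.symm_apply_apply, hym, hψ]
    exact ⟨_, _, by rw [hm']; exact IsLocalization.map_units E m, by rw [hb, hm']; exact hbm⟩
  let q : Ideal W := (maximalIdeal E).comap χ.toRingHom
  haveI : q.IsPrime := Ideal.comap_isPrime _ _
  have hqD : q.comap (algebraMap D W) = maximalIdeal D := by
    ext a
    show χ (algebraMap D W a) ∈ maximalIdeal E ↔ _
    rw [χ.commutes, mem_maximalIdeal, mem_maximalIdeal, mem_nonunits_iff, mem_nonunits_iff]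
    exact not_congr ⟨fun h => isUnit_of_map_unit _ _ h, fun h => h.map _⟩
  have hu : ∀ y : q.primeCompl, IsUnit (χ y) := fun y => by
    by_contra hn
    exact y.2 ((mem_maximalIdeal _).2 hn)
  let L : Localization.AtPrime q →ₐ[D] E := IsLocalization.liftAlgHom (M := q.primeCompl) hu
  have hL : ∀ y, L (algebraMap W (Localization.AtPrime q) y) = χ y :=
    fun y => IsLocalization.lift_eq _ y
  have hEt : EGA4loc.IsEssentiallyEtale D (Localization.AtPrime q) :=
    ⟨W, inferInstance, inferInstance, q, inferInstance, inferInstance, hqD, ⟨AlgEquiv.refl⟩⟩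
  have hLinj : Function.Injective L := by
    letI : Algebra (Localization.AtPrime q) E := L.toRingHom.toAlgebra
    haveI : IsScalarTower D (Localization.AtPrime q) E :=
      IsScalarTower.of_algebraMap_eq fun a => (L.commutes a).symm
    haveI := formallyEtale_of_essEt hEt
    haveI := essFiniteType_of_essEt hEt
    haveI : Module.Flat (Localization.AtPrime q) E :=
      Algebra.FormallyUnramified.flat_of_restrictScalars D _ E
    haveI : IsLocalHom (algebraMap (Localization.AtPrime q) E) :=
      EtAlgEasy.isLocalHom_of_essEtale hEt L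
    haveI : Module.FaithfullyFlat (Localization.AtPrime q) E :=
      Module.FaithfullyFlat.of_flat_of_isLocalHom
    exact FaithfulSMul.algebraMap_injective (Localization.AtPrime q) E
  let x : E := χ (algebraMap R₀ W (AdjoinRoot.root P.f))
  have hev : ∀ G : D[X], χ (algebraMap R₀ W (AdjoinRoot.mk P.f G)) = aeval x G := fun G => by
    refine (congrArg (fun r => χ (algebraMap R₀ W r)) (AdjoinRoot.aeval_eq G).symm).trans ?_
    exact (Polynomial.aeval_algHom_apply (χ.comp (IsScalarTower.toAlgHom D R₀ W))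
      (AdjoinRoot.root P.f) G).symm
  have hg : IsUnit (aeval x P.g) := by
    rw [← hev]
    exact (IsLocalization.Away.algebraMap_isUnit (S := W) _).map χ
  refine ⟨P.f, x, P.monic_f, by rw [← hev, AdjoinRoot.mk_self, map_zero, map_zero], fun e => ?_,
    fun G hG => ?_⟩
  · obtain ⟨y, m, hm, hy⟩ := hsurj e
    obtain ⟨n, a, ha⟩ := IsLocalization.Away.surj (AdjoinRoot.mk P.f P.g) y
    obtain ⟨k, b, hb⟩ := IsLocalization.Away.surj (AdjoinRoot.mk P.f P.g) m
    obtain ⟨a, rfl⟩ := AdjoinRoot.mk_surjective a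
    obtain ⟨b, rfl⟩ := AdjoinRoot.mk_surjective b
    have ha' := congrArg χ ha
    have hb' := congrArg χ hb
    rw [map_mul, map_pow, hev, hev] at ha' hb'
    refine ⟨b * P.g ^ n, a * P.g ^ k, ?_, ?_⟩
    · rw [map_mul, map_pow, ← hb']
      exact (hm.mul (hg.pow k)).mul (hg.pow n)
    · rw [map_mul, map_mul, map_pow, map_pow, ← ha', ← hb', ← hy]
      ring
  · have h0 : L (algebraMap W (Localization.AtPrime q) (algebraMap R₀ W (AdjoinRoot.mk P.f G))) =
        L 0 := by rw [hL, hev, hG, map_zero]
    obtain ⟨⟨m, hm⟩, hm0⟩ := (IsLocalization.map_eq_zero_iff q.primeCompl _ _).1 (hLinj h0)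
    obtain ⟨k, b, hb⟩ := IsLocalization.Away.surj (AdjoinRoot.mk P.f P.g) m
    obtain ⟨b, rfl⟩ := AdjoinRoot.mk_surjective b
    have h1 : algebraMap R₀ W (AdjoinRoot.mk P.f (b * G)) = 0 := by
      rw [map_mul, map_mul, ← hb, mul_right_comm, hm0, zero_mul]
    obtain ⟨⟨_, j, rfl⟩, hj⟩ :=
      (IsLocalization.map_eq_zero_iff (Submonoid.powers (AdjoinRoot.mk P.f P.g)) W _).1 h1
    have hbu : IsUnit (aeval x b) := by
      rw [← hev, ← hb, map_mul, map_pow, hev]
      exact (hu ⟨m, hm⟩).mul (hg.pow k)
    refine ⟨P.g ^ j * b, ?_, ?_⟩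
    · rw [map_mul, map_pow]
      exact (hg.pow j).mul hbu
    · rw [← AdjoinRoot.mk_eq_zero, mul_assoc, map_mul, map_pow]
      exact hj

end

end Groth.Agent.SHInter
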