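import Groth.Agent.SHInter.Unram
import Groth.Agent.SHInter.Frac
import Groth.Agent.SHInter.Present

/-!
Noetherian unramified subalgebras of a strict henselization with finitely generated total ring of
fractions are essentially étale.
-/

set_option autoImplicit false

universe u

open IsLocalRing Polynomial
open scoped nonZeroDivisors

namespace Groth.Agent.SHInter

noncomputable section

theorem formallyUnramified_quotient {A D : Type u} [CommRing A] [IsLocalRing A] [CommRing D]
    [IsLocalRing D] [Algebra A D] [IsLocalHom (algebraMap A D)]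
    [Algebra.IsSeparable (ResidueField A) (ResidueField D)]
    (hm : (maximalIdeal A).map (algebraMap A D) = maximalIdeal D) (J : Ideal D) (hJ : J ≠ ⊤)
    [Module.Finite A (D ⧸ J)] : Algebra.FormallyUnramified A (D ⧸ J) := by
  haveI : Nontrivial (D ⧸ J) := Ideal.Quotient.nontrivial_iff.mpr hJ
  haveI : IsLocalRing (D ⧸ J) := .of_surjective' _ Ideal.Quotient.mk_surjective
  haveI : IsLocalHom (Ideal.Quotient.mk J) :=
    IsLocalHom.of_surjective _ Ideal.Quotient.mk_surjective
  haveI : IsLocalHom (algebraMap A (D ⧸ J)) := by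
    rw [IsScalarTower.algebraMap_eq A D (D ⧸ J), Ideal.Quotient.algebraMap_eq]
    exact RingHom.isLocalHom_comp _ _
  let g : ResidueField D →+* ResidueField (D ⧸ J) := ResidueField.map (Ideal.Quotient.mk J)
  let ga : ResidueField D →ₐ[ResidueField A] ResidueField (D ⧸ J) :=
    { toRingHom := g
      commutes' := fun x => by obtain ⟨r, rfl⟩ := residue_surjective x; rfl }
  have hbij : Function.Bijective ga := ⟨g.injective, fun x => by
    obtain ⟨y, rfl⟩ := residue_surjective x
    obtain ⟨d, rfl⟩ := Ideal.Quotient.mk_surjective y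
    exact ⟨residue D d, rfl⟩⟩
  haveI : Algebra.IsSeparable (ResidueField A) (ResidueField (D ⧸ J)) :=
    AlgEquiv.Algebra.isSeparable (AlgEquiv.ofBijective ga hbij)
  refine Algebra.FormallyUnramified.of_map_maximalIdeal ?_
  rw [IsScalarTower.algebraMap_eq A D (D ⧸ J), ← Ideal.map_map, hm, Ideal.Quotient.algebraMap_eq,
    IsLocalRing.map_maximalIdeal_of_surjective _ Ideal.Quotient.mk_surjective]

/-- An unramified local extension of a Noetherian local ring inside an essentially étale algebra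
is flat over it. -/
theorem flat_of_unramified_sub {A D E : Type u} [CommRing A] [IsLocalRing A] [CommRing D]
    [IsLocalRing D] [IsNoetherianRing D] [CommRing E] [IsLocalRing E] [IsNoetherianRing E]
    [Algebra A D] [Algebra A E] [Algebra D E] [IsScalarTower A D E] [Module.Flat A E]
    [IsLocalHom (algebraMap A D)] [IsLocalHom (algebraMap D E)]
    [Algebra.IsSeparable (ResidueField A) (ResidueField D)]
    [Module.Finite (ResidueField A) (ResidueField D)]
    (hm : Ideal.map (algebraMap A D) (maximalIdeal A) = maximalIdeal D) : Module.Flat D E := by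
  have h : ∀ n : ℕ, 0 < n →
      Module.Flat (D ⧸ maximalIdeal D ^ n) (TensorProduct D (D ⧸ maximalIdeal D ^ n) E) := by
    intro n hn
    have hJ : ((maximalIdeal A) ^ n).map (algebraMap A D) ≠ ⊤ := fun h => by
      rw [Ideal.map_pow, hm] at h
      exact (maximalIdeal.isMaximal D).ne_top
        (top_le_iff.1 (h.ge.trans (Ideal.pow_le_self hn.ne')))
    haveI := finite_quotient_map_pow hm n
    haveI := formallyUnramified_quotient hm _ hJ
    rw [← hm, ← Ideal.map_pow]
    exact flat_quotient_tensor _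
  haveI : Module.Flat D (LocalizedModule (maximalIdeal E).primeCompl E) :=
    Groth.Agent.S0396.result (maximalIdeal D) h (maximalIdeal E)
      (((local_hom_TFAE (algebraMap D E)).out 0 2 rfl rfl).mp inferInstance)
  let f : E →ₗ[E] LocalizedModule (maximalIdeal E).primeCompl E :=
    LocalizedModule.mkLinearMap (maximalIdeal E).primeCompl E
  have hbij : Function.Bijective f := by
    refine ⟨fun y z hyz => ?_, fun y => ?_⟩
    · obtain ⟨c, hc⟩ := (IsLocalizedModule.eq_iff_exists (maximalIdeal E).primeCompl f).1 hyz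
      exact ((notMem_maximalIdeal.1 c.2).smul_left_cancel).1 hc
    · obtain ⟨⟨m, c⟩, hmc⟩ := IsLocalizedModule.surj (maximalIdeal E).primeCompl f y
      obtain ⟨u, hu⟩ := notMem_maximalIdeal.1 c.2
      refine ⟨(↑u⁻¹ : E) • m, ?_⟩
      rw [map_smul, ← hmc]
      show (↑u⁻¹ : E) • ((c : E) • y) = y
      rw [← hu, smul_smul, Units.inv_mul, one_smul]
  exact Module.Flat.of_linearEquiv ((LinearEquiv.ofBijective f hbij).restrictScalars D)

theorem exists_uniform_kernel {D E : Type u} [CommRing D] [IsNoetherianRing D] [CommRing E]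
    [Algebra D E] (f : D[X]) (x : E)
    (hker : ∀ G : D[X], aeval x G = 0 → ∃ U : D[X], IsUnit (aeval x U) ∧ f ∣ U * G) :
    ∃ V : D[X], IsUnit (aeval x V) ∧ ∀ G : D[X], aeval x G = 0 → f ∣ V * G := by
  classical
  obtain ⟨T, hT⟩ := IsNoetherian.noetherian (RingHom.ker (aeval x : D[X] →ₐ[D] E).toRingHom)
  choose U hUu hUd using fun G : T => hker G (by
    have : (G : D[X]) ∈ RingHom.ker (aeval x : D[X] →ₐ[D] E).toRingHom :=
      hT ▸ Submodule.subset_span G.2
    exact this)
  refine ⟨T.attach.prod U, ?_, fun G hG => ?_⟩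
  · rw [map_prod]
    exact IsUnit.prod_iff.2 fun y _ => hUu y
  · have hG' : G ∈ Submodule.span D[X] (T : Set D[X]) := by
      rw [hT]
      exact hG
    clear hG
    induction hG' using Submodule.span_induction with
    | mem G hG =>
      have h1 : U ⟨G, hG⟩ ∣ T.attach.prod U := Finset.dvd_prod_of_mem U (Finset.mem_attach T ⟨G, hG⟩)
      exact dvd_trans (hUd ⟨G, hG⟩) (mul_dvd_mul_right h1 G)
    | zero => exact ⟨0, by rw [mul_zero, mul_zero]⟩
    | add a b _ _ ha hb =>
      rw [mul_add (T.attach.prod U) a b]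
      exact dvd_add ha hb
    | smul c a _ ha =>
      rw [smul_eq_mul, mul_left_comm (T.attach.prod U) c a]
      exact Dvd.dvd.mul_left ha c

/-- A presentation over a ring descends to a subring containing its coefficients. -/
theorem flat_of_presentation {D₁ D E : Type u} [CommRing D₁] [CommRing D] [CommRing E]
    [Algebra D E] [Algebra D₁ E] (i : D₁ →+* D) (hi : Function.Injective i)
    (hcomp : (algebraMap D E).comp i = algebraMap D₁ E)
    (f₁ : D₁[X]) (hf₁ : f₁.Monic) (x : E) (hfx : aeval x f₁ = 0)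
    (hsurj : ∀ e : E, ∃ G H : D₁[X], IsUnit (aeval x G) ∧ e * aeval x G = aeval x H)
    (V₁ : D₁[X]) (hVu : IsUnit (aeval x V₁))
    (hV : ∀ G : D[X], aeval x G = 0 → f₁.map i ∣ V₁.map i * G) : Module.Flat D₁ E := by
  have hmap : ∀ p : D₁[X], aeval x p = aeval x (p.map i) := fun p => by
    rw [aeval_def, aeval_def, eval₂_map, hcomp]
  let C := AdjoinRoot f₁
  letI : Algebra C E := (AdjoinRoot.liftAlgHom f₁ (Algebra.ofId D₁ E) x hfx).toRingHom.toAlgebra
  haveI : IsScalarTower D₁ C E := IsScalarTower.of_algebraMap_eq fun r =>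
    ((AdjoinRoot.liftAlgHom f₁ (Algebra.ofId D₁ E) x hfx).commutes r).symm
  have hCE : ∀ p : D₁[X], algebraMap C E (AdjoinRoot.mk f₁ p) = aeval x p := fun p =>
    AdjoinRoot.liftAlgHom_mk f₁ (Algebra.ofId D₁ E) x hfx p
  let M : Submonoid C := (IsUnit.submonoid E).comap (algebraMap C E)
  haveI : IsLocalization M E := by
    refine ⟨fun y => y.2, fun e => ?_, fun {y z} hyz => ?_⟩
    · obtain ⟨G₁, H₁, u, h⟩ := hsurj e
      refine ⟨⟨AdjoinRoot.mk f₁ H₁, ⟨AdjoinRoot.mk f₁ G₁, ?_⟩⟩, ?_⟩
      · show IsUnit (algebraMap C E (AdjoinRoot.mk f₁ G₁))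
        rwa [hCE]
      · show e * algebraMap C E (AdjoinRoot.mk f₁ G₁) = algebraMap C E (AdjoinRoot.mk f₁ H₁)
        rw [hCE, hCE, h]
    · obtain ⟨y, rfl⟩ := AdjoinRoot.mk_surjective y
      obtain ⟨z, rfl⟩ := AdjoinRoot.mk_surjective z
      rw [hCE, hCE] at hyz
      have h0 := hV ((y - z).map i) (by rw [← hmap, map_sub, hyz, sub_self])
      rw [← Polynomial.map_mul, map_dvd_map _ hi hf₁] at h0
      refine ⟨⟨AdjoinRoot.mk f₁ V₁, ?_⟩, ?_⟩
      · show IsUnit (algebraMap C E (AdjoinRoot.mk f₁ V₁))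
        rwa [hCE]
      · show AdjoinRoot.mk f₁ V₁ * AdjoinRoot.mk f₁ y = AdjoinRoot.mk f₁ V₁ * AdjoinRoot.mk f₁ z
        rw [← sub_eq_zero, ← mul_sub, ← map_sub, ← map_mul, AdjoinRoot.mk_eq_zero]
        exact h0
  haveI : Module.Free D₁ C := hf₁.free_adjoinRoot
  haveI : Module.Flat C E := IsLocalization.flat E M
  exact Module.Flat.trans D₁ C E

variable {A S : Type u} [CommRing A] [IsLocalRing A] [CommRing S] [IsLocalRing S] [Algebra A S]
  [IsLocalHom (algebraMap A S)]

/-- The local essentially of finite type subalgebra generated by a finite subset. -/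
theorem exists_local_essFinite (D : Subalgebra A S) [IsLocalRing D] [IsLocalHom (algebraMap D S)]
    (s : Finset D) :
    ∃ D₁ : Subalgebra A S, D₁ ≤ D ∧ (∀ d ∈ s, (d : S) ∈ D₁) ∧ ∃ _ : IsLocalRing D₁,
      IsLocalHom (algebraMap D₁ S) ∧ Algebra.EssFiniteType A D₁ := by
  classical
  let U : Subalgebra A S := Algebra.adjoin A ((s.image fun d : D => (d : S) : Finset S) : Set S)
  have hU : U ≤ D := Algebra.adjoin_le fun x hx => by
    obtain ⟨d, -, rfl⟩ := Finset.mem_image.1 hx
    exact d.2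
  let D₁ : Subalgebra A S :=
    { carrier := {x | x ∈ D ∧ ∃ t ∈ U, IsUnit t ∧ x * t ∈ U}
      mul_mem' := by
        rintro x y ⟨hx, t, ht, htu, hxt⟩ ⟨hy, v, hv, hvu, hyv⟩
        exact ⟨D.mul_mem hx hy, t * v, U.mul_mem ht hv, htu.mul hvu,
          by rw [mul_mul_mul_comm]; exact U.mul_mem hxt hyv⟩
      add_mem' := by
        rintro x y ⟨hx, t, ht, htu, hxt⟩ ⟨hy, v, hv, hvu, hyv⟩
        refine ⟨D.add_mem hx hy, t * v, U.mul_mem ht hv, htu.mul hvu, ?_⟩
        rw [show (x + y) * (t * v) = x * t * v + y * v * t by ring]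
        exact U.add_mem (U.mul_mem hxt hv) (U.mul_mem hyv ht)
      algebraMap_mem' := fun r =>
        ⟨D.algebraMap_mem r, 1, U.one_mem, isUnit_one, by rw [mul_one]; exact U.algebraMap_mem r⟩ }
  have hUD₁ : U ≤ D₁ := fun x hx => ⟨hU hx, 1, U.one_mem, isUnit_one, by rwa [mul_one]⟩
  have hinv : ∀ x : D₁, IsUnit (x : S) → IsUnit x := by
    rintro ⟨x, hxD, t, ht, htu, hxt⟩ hx
    obtain ⟨w, hw⟩ := (isUnit_of_map_unit (algebraMap D S) ⟨x, hxD⟩ hx).exists_right_inv
    have hw' : x * (w : S) = 1 := congrArg Subtype.val hw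
    refine IsUnit.of_mul_eq_one (⟨(w : S), w.2, x * t, hxt, hx.mul htu, ?_⟩ : D₁) (Subtype.ext hw')
    rw [← mul_assoc, mul_comm (w : S) x, hw', one_mul]
    exact ht
  haveI : IsLocalRing D₁ := by
    refine IsLocalRing.of_isUnit_or_isUnit_one_sub_self fun d => ?_
    rcases IsLocalRing.isUnit_or_isUnit_one_sub_self (d : S) with h | h
    · exact Or.inl (hinv d h)
    · exact Or.inr (hinv (1 - d) h)
  refine ⟨D₁, fun x hx => hx.1, fun d hd =>
    hUD₁ (Algebra.subset_adjoin (Finset.mem_image_of_mem _ hd)), inferInstance,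
    ⟨fun x hx => hinv x hx⟩, (Algebra.essFiniteType_iff A D₁).2 ?_⟩
  let σ : Finset D₁ := s.attach.image fun d =>
    ⟨(d.1 : S), hUD₁ (Algebra.subset_adjoin (Finset.mem_image_of_mem _ d.2))⟩
  have hUσ : U ≤ (Algebra.adjoin A (σ : Set D₁)).map D₁.val := by
    refine Algebra.adjoin_le fun x hx => ?_
    obtain ⟨d, hd, rfl⟩ := Finset.mem_image.1 hx
    exact ⟨_, Algebra.subset_adjoin (Finset.mem_image.2 ⟨⟨d, hd⟩, Finset.mem_attach _ _, rfl⟩), rfl⟩
  refine ⟨σ, fun ⟨x, hx⟩ => ?_⟩
  obtain ⟨t, ht, htu, hxt⟩ := hx.2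
  obtain ⟨t', ht', htt⟩ := hUσ ht
  obtain ⟨z, hz, hzz⟩ := hUσ hxt
  refine ⟨t', ht', hinv t' (by rw [show (t' : S) = t from htt]; exact htu), ?_⟩
  rwa [show (⟨x, hx⟩ : D₁) * t' = z from Subtype.ext (by
    show x * (t' : S) = (z : S)
    rw [show (t' : S) = t from htt, show (z : S) = x * t from hzz])]

theorem isEssentiallyEtale_of_noetherian [Hensel.IsStrictHenselization A S] [IsReduced A]
    [IsNoetherianRing A] (D : Subalgebra A S) [IsLocalRing D] [IsLocalHom (algebraMap D S)]
    [IsNoetherianRing D]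
    (hfg : ∃ t : Finset (FractionRing D), ∀ x : FractionRing D, ∃ a ∈ A⁰,
      algebraMap A (FractionRing D) a * x ∈ Algebra.adjoin A (t : Set (FractionRing D)))
    (hm : Ideal.map (algebraMap A D) (maximalIdeal A) = maximalIdeal D) :
    EGA4loc.IsEssentiallyEtale A D := by
  classical
  have hmin : (minimalPrimes A).Finite := Ideal.finite_minimalPrimes_of_isNoetherianRing A ⊥
  haveI := isLocalHom_base D
  haveI := isSeparable_residue D
  obtain ⟨E, hDE, _, _, hE⟩ := exists_le_of_fg hmin D hfg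
  haveI := isLocalHom_algebraMap_of_essEt hE
  haveI := formallyEtale_of_essEt hE
  haveI := essFiniteType_of_essEt hE
  haveI := flat_of_essEt hE
  haveI : IsNoetherianRing E := Algebra.EssFiniteType.isNoetherianRing A E
  letI : Algebra D E := (Subalgebra.inclusion hDE).toRingHom.toAlgebra
  haveI : IsScalarTower A D E := IsScalarTower.of_algebraMap_eq fun a => rfl
  haveI : IsLocalHom (algebraMap D E) :=
    ⟨fun d hd => isUnit_of_map_unit (algebraMap D S) d (hd.map (algebraMap E S))⟩
  haveI : Module.Finite (ResidueField A) (ResidueField E) :=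
    Algebra.FormallyUnramified.finite_of_free _ _
  haveI : Module.Finite (ResidueField A) (ResidueField D) := by
    let g : ResidueField D →ₐ[ResidueField A] ResidueField E :=
      { toRingHom := ResidueField.map (algebraMap D E)
        commutes' := fun x => by obtain ⟨r, rfl⟩ := residue_surjective x; rfl }
    exact Module.Finite.of_injective g.toLinearMap g.toRingHom.injective
  haveI : Module.Flat D E := flat_of_unramified_sub hm
  haveI : Algebra.EssFiniteType D E := Algebra.EssFiniteType.of_comp A D E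
  haveI : Algebra.FormallyUnramified D E := Algebra.FormallyUnramified.of_restrictScalars A D E
  obtain ⟨f, x, hf, hfx, hsurj, hker⟩ := exists_presentation D E
  obtain ⟨V, hVu, hV⟩ := exists_uniform_kernel f x hker
  obtain ⟨σ, hσ⟩ := (Algebra.essFiniteType_iff A E).1 inferInstance
  choose G H hGu hGH using hsurj
  obtain ⟨t, ht⟩ := hfg
  choose a ha d hd using fun z : FractionRing D => exists_mul_mem_range hmin D z
  let coeffs : D[X] → Finset D := fun p => p.coeffs
  let s : Finset D := coeffs f ∪ coeffs V ∪ σ.biUnion (fun e => coeffs (G e) ∪ coeffs (H e)) ∪ t.image d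
  obtain ⟨D₁, hD₁D, hs, _, _, _⟩ := exists_local_essFinite D s
  let i : D₁ →ₐ[A] D := Subalgebra.inclusion hD₁D
  have hi : Function.Injective i := Subalgebra.inclusion_injective _
  have hlift : ∀ p : D[X], coeffs p ⊆ s → ∃ p₁ : D₁[X], p₁.map i.toRingHom = p := fun p hp =>
    (Polynomial.mem_lifts p).1 ((Polynomial.lifts_iff_coeff_lifts p).2 fun k => by
      by_cases h0 : p.coeff k = 0
      · exact ⟨0, by rw [h0, map_zero]⟩
      · exact ⟨⟨_, hs _ (hp (Polynomial.coeff_mem_coeffs h0))⟩, Subtype.ext rfl⟩)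
  letI : Algebra D₁ E := ((algebraMap D E).comp i.toRingHom).toAlgebra
  haveI : IsScalarTower A D₁ E := IsScalarTower.of_algebraMap_eq fun a => rfl
  have hmap : ∀ p : D₁[X], aeval x p = aeval x (p.map i.toRingHom) := fun p => by
    rw [aeval_def, aeval_def, eval₂_map]
    rfl
  obtain ⟨f₁, hf₁⟩ := hlift f (fun k hk => Finset.mem_union_left _
    (Finset.mem_union_left _ (Finset.mem_union_left _ hk)))
  have hf₁m : f₁.Monic := monic_of_injective hi (hf₁ ▸ hf)
  obtain ⟨V₁, hV₁⟩ := hlift V (fun k hk => Finset.mem_union_left _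
    (Finset.mem_union_left _ (Finset.mem_union_right _ hk)))
  let X' : Subalgebra A E :=
    { carrier := {e | ∃ G H : D₁[X], IsUnit (aeval x G) ∧ e * aeval x G = aeval x H}
      mul_mem' := by
        rintro e₁ e₂ ⟨G₁, H₁, u₁, h₁⟩ ⟨G₂, H₂, u₂, h₂⟩
        exact ⟨G₁ * G₂, H₁ * H₂, by rw [map_mul]; exact u₁.mul u₂,
          by rw [map_mul, map_mul, ← h₁, ← h₂]; ring⟩
      add_mem' := by
        rintro e₁ e₂ ⟨G₁, H₁, u₁, h₁⟩ ⟨G₂, H₂, u₂, h₂⟩
        exact ⟨G₁ * G₂, H₁ * G₂ + H₂ * G₁, by rw [map_mul]; exact u₁.mul u₂,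
          by rw [map_add, map_mul, map_mul, map_mul, ← h₁, ← h₂]; ring⟩
      algebraMap_mem' := fun r => ⟨1, C (algebraMap A D₁ r), by rw [map_one]; exact isUnit_one,
        by rw [map_one, mul_one, aeval_C, ← IsScalarTower.algebraMap_apply]⟩ }
  have hXall : ∀ e : E, e ∈ X' := by
    have hσX : Algebra.adjoin A (σ : Set E) ≤ X' := Algebra.adjoin_le fun e he => by
      obtain ⟨G₁, hG₁⟩ := hlift (G e) (fun k hk => Finset.mem_union_left _ (Finset.mem_union_right _
        (Finset.mem_biUnion.2 ⟨e, he, Finset.mem_union_left _ hk⟩)))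
      obtain ⟨H₁, hH₁⟩ := hlift (H e) (fun k hk => Finset.mem_union_left _ (Finset.mem_union_right _
        (Finset.mem_biUnion.2 ⟨e, he, Finset.mem_union_right _ hk⟩)))
      exact ⟨G₁, H₁, by rw [hmap, hG₁]; exact hGu e, by rw [hmap, hmap, hG₁, hH₁]; exact hGH e⟩
    intro e
    obtain ⟨w, hw, hwu, hew⟩ := hσ e
    obtain ⟨G₁, H₁, u₁, h₁⟩ := hσX hw
    obtain ⟨G₂, H₂, u₂, h₂⟩ := hσX hew
    have hH₁ : IsUnit (aeval x H₁) := h₁ ▸ hwu.mul u₁
    refine ⟨H₁ * G₂, H₂ * G₁, by rw [map_mul]; exact hH₁.mul u₂, ?_⟩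
    rw [map_mul, map_mul, ← h₁, ← h₂]
    ring
  haveI : Module.Flat D₁ E := flat_of_presentation i.toRingHom hi rfl f₁ hf₁m x
    (by rw [hmap, hf₁, hfx]) hXall V₁ (by rw [hmap, hV₁]; exact hVu)
    (fun G hG => by rw [hf₁, hV₁]; exact hV G hG)
  haveI : IsLocalHom (algebraMap D₁ E) :=
    ⟨fun r hr => isUnit_of_map_unit (algebraMap D₁ S) r (hr.map (algebraMap E S))⟩
  haveI : Module.FaithfullyFlat D₁ E := Module.FaithfullyFlat.of_flat_of_isLocalHom
  haveI := isLocalHom_base D₁
  have hm₁ : Ideal.map (algebraMap A D₁) (maximalIdeal A) = maximalIdeal D₁ := by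
    refine le_antisymm (((local_hom_TFAE (algebraMap A D₁)).out 0 2 rfl rfl).mp inferInstance) ?_
    rw [← Ideal.comap_map_eq_self_of_faithfullyFlat (B := E)
      (Ideal.map (algebraMap A D₁) (maximalIdeal A)), Ideal.map_map, ← IsScalarTower.algebraMap_eq,
      Algebra.FormallyUnramified.map_maximalIdeal, ← Ideal.map_le_iff_le_comap]
    exact ((local_hom_TFAE (algebraMap D₁ E)).out 0 2 rfl rfl).mp inferInstance
  have hD₁ := isEssentiallyEtale_of_unramified D₁ hm₁
  haveI := faithfullyFlat_of_essEt (S := S) hD₁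
  suffices hle : D = D₁ by subst hle; exact hD₁
  refine le_antisymm (fun y hy => ?_) hD₁D
  let φ : D →ₐ[A] FractionRing D := IsScalarTower.toAlgHom A D (FractionRing D)
  have hinj : Function.Injective φ := IsFractionRing.injective D (FractionRing D)
  have hcl : ∀ z ∈ Algebra.adjoin A (t : Set (FractionRing D)), ∃ b ∈ A⁰, ∃ w : D,
      (w : S) ∈ D₁ ∧ algebraMap A (FractionRing D) b * z = φ w := by
    intro z hz
    induction hz using Algebra.adjoin_induction with
    | mem z hz =>
      exact ⟨a z, ha z, d z,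
        hs _ (Finset.mem_union_right _ (Finset.mem_image_of_mem _ hz)), hd z⟩
    | algebraMap r =>
      refine ⟨1, one_mem _, algebraMap A D r, D₁.algebraMap_mem r, ?_⟩
      rw [map_one, one_mul]
      exact (φ.commutes r).symm
    | add x y _ _ hx hy =>
      obtain ⟨b, hb, u, hu, h1⟩ := hx
      obtain ⟨c, hc, v, hv, h2⟩ := hy
      refine ⟨b * c, mul_mem hb hc, algebraMap A D c * u + algebraMap A D b * v,
        D₁.add_mem (D₁.mul_mem (D₁.algebraMap_mem c) hu) (D₁.mul_mem (D₁.algebraMap_mem b) hv), ?_⟩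
      rw [map_add φ, map_mul φ, map_mul φ, φ.commutes, φ.commutes, ← h1, ← h2, map_mul]
      ring
    | mul x y _ _ hx hy =>
      obtain ⟨b, hb, u, hu, h1⟩ := hx
      obtain ⟨c, hc, v, hv, h2⟩ := hy
      refine ⟨b * c, mul_mem hb hc, u * v, D₁.mul_mem hu hv, ?_⟩
      rw [map_mul φ, ← h1, ← h2, map_mul]
      ring
  obtain ⟨b, hb, hbx⟩ := ht (φ ⟨y, hy⟩)
  obtain ⟨c, hc, w, hw, hcw⟩ := hcl _ hbx
  rw [← mul_assoc, ← map_mul, ← φ.commutes, ← map_mul φ] at hcw
  have h1 : algebraMap A S (c * b) * y = (w : S) := congrArg Subtype.val (hinj hcw)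
  exact mem_of_mul_mem D₁ (D₁.algebraMap_mem _)
    (fun z hz => isRegular_algebraMap (mul_mem hc hb) hz) (h1 ▸ hw)

end

end Groth.Agent.SHInter
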