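import Groth.Agent.SHInter.FieldInter

/-!
Finite subextensions of a branch of a strict henselization of a henselian local ring.
-/

set_option autoImplicit false

universe u

open IsLocalRing Polynomial

namespace Groth.Agent.SHInter

noncomputable section

variable {A S : Type u} [CommRing A] [IsLocalRing A] [CommRing S] [IsLocalRing S] [Algebra A S]
  [IsLocalHom (algebraMap A S)] [Hensel.IsStrictHenselization A S]

/-- An element of a branch lying in the field generated by an essentially étale stage comes from the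
stage, when the branch is extended from the stage. -/
theorem exists_mem_stage (E : Subalgebra A S) [IsLocalRing E]
    (hE : EGA4loc.IsEssentiallyEtale A E) (Q : Ideal S) [Q.IsPrime]
    (hQE : Q = (Q.comap (algebraMap E S)).map (algebraMap E S))
    (X : Set (FractionRing (S ⧸ Q)))
    (hX : ∀ z ∈ X, ∃ p ∈ E, ∃ q ∈ E,
      z = algebraMap (S ⧸ Q) _ (Ideal.Quotient.mk Q p) / algebraMap (S ⧸ Q) _ (Ideal.Quotient.mk Q q))
    (x : S) (hx : algebraMap (S ⧸ Q) (FractionRing (S ⧸ Q)) (Ideal.Quotient.mk Q x) ∈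
      Subfield.closure (Set.range (algebraMap A (FractionRing (S ⧸ Q))) ∪ X)) :
    ∃ e ∈ E, Ideal.Quotient.mk Q e = Ideal.Quotient.mk Q x := by
  haveI := faithfullyFlat_of_essEt (S := S) hE
  let F := FractionRing (S ⧸ Q)
  let φ : S →+* F := (algebraMap (S ⧸ Q) F).comp (Ideal.Quotient.mk Q)
  let WF : Subfield F := Subfield.closure ((E.toSubring.map φ : Subring F) : Set F)
  have hle : Subfield.closure (Set.range (algebraMap A F) ∪ X) ≤ WF := Subfield.closure_le.2 (by
    rintro z (⟨a, rfl⟩ | hz)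
    · exact Subfield.subset_closure ⟨algebraMap A S a, E.algebraMap_mem a, rfl⟩
    · obtain ⟨p, hp, q, hq, rfl⟩ := hX z hz
      exact WF.div_mem (Subfield.subset_closure ⟨p, hp, rfl⟩) (Subfield.subset_closure ⟨q, hq, rfl⟩))
  obtain ⟨p, hp, q, hq, hpq⟩ := Subfield.mem_closure_iff.1 (hle hx)
  rw [Subring.closure_eq] at hp hq
  obtain ⟨p, hpE, rfl⟩ := hp
  obtain ⟨q, hqE, rfl⟩ := hq
  have hφ0 : ∀ y : S, φ y = 0 ↔ Ideal.Quotient.mk Q y = 0 := fun y =>
    map_eq_zero_iff _ (IsFractionRing.injective (S ⧸ Q) F)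
  by_cases hq0 : φ q = 0
  · refine ⟨0, E.zero_mem, ?_⟩
    rw [map_zero, eq_comm, ← hφ0]
    show φ x = 0
    rw [show φ x = φ p / φ q from hpq.symm, hq0, div_zero]
  · have h1 : q * x - p ∈ Q := by
      rw [← Ideal.Quotient.eq_zero_iff_mem, ← hφ0, map_sub, map_mul,
        show φ x = φ p / φ q from hpq.symm, mul_div_cancel₀ _ hq0, sub_self]
    let J : Ideal E := Ideal.span {(⟨q, hqE⟩ : E)} ⊔ Q.comap (algebraMap E S)
    have h2 : (⟨p, hpE⟩ : E) ∈ (J.map (algebraMap E S)).comap (algebraMap E S) := by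
      show p ∈ J.map (algebraMap E S)
      rw [Ideal.map_sup, ← hQE, Ideal.map_span, Set.image_singleton,
        show p = q * x + -(q * x - p) by ring]
      exact Submodule.add_mem_sup (Ideal.mul_mem_right _ _ (Ideal.subset_span rfl)) (Q.neg_mem h1)
    rw [Ideal.comap_map_eq_self_of_faithfullyFlat] at h2
    obtain ⟨u, hu, r, hr, hur⟩ := Submodule.mem_sup.1 h2
    obtain ⟨e, rfl⟩ := Ideal.mem_span_singleton'.1 hu
    refine ⟨(e : S), e.2, ?_⟩
    have h3 : (e : S) * q + (r : S) = p := congrArg Subtype.val hur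
    have h4 : φ (e : S) = φ x := mul_left_cancel₀ hq0 (by
      rw [← map_mul, ← map_mul, ← sub_eq_zero, ← map_sub, hφ0, Ideal.Quotient.eq_zero_iff_mem,
        show q * (e : S) - q * x = -(q * x - p) - (r : S) by linear_combination h3]
      exact Q.sub_mem (Q.neg_mem h1) hr)
    exact IsFractionRing.injective (S ⧸ Q) F h4

end

section

variable {A S : Type u} [CommRing A] [HenselianLocalRing A] [IsNoetherianRing A] [CommRing S]
  [IsLocalRing S] [Algebra A S] [IsLocalHom (algebraMap A S)] [Hensel.IsStrictHenselization A S]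

/-- A monogenic stage over which all branches above a given prime, and given fractions, are defined. -/
theorem exists_branch_stage (J : Ideal S) (Q : Ideal S) [Q.IsPrime]
    (t : Finset (FractionRing (S ⧸ Q))) :
    ∃ (f : A[X]) (x₀ : S), f.Monic ∧ (f.map (residue A)).Separable ∧ aeval x₀ f = 0 ∧
      Q = (Q.comap (algebraMap (Algebra.adjoin A ({x₀} : Set S)) S)).map
        (algebraMap (Algebra.adjoin A ({x₀} : Set S)) S) ∧
      (∀ Q' ∈ J.minimalPrimes, Q' = (Q'.comap (algebraMap (Algebra.adjoin A ({x₀} : Set S)) S)).map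
        (algebraMap (Algebra.adjoin A ({x₀} : Set S)) S)) ∧
      (∀ z ∈ t, ∃ p ∈ Algebra.adjoin A ({x₀} : Set S), ∃ q ∈ Algebra.adjoin A ({x₀} : Set S),
        z = algebraMap (S ⧸ Q) _ (Ideal.Quotient.mk Q p) /
          algebraMap (S ⧸ Q) _ (Ideal.Quotient.mk Q q)) ∧
      ∃ _ : IsLocalRing (Algebra.adjoin A ({x₀} : Set S)),
        EGA4loc.IsEssentiallyEtale A (Algebra.adjoin A ({x₀} : Set S)) ∧
        Module.Finite A (Algebra.adjoin A ({x₀} : Set S)) ∧
        (maximalIdeal A).map (algebraMap A (Algebra.adjoin A ({x₀} : Set S))) =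
          maximalIdeal (Algebra.adjoin A ({x₀} : Set S)) := by
  classical
  haveI : IsNoetherianRing S := isNoetherianRing_sh (A := A)
  have hfrac : ∀ z : FractionRing (S ⧸ Q), ∃ p q : S,
      z = algebraMap (S ⧸ Q) _ (Ideal.Quotient.mk Q p) /
        algebraMap (S ⧸ Q) _ (Ideal.Quotient.mk Q q) := fun z => by
    obtain ⟨a, b, -, h⟩ := IsFractionRing.div_surjective (A := S ⧸ Q) z
    obtain ⟨a, rfl⟩ := Ideal.Quotient.mk_surjective a
    obtain ⟨b, rfl⟩ := Ideal.Quotient.mk_surjective b
    exact ⟨a, b, h.symm⟩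
  choose num den hnd using hfrac
  choose G hG using fun I : Ideal S => IsNoetherian.noetherian I
  let M := (Ideal.finite_minimalPrimes_of_isNoetherianRing S J).toFinset
  obtain ⟨f, x₀, hfm, hsep, -, hfx, hs, hloc, -, hW, hfin, hm⟩ := exists_monogenic_stage A S
    (t.image num ∪ t.image den ∪ G Q ∪ M.biUnion G)
  let W := Algebra.adjoin A ({x₀} : Set S)
  have hext : ∀ I : Ideal S, (G I : Set S) ⊆ W →
      I = (I.comap (algebraMap W S)).map (algebraMap W S) := fun I hI => by
    refine le_antisymm (fun z hz => ?_) Ideal.map_comap_le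
    rw [← hG I] at hz
    refine Submodule.span_le.2 (fun g hg => ?_) hz
    exact Ideal.mem_map_of_mem (algebraMap W S) (x := (⟨g, hI hg⟩ : W))
      (show g ∈ I from (hG I).le (Submodule.subset_span hg))
  refine ⟨f, x₀, hfm, hsep, hfx,
    hext Q fun g hg => hs (Finset.mem_union_left _ (Finset.mem_union_right _ hg)),
    fun Q' hQ' => hext Q' fun g hg => hs (Finset.mem_union_right _
      (Finset.mem_biUnion.2 ⟨Q', (Set.Finite.mem_toFinset _).2 hQ', hg⟩)),
    fun z hz => ⟨num z, hs ?_, den z, hs ?_, hnd z⟩, hloc, hW, hfin, hm⟩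
  · exact Finset.mem_union_left _ (Finset.mem_union_left _ (Finset.mem_union_left _
      (Finset.mem_image_of_mem _ hz)))
  · exact Finset.mem_union_left _ (Finset.mem_union_left _ (Finset.mem_union_right _
      (Finset.mem_image_of_mem _ hz)))

/-- The intersection of a branch with a finitely generated subfield of its fraction field is a
finite unramified algebra. -/
theorem exists_finite_inter (Q : Ideal S) [Q.IsPrime] (t : Finset (FractionRing (S ⧸ Q))) :
    ∃ (x₀ : S) (D : Subalgebra A (S ⧸ Q)), (D : Set (S ⧸ Q)) =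
        (algebraMap (S ⧸ Q) (FractionRing (S ⧸ Q))) ⁻¹'
        (Subfield.closure (Set.range (algebraMap A (FractionRing (S ⧸ Q))) ∪
          (t : Set (FractionRing (S ⧸ Q)))) : Set (FractionRing (S ⧸ Q))) ∧
      Module.Finite A D ∧
      (∀ z : D, IsUnit (z : S ⧸ Q) → IsUnit z) ∧
      (∀ z ∈ t, ∃ p ∈ Algebra.adjoin A ({x₀} : Set S), ∃ q ∈ Algebra.adjoin A ({x₀} : Set S),
        z = algebraMap (S ⧸ Q) _ (Ideal.Quotient.mk Q p) /
          algebraMap (S ⧸ Q) _ (Ideal.Quotient.mk Q q)) ∧
      Module.Finite A (Algebra.adjoin A ({x₀} : Set S)) ∧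
      ∃ _ : IsLocalRing D, IsLocalHom (algebraMap A D) ∧ Algebra.FormallyUnramified A D := by
  classical
  obtain ⟨f, x₀, hfm, hsep, hfx, hQ, -, hnum, hloc, hW, hfin, hWm⟩ :=
    exists_branch_stage (A := A) ⊥ Q t
  let W := Algebra.adjoin A ({x₀} : Set S)
  let T := S ⧸ Q
  let F := FractionRing T
  let π : S →ₐ[A] T := Ideal.Quotient.mkₐ A Q
  let L : Subfield F := Subfield.closure (Set.range (algebraMap A F) ∪ (t : Set F))
  let D : Subalgebra A T :=
    { L.toSubring.toSubsemiring.comap (algebraMap T F) with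
      algebraMap_mem' := fun a => Subfield.subset_closure (Or.inl ⟨a, rfl⟩) }
  have hWπ : W.map π = Algebra.adjoin A ({π x₀} : Set T) := by
    rw [AlgHom.map_adjoin, Set.image_singleton]
  have hDW : D ≤ Algebra.adjoin A ({π x₀} : Set T) := by
    intro y hy
    obtain ⟨x, rfl⟩ := Ideal.Quotient.mk_surjective y
    obtain ⟨e, he, hex⟩ := exists_mem_stage W hW Q hQ _ hnum x hy
    rw [← hWπ]
    exact ⟨e, he, hex⟩
  haveI hTloc : IsLocalRing T := by
    haveI : Nontrivial T := Ideal.Quotient.nontrivial_iff.mpr (Ideal.IsPrime.ne_top ‹_›)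
    exact .of_surjective' _ Ideal.Quotient.mk_surjective
  haveI : IsLocalHom (Ideal.Quotient.mk Q) :=
    IsLocalHom.of_surjective _ Ideal.Quotient.mk_surjective
  have hinv : ∀ z : D, IsUnit (z : T) → IsUnit z := by
    intro z hz
    obtain ⟨w, hw⟩ := hz.exists_right_inv
    have h1 : algebraMap T F w = (algebraMap T F (z : T))⁻¹ :=
      eq_inv_of_mul_eq_one_right (by rw [← map_mul, hw, map_one])
    refine IsUnit.of_mul_eq_one (⟨w, ?_⟩ : D) (Subtype.ext hw)
    show algebraMap T F w ∈ L
    rw [h1]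
    exact L.inv_mem z.2
  haveI : IsLocalRing D := by
    refine IsLocalRing.of_isUnit_or_isUnit_one_sub_self fun d => ?_
    rcases IsLocalRing.isUnit_or_isUnit_one_sub_self (d : T) with h | h
    · exact Or.inl (hinv d h)
    · exact Or.inr (hinv (1 - d) h)
  haveI : IsLocalHom (algebraMap D T) := ⟨hinv⟩
  haveI : IsLocalHom (algebraMap A T) := by
    rw [IsScalarTower.algebraMap_eq A S T, Ideal.Quotient.algebraMap_eq]
    exact RingHom.isLocalHom_comp _ _
  haveI : IsLocalHom (algebraMap A D) := isLocalHom_base D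
  haveI : Module.Finite A D := by
    haveI : Module.Finite A (Algebra.adjoin A ({π x₀} : Set T)) :=
      Algebra.finite_adjoin_simple_of_isIntegral
        ⟨f, hfm, by rw [← Polynomial.aeval_def, Polynomial.aeval_algHom_apply, hfx, map_zero]⟩
    haveI : IsNoetherian A (Algebra.adjoin A ({π x₀} : Set T)) :=
      isNoetherian_of_isNoetherianRing_of_finite A _
    exact Module.Finite.of_injective (Subalgebra.inclusion hDW).toLinearMap
      (Subalgebra.inclusion_injective hDW)
  refine ⟨x₀, D, rfl, inferInstance, hinv, hnum, hfin, inferInstance, inferInstance, ?_⟩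
  obtain ⟨hsplit, hroots⟩ := splits_and_roots_mem_of_hom (A := A) hfm hsep
    ((algebraMap T F).comp (Ideal.Quotient.mk Q))
  have hφA : (algebraMap T F).comp (algebraMap A T) = algebraMap A F :=
    (IsScalarTower.algebraMap_eq A T F).symm
  have hsame : ((algebraMap T F).comp (Ideal.Quotient.mk Q)).comp (algebraMap A S) =
      (algebraMap T F).comp (algebraMap A T) := rfl
  rw [hsame] at hsplit hroots
  have hWm' : ∀ w : Algebra.adjoin A ({π x₀} : Set T), ¬ IsUnit w →
      w ∈ (maximalIdeal A).map (algebraMap A (Algebra.adjoin A ({π x₀} : Set T))) := by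
    intro w hw
    have hw' : (w : T) ∈ W.map π := hWπ.symm ▸ w.2
    obtain ⟨v, hv, hvw⟩ := hw'
    let ρ : W →ₐ[A] Algebra.adjoin A ({π x₀} : Set T) :=
      (π.comp W.val).codRestrict _ fun z => hWπ ▸ ⟨z, z.2, rfl⟩
    have hρ : ρ ⟨v, hv⟩ = w := Subtype.ext hvw
    have h1 : (⟨v, hv⟩ : W) ∈ maximalIdeal W :=
      (mem_maximalIdeal _).2 fun h => hw (hρ ▸ h.map ρ)
    rw [← hWm] at h1
    have h2 := Ideal.mem_map_of_mem ρ.toRingHom h1
    rw [Ideal.map_map, show ρ.toRingHom.comp (algebraMap A W) = algebraMap A _ from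
      RingHom.ext ρ.commutes] at h2
    exact hρ ▸ h2
  have hm : (maximalIdeal A).map (algebraMap A D) = maximalIdeal D :=
    map_maximalIdeal_inter (algebraMap T F) (IsFractionRing.injective T F) hφA f hfm (π x₀)
      (by rw [Polynomial.aeval_algHom_apply, hfx, map_zero]) hsplit
      (fun r hr => by obtain ⟨y, hy⟩ := hroots r hr; exact ⟨Ideal.Quotient.mk Q y, hy⟩)
      hWm' L (fun a => Subfield.subset_closure (Or.inl ⟨a, rfl⟩)) D (fun x => Iff.rfl) hDW hinv
  haveI : Algebra.IsSeparable (ResidueField A) (ResidueField D) := by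
    haveI := isSeparable_residue_sh (A := A) (S := S)
    let g : ResidueField S →ₐ[ResidueField A] ResidueField T :=
      { toRingHom := ResidueField.map (Ideal.Quotient.mk Q)
        commutes' := fun x => by obtain ⟨r, rfl⟩ := residue_surjective x; rfl }
    have hg : Function.Bijective g := ⟨g.toRingHom.injective, fun x => by
      obtain ⟨y, rfl⟩ := residue_surjective x
      obtain ⟨y, rfl⟩ := Ideal.Quotient.mk_surjective y
      exact ⟨residue S y, rfl⟩⟩
    haveI : Algebra.IsSeparable (ResidueField A) (ResidueField T) :=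
      AlgEquiv.Algebra.isSeparable (AlgEquiv.ofBijective g hg)
    haveI : IsScalarTower (ResidueField A) (ResidueField D) (ResidueField T) :=
      IsScalarTower.of_algebraMap_eq fun x => by
        obtain ⟨r, rfl⟩ := residue_surjective x
        show residue T (algebraMap A T r) = residue T (algebraMap D T (algebraMap A D r))
        rw [← IsScalarTower.algebraMap_apply]
    exact Algebra.isSeparable_tower_bot_of_isSeparable _ _ (ResidueField T)
  haveI : Algebra.EssFiniteType A D := inferInstance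
  exact Algebra.FormallyUnramified.of_map_maximalIdeal hm

end

end Groth.Agent.SHInter
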