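import Groth.Agent.S2474
import Groth.Agent.S2139
import Groth.Agent.EtaleLib.Reduced
import Groth.Agent.SHInter.Basic

/-!
The normalization of a reduced Noetherian local ring is semilocal.
-/

set_option autoImplicit false

universe u

open IsLocalRing
open scoped nonZeroDivisors

namespace Groth.Agent.SHInter

noncomputable section

theorem isReduced_of_essEt {A E : Type u} [CommRing A] [IsLocalRing A] [IsReduced A] [CommRing E]
    [Algebra A E] (hE : EGA4loc.IsEssentiallyEtale A E) : IsReduced E := by
  obtain ⟨C, _, _, q, _, hC, -, ⟨e⟩⟩ := hE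
  haveI := hC
  haveI : IsReduced C := Groth.Agent.EtaleLib.isReduced_of_etale (A := A) C
  haveI : IsReduced (Localization.AtPrime q) := isReduced_localizationPreserves q.primeCompl _ inferInstance
  exact isReduced_of_injective e e.injective

/-- A map between total rings of fractions restricts to an integral map of normalizations. -/
theorem exists_integralClosure_hom {E T R F : Type u} [CommRing E] [CommRing T] [Algebra E T]
    [CommRing R] [CommRing F] [Algebra R F] (q : E →+* R) (hq : Function.Surjective q) (π : T →+* F)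
    (hπ : π.comp (algebraMap E T) = (algebraMap R F).comp q) :
    ∃ ρ : integralClosure E T →+* integralClosure R F,
      ρ.IsIntegral ∧ ∀ x, (ρ x : F) = π (x : T) := by
  have hi : ∀ x : integralClosure E T, (π (x : T)) ∈ integralClosure R F := fun x => by
    obtain ⟨p, hp, hp0⟩ := x.2
    refine ⟨p.map q, hp.map _, ?_⟩
    rw [Polynomial.eval₂_map, ← hπ, ← Polynomial.hom_eval₂, hp0, map_zero]
  let ρ : integralClosure E T →+* integralClosure R F :=
    (π.comp (integralClosure E T).val.toRingHom).codRestrict (integralClosure R F).toSubring hi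
  refine ⟨ρ, ?_, fun _ => rfl⟩
  have h1 : (ρ.comp (algebraMap E (integralClosure E T))).IsIntegral := by
    have h2 : ρ.comp (algebraMap E (integralClosure E T)) =
        (algebraMap R (integralClosure R F)).comp q :=
      RingHom.ext fun e => Subtype.ext (RingHom.congr_fun hπ e)
    rw [h2]
    exact RingHom.IsIntegral.trans _ _ (RingHom.isIntegral_of_surjective _ hq)
      Algebra.IsIntegral.isIntegral
  exact h1.tower_top

/-- The branch of a total ring of fractions at a maximal ideal. -/
theorem exists_branch_hom {E T F : Type u} [CommRing E] [CommRing T] [Algebra E T] [IsLocalization E⁰ T]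
    (P' : Ideal T) [hP' : P'.IsMaximal] [CommRing F] [IsDomain F]
    [Algebra (E ⧸ P'.comap (algebraMap E T)) F] [IsFractionRing (E ⧸ P'.comap (algebraMap E T)) F] :
    ∃ π : T →+* F, π.comp (algebraMap E T) =
        (algebraMap (E ⧸ P'.comap (algebraMap E T)) F).comp (Ideal.Quotient.mk _) ∧
      RingHom.ker π = P' := by
  let φ : E →+* F := (algebraMap (E ⧸ P'.comap (algebraMap E T)) F).comp (Ideal.Quotient.mk _)
  have hφ : ∀ x, φ x = 0 ↔ x ∈ P'.comap (algebraMap E T) := fun x => by
    rw [← Ideal.Quotient.eq_zero_iff_mem]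
    exact map_eq_zero_iff _ (IsFractionRing.injective (E ⧸ P'.comap (algebraMap E T)) F)
  have hu : ∀ d : E⁰, IsUnit (φ d) := fun d => by
    have hd : Ideal.Quotient.mk (P'.comap (algebraMap E T)) (d : E) ≠ 0 := fun h => by
      have h1 : (d : E) ∈ P'.comap (algebraMap E T) := Ideal.Quotient.eq_zero_iff_mem.1 h
      exact hP'.ne_top (Ideal.eq_top_of_isUnit_mem _ (Ideal.mem_comap.1 h1) (IsLocalization.map_units T d))
    exact IsLocalization.map_units F
      (⟨_, mem_nonZeroDivisors_of_ne_zero hd⟩ : (E ⧸ P'.comap (algebraMap E T))⁰)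
  refine ⟨IsLocalization.lift hu, RingHom.ext fun e => IsLocalization.lift_eq hu e, ?_⟩
  refine (hP'.eq_of_le (RingHom.ker_ne_top _) fun y hy => ?_).symm
  obtain ⟨⟨a, b⟩, hab⟩ := IsLocalization.surj E⁰ y
  have ha : φ a = 0 := (hφ a).2 (by
    rw [Ideal.mem_comap, ← hab]
    exact P'.mul_mem_right _ hy)
  have h1 := congrArg (IsLocalization.lift hu) hab
  rw [map_mul, IsLocalization.lift_eq, IsLocalization.lift_eq, ha] at h1
  exact (mul_eq_zero.1 h1).resolve_right (hu b).ne_zero

theorem finite_maximal_branch (E : Type u) [CommRing E] [IsLocalRing E] [IsNoetherianRing E]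
    (Q : Ideal E) [Q.IsPrime] :
    {m : Ideal (integralClosure (E ⧸ Q) (FractionRing (E ⧸ Q))) | m.IsMaximal}.Finite :=
  haveI : IsLocalRing (E ⧸ Q) :=
    IsLocalRing.of_surjective' (Ideal.Quotient.mk Q) Ideal.Quotient.mk_surjective
  (Groth.Agent.S2474.result (A := E ⧸ Q) (K' := FractionRing (E ⧸ Q))).1

/-- The normalization of a reduced Noetherian local ring has finitely many maximal ideals. -/
theorem finite_maximal_integralClosure (E : Type u) [CommRing E] [IsLocalRing E] [IsNoetherianRing E]
    [IsReduced E] : {M : Ideal (integralClosure E (FractionRing E)) | M.IsMaximal}.Finite := by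
  classical
  haveI : IsArtinianRing (FractionRing E) :=
    Groth.Agent.S2139.isNoetherian_frac (Ideal.finite_minimalPrimes_of_isNoetherianRing E ⊥)
  have key : ∀ P' : Ideal (FractionRing E), P'.IsPrime → ∃ (B : Type u) (_ : CommRing B)
      (ρ : integralClosure E (FractionRing E) →+* B), ρ.IsIntegral ∧
      RingHom.ker ρ = P'.comap (integralClosure E (FractionRing E)).val.toRingHom ∧
      {m : Ideal B | m.IsMaximal}.Finite := by
    intro P' hP'
    haveI := hP'
    haveI : P'.IsMaximal := IsArtinianRing.isMaximal_of_isPrime P'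
    have hex := exists_branch_hom (E := E) (T := FractionRing E) (F := FractionRing (E ⧸ P'.comap (algebraMap E (FractionRing E)))) P'
    obtain ⟨π, hπ, hker⟩ := hex
    have hex2 := exists_integralClosure_hom _ Ideal.Quotient.mk_surjective π hπ
    obtain ⟨ρ, hρ, hρx⟩ := hex2
    refine ⟨_, inferInstance, ρ, hρ, ?_, finite_maximal_branch E _⟩
    conv_rhs => rw [← hker]
    ext x
    exact ⟨fun h => (hρx x).symm.trans (congrArg Subtype.val h),
      fun h => Subtype.ext ((hρx x).trans h)⟩
  choose B hB ρ hint hker hfin using key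
  refine ((Set.finite_univ (α := PrimeSpectrum (FractionRing E))).biUnion fun P _ =>
    (hfin P.1 P.2).image fun m => m.comap (ρ P.1 P.2)).subset fun M hM => ?_
  haveI : M.IsMaximal := hM
  obtain ⟨P, hP, hPM⟩ := Ideal.exists_minimalPrimes_le
    (I := (⊥ : Ideal (integralClosure E (FractionRing E)))) (J := M) bot_le
  obtain ⟨P', hP', hPP'⟩ := Ideal.exists_comap_eq_of_mem_minimalPrimes_of_injective
    (f := (integralClosure E (FractionRing E)).val.toRingHom) Subtype.val_injective P hP
  letI := hB P' hP'
  letI : Algebra (integralClosure E (FractionRing E)) (B P' hP') := (ρ P' hP').toAlgebra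
  haveI : Algebra.IsIntegral (integralClosure E (FractionRing E)) (B P' hP') := ⟨hint P' hP'⟩
  obtain ⟨m, hm, hmM⟩ := Ideal.exists_ideal_over_maximal_of_isIntegral (S := B P' hP') M
    ((hker P' hP').trans hPP' |>.le.trans hPM)
  simp only [Set.mem_iUnion]
  exact ⟨⟨P', hP'⟩, trivial, m, hm, hmM⟩

end

end Groth.Agent.SHInter
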