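import Groth.Agent.SHInter.SemiLocalSub
import Groth.Agent.SHInter.Noetherian

/-!
Essential finiteness of a local subalgebra with semilocal normalization.
-/

set_option autoImplicit false

universe u

open IsLocalRing Polynomial
open scoped nonZeroDivisors

namespace Groth.Agent.SHInter

noncomputable section

/-- Primes of a finite algebra over the closed point are finite in number. -/
theorem finite_maximal_of_finite (A B : Type u) [CommRing A] [IsLocalRing A] [CommRing B] [Algebra A B]
    [Module.Finite A B] : {P : Ideal B | P.IsMaximal}.Finite := by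
  refine (Algebra.QuasiFinite.finite_primesOver (R := A) (S := B) (maximalIdeal A)).subset fun P hP => ?_
  haveI : P.IsMaximal := hP
  exact ⟨inferInstance, ⟨(eq_maximalIdeal (Ideal.isMaximal_comap_of_isIntegral_of_isMaximal (R := A) P)).symm⟩⟩

/-- The core finiteness argument. -/
theorem essFiniteType_of_denominators {A E T : Type u} [CommRing A] [IsLocalRing A] [IsNoetherianRing A]
    [CommRing E] [IsLocalRing E] [Algebra A E] [IsLocalHom (algebraMap A E)] [CommRing T] [Algebra A T]
    [Algebra E T] [IsScalarTower A E T] (hinj : Function.Injective (algebraMap E T))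
    (D : Subalgebra A E) [IsLocalRing D] [IsLocalHom (algebraMap D E)] (D' : Subalgebra A T)
    (hDD' : ∀ d : D, algebraMap E T (d : E) ∈ D') (hint : ∀ x ∈ D', IsIntegral D x)
    (BL : Subalgebra A T) [Module.Finite A BL] (hBL : BL ≤ D')
    (good : Set (Ideal BL)) (hgood : good.Finite) (hgoodp : ∀ P ∈ good, P.IsPrime)
    (hunit : ∀ m : BL, (∀ P ∈ good, m ∉ P) → IsUnit (Subalgebra.inclusion hBL m))
    (hden : ∀ x ∈ D', ∀ P ∈ good, ∃ m : BL, m ∉ P ∧ (m : T) * x ∈ BL) :
    Algebra.EssFiniteType A D := by
  classical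
  haveI : Algebra.IsIntegral A BL := Algebra.IsIntegral.of_finite A BL
  have hbad : ∀ P : Ideal BL, P.IsMaximal → P ∉ good → ∃ s ∈ P, ∀ G ∈ good, s ∉ G := by
    intro P hP hPg
    by_contra hcon
    simp only [not_exists, not_and, not_forall, not_not] at hcon
    have hsub : (P : Set BL) ⊆ ⋃ G ∈ (↑hgood.toFinset : Set (Ideal BL)), (G : Set BL) := fun s hs => by
      obtain ⟨G, hG, hsG⟩ := hcon s hs
      exact Set.mem_iUnion₂.2 ⟨G, hgood.mem_toFinset.2 hG, hsG⟩
    obtain ⟨G, hG, hle⟩ := (Ideal.subset_union_prime (s := hgood.toFinset) (f := fun G => G) ⊥ ⊥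
      fun G hG _ _ => hgoodp G (hgood.mem_toFinset.1 hG)).1 hsub
    have hG' := hgood.mem_toFinset.1 hG
    exact hPg ((hP.eq_of_le (hgoodp G hG').ne_top hle) ▸ hG')
  choose! sP hsP hsG using hbad
  let bad := (finite_maximal_of_finite A BL).toFinset.filter fun P => P ∉ good
  let s : BL := ∏ P ∈ bad, sP P
  have hs : IsUnit (Subalgebra.inclusion hBL s) := hunit s fun G hG hsm => by
    haveI := hgoodp G hG
    obtain ⟨P, hP, hPG⟩ := (Ideal.IsPrime.prod_mem_iff (p := G)).1 hsm
    obtain ⟨hP1, hP2⟩ := Finset.mem_filter.1 hP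
    exact hsG P ((finite_maximal_of_finite A BL).mem_toFinset.1 hP1) hP2 G hG hPG
  obtain ⟨v, hv⟩ := hs.exists_right_inv
  have hv' : (s : T) * (v : T) = 1 := congrArg Subtype.val hv
  obtain ⟨p, hp, hp0⟩ := hint v v.2
  obtain ⟨D₀, hD₀, hσ, _, _, _⟩ := exists_local_essFinite D p.coeffs
  haveI : IsNoetherianRing D₀ := Algebra.EssFiniteType.isNoetherianRing A D₀
  haveI := isLocalHom_base D₀
  have hvint : IsIntegral D₀ (v : T) := by
    obtain ⟨q, hq, -, hqm⟩ := Polynomial.lifts_and_natDegree_eq_and_monic
      (show p ∈ Polynomial.lifts (Subalgebra.inclusion hD₀).toRingHom from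
        (Polynomial.lifts_iff_coeff_lifts _).2 fun k => by
          by_cases h0 : p.coeff k = 0
          · exact ⟨0, by rw [h0, map_zero]⟩
          · exact ⟨⟨_, hσ _ (Polynomial.coeff_mem_coeffs h0)⟩, Subtype.ext rfl⟩) hp
    refine ⟨q, hqm, ?_⟩
    rw [← hq, eval₂_map] at hp0
    exact hp0
  obtain ⟨G, hG⟩ := Module.Finite.fg_top (R := A) (M := BL)
  let gens : Set T := insert (v : T) (BL.val '' (G : Set BL))
  let R₁ : Subalgebra D₀ T := Algebra.adjoin D₀ gens
  haveI : Module.Finite D₀ R₁ := by
    refine Module.Finite.iff_fg.2 (fg_adjoin_of_finite ((G.finite_toSet.image _).insert _) ?_)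
    rintro x (rfl | ⟨g, -, rfl⟩)
    · exact hvint
    · exact ((Algebra.IsIntegral.isIntegral (R := A) g).map BL.val).tower_top
  haveI : Algebra.IsIntegral D₀ R₁ := Algebra.IsIntegral.of_finite D₀ R₁
  have hBR : ∀ b : BL, (b : T) ∈ R₁ := fun b => by
    have hb : b ∈ Submodule.span A (G : Set BL) := hG.ge trivial
    induction hb using Submodule.span_induction with
    | mem b hb => exact Algebra.subset_adjoin (Or.inr ⟨b, hb, rfl⟩)
    | zero => exact R₁.zero_mem
    | add a b _ _ ha hb => exact R₁.add_mem ha hb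
    | smul c b _ hb =>
      show (c • (b : T)) ∈ R₁
      rw [Algebra.smul_def, IsScalarTower.algebraMap_apply A D₀ T]
      exact R₁.mul_mem (R₁.algebraMap_mem _) hb
  let j : BL →+* R₁ := BL.val.toRingHom.codRestrict R₁.toSubring hBR
  have hgoodN : ∀ N : Ideal R₁, N.IsMaximal → N.comap j ∈ good := by
    intro N hN
    haveI := hN
    have h0 : N.comap (algebraMap D₀ R₁) = maximalIdeal D₀ :=
      eq_maximalIdeal (Ideal.isMaximal_comap_of_isIntegral_of_isMaximal (R := D₀) N)
    have hA : (N.comap j).comap (algebraMap A BL) = maximalIdeal A := by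
      rw [Ideal.comap_comap,
        show j.comp (algebraMap A BL) = (algebraMap D₀ R₁).comp (algebraMap A D₀) from
          RingHom.ext fun a => Subtype.ext (IsScalarTower.algebraMap_apply A D₀ T a),
        ← Ideal.comap_comap, h0]
      exact ((local_hom_TFAE (algebraMap A D₀)).out 0 4 rfl rfl).mp inferInstance
    haveI : (N.comap j).IsMaximal := Ideal.isMaximal_of_isIntegral_of_isMaximal_comap (R := A) _
      (hA ▸ maximalIdeal.isMaximal A)
    by_contra hPg
    have hsj : s ∈ N.comap j := by
      refine Ideal.prod_mem _ (Finset.mem_filter.2 ⟨(finite_maximal_of_finite A BL).mem_toFinset.2 ‹_›, hPg⟩)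
        (hsP _ ‹_› hPg)
    refine hN.ne_top ((Ideal.eq_top_iff_one N).2 ?_)
    have h1 : j s * ⟨(v : T), Algebra.subset_adjoin (Set.mem_insert _ _)⟩ = 1 := Subtype.ext hv'
    rw [← h1]
    exact N.mul_mem_right _ hsj
  have hD'R : ∀ x ∈ D', x ∈ R₁ := by
    intro x hx
    let I : Ideal BL :=
      { carrier := {m | (m : T) * x ∈ BL}
        add_mem' := fun {a b} ha hb => by
          show ((a + b : BL) : T) * x ∈ BL
          rw [AddMemClass.coe_add, add_mul]; exact BL.add_mem ha hb
        zero_mem' := by
          show ((0 : BL) : T) * x ∈ BL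
          rw [ZeroMemClass.coe_zero, zero_mul]; exact BL.zero_mem
        smul_mem' := fun c a ha => by
          show ((c * a : BL) : T) * x ∈ BL
          rw [MulMemClass.coe_mul, mul_assoc]; exact BL.mul_mem c.2 ha }
    obtain ⟨m, hm, hmg⟩ : ∃ m ∈ I, ∀ P ∈ good, m ∉ P := by
      by_contra hcon
      simp only [not_exists, not_and, not_forall, not_not] at hcon
      have hsub : (I : Set BL) ⊆ ⋃ P ∈ (↑hgood.toFinset : Set (Ideal BL)), (P : Set BL) := fun m hm => by
        obtain ⟨P, hP, hmP⟩ := hcon m hm
        exact Set.mem_iUnion₂.2 ⟨P, hgood.mem_toFinset.2 hP, hmP⟩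
      obtain ⟨P, hP, hle⟩ := (Ideal.subset_union_prime (s := hgood.toFinset) (f := fun P => P) ⊥ ⊥
        fun P hP _ _ => hgoodp P (hgood.mem_toFinset.1 hP)).1 hsub
      obtain ⟨m, hm, hmx⟩ := hden x hx P (hgood.mem_toFinset.1 hP)
      exact hm (hle hmx)
    have hu : IsUnit (j m) := by
      by_contra hnu
      obtain ⟨N, hN, hmN⟩ := exists_max_ideal_of_mem_nonunits hnu
      exact hmg _ (hgoodN N hN) hmN
    obtain ⟨w, hw⟩ := hu.exists_right_inv
    have hw' : (m : T) * (w : T) = 1 := congrArg Subtype.val hw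
    rw [show x = (m : T) * x * (w : T) by rw [mul_right_comm, hw', one_mul]]
    exact R₁.mul_mem (hBR ⟨_, hm⟩) w.2
  letI : Algebra D₀ D := (Subalgebra.inclusion hD₀).toRingHom.toAlgebra
  haveI : IsScalarTower A D₀ D := IsScalarTower.of_algebraMap_eq fun a => rfl
  haveI : Module.Finite D₀ D := by
    let ψ : D →ₗ[D₀] R₁ :=
      { toFun := fun d => ⟨algebraMap E T (d : E), hD'R _ (hDD' d)⟩
        map_add' := fun a b => Subtype.ext (by simp)
        map_smul' := fun c d => Subtype.ext (by
          rw [Algebra.smul_def, RingHom.id_apply, Algebra.smul_def]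
          exact map_mul (algebraMap E T) _ _) }
    exact Module.Finite.of_injective ψ fun a b h => Subtype.ext (hinj (congrArg Subtype.val h))
  exact Algebra.EssFiniteType.comp A D₀ D

/-- Essential finiteness from maximal ideals of normalizations. -/
theorem essFiniteType_of_maximal {A E : Type u} [CommRing A] [IsLocalRing A] [IsReduced A]
    [IsNoetherianRing A] (hN : CAlg.IsNagata A)
    [CommRing E] [IsLocalRing E] [Algebra A E] [IsLocalHom (algebraMap A E)]
    (hE : EGA4loc.IsEssentiallyEtale A E) (D : Subalgebra A E) [IsLocalRing D]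
    [IsLocalHom (algebraMap D E)] (D' : Subalgebra A (FractionRing E))
    (hD' : ∀ x : FractionRing E, x ∈ D' ↔ (IsIntegral D x ∧
      ∃ a ∈ A⁰, ∃ d ∈ D, algebraMap A (FractionRing E) a * x = algebraMap E (FractionRing E) d))
    (hle : D' ≤ (integralClosure E (FractionRing E)).restrictScalars A)
    (hmax : ∀ M : Ideal ((integralClosure E (FractionRing E)).restrictScalars A), M.IsMaximal →
      (M.comap (Subalgebra.inclusion hle)).IsMaximal)
    (hsurj : ∀ N : Ideal D', N.IsMaximal →
      ∃ M : Ideal ((integralClosure E (FractionRing E)).restrictScalars A), M.IsMaximal ∧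
        M.comap (Subalgebra.inclusion hle) = N) :
    Algebra.EssFiniteType A D := by
  classical
  haveI := essFiniteType_of_essEt hE
  haveI := formallyEtale_of_essEt hE
  haveI := flat_of_essEt hE
  haveI : IsNoetherianRing E := Algebra.EssFiniteType.isNoetherianRing A E
  haveI : IsReduced E := isReduced_of_essEt hE
  have hminA := Ideal.finite_minimalPrimes_of_isNoetherianRing A ⊥
  haveI : IsArtinianRing (FractionRing A) := Groth.Agent.S2139.isNoetherian_frac hminA
  haveI : IsArtinianRing (FractionRing E) :=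
    Groth.Agent.S2139.isNoetherian_frac (Ideal.finite_minimalPrimes_of_isNoetherianRing E ⊥)
  haveI : IsReduced (FractionRing E) := isReduced_localizationPreserves E⁰ _ inferInstance
  obtain ⟨hloc, t, ht⟩ := Groth.Agent.S16448.result A E hminA hE
  have hu : ∀ a : A⁰, IsUnit (algebraMap A (FractionRing E) a) := fun a => by
    rw [IsScalarTower.algebraMap_apply A E (FractionRing E)]
    exact IsLocalization.map_units (FractionRing E)
      (⟨_, (a : A), a.2, rfl⟩ : A⁰.map (algebraMap A E))
  letI : Algebra (FractionRing A) (FractionRing E) := (IsLocalization.lift hu).toAlgebra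
  haveI : IsScalarTower A (FractionRing A) (FractionRing E) :=
    IsScalarTower.of_algebraMap_eq fun a => (IsLocalization.lift_eq hu a).symm
  haveI : Module.Finite (FractionRing A) (FractionRing E) := by
    refine ⟨⟨t, top_le_iff.1 fun x _ => ?_⟩⟩
    obtain ⟨a, ha, hax⟩ := ht x
    have h1 := Submodule.span_le_restrictScalars A (FractionRing A) (t : Set (FractionRing E)) hax
    obtain ⟨v, hv⟩ := IsLocalization.map_units (FractionRing A) (⟨a, ha⟩ : A⁰)
    have h2 := Submodule.smul_mem (Submodule.span (FractionRing A) (t : Set (FractionRing E)))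
      (↑v⁻¹ : FractionRing A) h1
    rwa [IsScalarTower.algebraMap_apply A (FractionRing A) (FractionRing E) a, ← Algebra.smul_def, ← hv,
      smul_smul, Units.inv_mul, one_smul] at h2
  let L : Subalgebra A (FractionRing E) :=
    { carrier := {x | ∃ a ∈ A⁰, ∃ d ∈ D, algebraMap A (FractionRing E) a * x = algebraMap E _ d}
      mul_mem' := by
        rintro x y ⟨a, ha, d, hd, h1⟩ ⟨b, hb, c, hc, h2⟩
        exact ⟨a * b, mul_mem ha hb, d * c, mul_mem hd hc, by rw [map_mul, map_mul, ← h1, ← h2]; ring⟩
      add_mem' := by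
        rintro x y ⟨a, ha, d, hd, h1⟩ ⟨b, hb, c, hc, h2⟩
        refine ⟨a * b, mul_mem ha hb, algebraMap A E b * d + algebraMap A E a * c,
          add_mem (mul_mem (D.algebraMap_mem b) hd) (mul_mem (D.algebraMap_mem a) hc), ?_⟩
        rw [map_mul, map_add, map_mul, map_mul, ← IsScalarTower.algebraMap_apply,
          ← IsScalarTower.algebraMap_apply, ← h1, ← h2]
        ring
      algebraMap_mem' := fun r => ⟨1, one_mem _, algebraMap A E r, D.algebraMap_mem r, by
        rw [map_one, one_mul, ← IsScalarTower.algebraMap_apply]⟩ }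
  let L' : Subalgebra (FractionRing A) (FractionRing E) :=
    { L.toSubsemiring with
      algebraMap_mem' := fun q => by
        obtain ⟨⟨r, s⟩, h⟩ := IsLocalization.surj A⁰ q
        refine ⟨s, s.2, algebraMap A E r, D.algebraMap_mem r, ?_⟩
        rw [mul_comm, IsScalarTower.algebraMap_apply A (FractionRing A) (FractionRing E), ← map_mul, h,
          ← IsScalarTower.algebraMap_apply, ← IsScalarTower.algebraMap_apply] }
  haveI : Module.Finite (FractionRing A) L' :=
    Module.Finite.of_injective L'.val.toLinearMap Subtype.val_injective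
  haveI : IsArtinianRing L' := IsArtinianRing.of_finite (FractionRing A) L'
  haveI : IsArtinianRing L := (inferInstance : IsArtinianRing L')
  haveI : Module.Finite A (integralClosure A (FractionRing E)) :=
    finite_integralClosure_of_nagata (Q := FractionRing A) hN
  let BL : Subalgebra A (FractionRing E) := L ⊓ integralClosure A (FractionRing E)
  haveI : Module.Finite A BL :=
    Module.Finite.of_injective (Subalgebra.inclusion (inf_le_right : BL ≤ integralClosure A (FractionRing E))).toLinearMap
      (Subalgebra.inclusion_injective (inf_le_right : BL ≤ integralClosure A (FractionRing E)))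
  have hBL : BL ≤ D' := fun x hx => (hD' x).2 ⟨(show IsIntegral A x from hx.2).tower_top, hx.1⟩
  let incl : BL →+* (integralClosure E (FractionRing E)).restrictScalars A :=
    (Subalgebra.inclusion (hBL.trans hle)).toRingHom
  let good : Set (Ideal BL) := (Ideal.comap incl) '' {M : Ideal ((integralClosure E (FractionRing E)).restrictScalars A) | M.IsMaximal}
  have hfinE : {M : Ideal ((integralClosure E (FractionRing E)).restrictScalars A) | M.IsMaximal}.Finite :=
    finite_maximal_integralClosure E
  obtain ⟨f, x₀, hf, hfx, hsurjE, -⟩ := exists_presentation A E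
  let W := Algebra.adjoin A ({x₀} : Set E)
  have hW : ∀ w ∈ W, IsIntegral A w := fun w hw =>
    Algebra.adjoin_le (S := integralClosure A E) (Set.singleton_subset_iff.2 ⟨f, hf, hfx⟩) hw
  have hfrac : ∀ e : E, ∃ g ∈ W, IsUnit g ∧ e * g ∈ W := fun e => by
    obtain ⟨G, H, hG, hGH⟩ := hsurjE e
    exact ⟨_, aeval_mem_adjoin_singleton A x₀, hG, hGH ▸ aeval_mem_adjoin_singleton A x₀⟩
  refine essFiniteType_of_denominators (IsFractionRing.injective E (FractionRing E)) D D' ?_
    (fun x hx => ((hD' x).1 hx).1) BL hBL good (hfinE.image _) ?_ ?_ ?_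
  · intro d
    refine (hD' _).2 ⟨?_, 1, one_mem _, d, d.2, by rw [map_one, one_mul]⟩
    exact (isIntegral_algebraMap (R := D) (A := FractionRing E) (x := d))
  · rintro _ ⟨M, hM, rfl⟩
    haveI : M.IsMaximal := hM
    exact Ideal.IsPrime.comap _
  · intro m hm
    by_contra hnu
    obtain ⟨N, hN, hmN⟩ := exists_max_ideal_of_mem_nonunits hnu
    obtain ⟨M, hM, rfl⟩ := hsurj N hN
    exact hm _ ⟨M, hM, rfl⟩ hmN
  · rintro x hx _ ⟨M, hM, rfl⟩
    haveI : M.IsMaximal := hM
    have hxE : IsIntegral E x := hle hx
    obtain ⟨u, hu, huA, hux⟩ := exists_isUnit_mul_isIntegral W hW hfrac hxE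
    let i : integralClosure A (FractionRing E) →+* (integralClosure E (FractionRing E)).restrictScalars A :=
      (Subalgebra.inclusion (fun z (hz : IsIntegral A z) => hz.tower_top)).toRingHom
    have huM : (⟨algebraMap E _ u, huA.map (IsScalarTower.toAlgHom A E (FractionRing E))⟩ :
        integralClosure A (FractionRing E)) ∉ M.comap i := fun h => by
      obtain ⟨w, hw⟩ := hu.exists_right_inv
      refine hM.ne_top ((Ideal.eq_top_iff_one M).2 ?_)
      have h1 := M.mul_mem_right
        (⟨algebraMap E _ w, isIntegral_algebraMap⟩ : (integralClosure E (FractionRing E)).restrictScalars A) h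
      convert h1 using 1
      refine Subtype.ext ?_
      show (1 : FractionRing E) = algebraMap E (FractionRing E) u * algebraMap E (FractionRing E) w
      rw [← map_mul, hw, map_one]
    obtain ⟨b, hb, hbM, hbx⟩ := exists_denominator L ⟨x, ((hD' x).1 hx).2⟩ (M.comap i) _ huM hux
    exact ⟨⟨(b : FractionRing E), b.2, hb⟩, hbM, L.mul_mem b.2 ((hD' x).1 hx).2, hbx⟩

end

end Groth.Agent.SHInter
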