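import Groth.Agent.SHInter.HenselBase

/-!
Intersections of a monogenic stage with subfields of the fraction field.
-/

set_option autoImplicit false

universe u

open IsLocalRing Polynomial

namespace Groth.Agent.SHInter

noncomputable section

/-- The intersection of a monogenic algebra with a subfield is unramified over the base. -/
theorem map_maximalIdeal_inter {A S : Type u} [CommRing A] [IsLocalRing A] [CommRing S] [IsDomain S]
    [Algebra A S] {F : Type u} [Field F] [Algebra A F] (φ : S →+* F) (hφ : Function.Injective φ)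
    (hφA : φ.comp (algebraMap A S) = algebraMap A F)
    (f : A[X]) (hfm : f.Monic) (x₀ : S) (hfx : aeval x₀ f = 0)
    (hsplit : (f.map (φ.comp (algebraMap A S))).Splits)
    (hroots : ∀ r ∈ (f.map (φ.comp (algebraMap A S))).roots, r ∈ φ.range)
    (hWm : ∀ w : Algebra.adjoin A ({x₀} : Set S), ¬ IsUnit w →
      w ∈ (maximalIdeal A).map (algebraMap A (Algebra.adjoin A ({x₀} : Set S))))
    (L : Subfield F) (hAL : ∀ a, algebraMap A F a ∈ L) (D : Subalgebra A S)
    (hD : ∀ x, x ∈ D ↔ φ x ∈ L) (hDW : D ≤ Algebra.adjoin A ({x₀} : Set S)) [IsLocalRing D]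
    [IsLocalHom (algebraMap A D)] (hinv : ∀ z : D, IsUnit (z : S) → IsUnit z) :
    (maximalIdeal A).map (algebraMap A D) = maximalIdeal D := by
  classical
  let W := Algebra.adjoin A ({x₀} : Set S)
  -- minimal polynomial over `L` has coefficients in `D`
  let iA : A →+* L := (algebraMap A F).codRestrict L hAL
  have hiA : (algebraMap L F).comp iA = φ.comp (algebraMap A S) := RingHom.ext fun a =>
    (RingHom.congr_fun hφA a).symm
  have hroot0 : aeval (φ x₀) (f.map iA) = 0 := by
    rw [aeval_def, eval₂_map, hiA, ← Polynomial.hom_eval₂, ← aeval_def, hfx, map_zero]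
  have hint : IsIntegral L (φ x₀) := ⟨f.map iA, hfm.map _, by rw [← aeval_def]; exact hroot0⟩
  let P := minpoly L (φ x₀)
  have hPdvd : P.map (algebraMap L F) ∣ f.map (φ.comp (algebraMap A S)) := by
    rw [← hiA, ← Polynomial.map_map]
    exact Polynomial.map_dvd _ (minpoly.dvd L _ hroot0)
  have hfF : f.map (φ.comp (algebraMap A S)) ≠ 0 := (hfm.map _).ne_zero
  have hPs : (P.map (algebraMap L F)).Splits := hsplit.of_dvd hfF hPdvd
  have hPl : P.map (algebraMap L F) ∈ Polynomial.lifts φ := by
    rw [hPs.eq_prod_roots_of_monic ((minpoly.monic hint).map _)]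
    refine Subsemiring.multiset_prod_mem _ _ fun g hg => ?_
    obtain ⟨r, hr, rfl⟩ := Multiset.mem_map.1 hg
    obtain ⟨y, rfl⟩ := hroots r (Multiset.mem_of_le (Polynomial.roots.le_of_dvd hfF hPdvd) hr)
    exact ⟨X - C y, by rw [coe_mapRingHom, Polynomial.map_sub, map_X, map_C]⟩
  obtain ⟨PS, hPS⟩ := hPl
  have hPSD : ∀ i, PS.coeff i ∈ D := fun i => by
    rw [hD]
    rw [← Polynomial.coeff_map, show PS.map φ = P.map (algebraMap L F) from hPS, Polynomial.coeff_map]
    exact (P.coeff i).2
  obtain ⟨P₀, hP₀⟩ : ∃ P₀ : D[X], P₀.map D.val.toRingHom = PS :=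
    (Polynomial.mem_lifts _).1 ((Polynomial.lifts_iff_coeff_lifts _).2 fun i => ⟨⟨_, hPSD i⟩, rfl⟩)
  let iD : D →+* L := (φ.comp D.val.toRingHom).codRestrict L fun d => (hD _).1 d.2
  have hP₀L : P₀.map iD = P := Polynomial.map_injective _ (algebraMap L F).injective (by
    rw [Polynomial.map_map, show (algebraMap L F).comp iD = φ.comp D.val.toRingHom from RingHom.ext fun _ => rfl,
      ← Polynomial.map_map, hP₀]
    exact hPS)
  have hiD : Function.Injective iD := fun a b h => Subtype.ext (hφ (congrArg Subtype.val h))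
  have hP₀m : P₀.Monic := monic_of_injective hiD (hP₀L.symm ▸ minpoly.monic hint)
  let ev : D[X] →+* S := eval₂RingHom D.val.toRingHom x₀
  have hev0 : ev P₀ = 0 := hφ (by
    show φ (eval₂ D.val.toRingHom x₀ P₀) = φ 0
    rw [Polynomial.hom_eval₂, map_zero, show φ.comp D.val.toRingHom = (algebraMap L F).comp iD from
      RingHom.ext fun _ => rfl, ← eval₂_map, hP₀L]
    exact minpoly.aeval L (φ x₀))
  -- uniqueness of coordinates
  have huniq : ∀ (R : D[X]) (d : D), R.degree < P₀.degree → ev R = (d : S) → d = R.coeff 0 := by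
    intro R d hR hRd
    have h0 : aeval (φ x₀) ((R - C d).map iD) = 0 := by
      rw [aeval_def, eval₂_map, show (algebraMap L F).comp iD = φ.comp D.val.toRingHom from
        RingHom.ext fun _ => rfl, ← Polynomial.hom_eval₂]
      show φ (ev (R - C d)) = 0
      rw [map_sub, hRd, show ev (C d) = (d : S) from Polynomial.eval₂_C _ _, sub_self, map_zero]
    have h1 : (R - C d).map iD = 0 := by
      refine Polynomial.eq_zero_of_dvd_of_degree_lt (minpoly.dvd L _ h0) ?_
      rw [Polynomial.degree_map_eq_of_injective hiD, show minpoly L (φ x₀) = P₀.map iD from hP₀L.symm,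
        Polynomial.degree_map_eq_of_injective hiD]
      refine (degree_sub_le _ _).trans_lt (max_lt hR (lt_of_le_of_lt degree_C_le ?_))
      rw [← Polynomial.degree_map_eq_of_injective hiD P₀, hP₀L]
      exact minpoly.degree_pos hint
    have h2 : R - C d = 0 := Polynomial.map_injective _ hiD (h1.trans (Polynomial.map_zero _).symm)
    rw [sub_eq_zero.1 h2, coeff_C_zero]
  refine le_antisymm (((local_hom_TFAE (algebraMap A D)).out 0 2 rfl rfl).mp inferInstance) fun z hz => ?_
  let J : Ideal D := (maximalIdeal A).map (algebraMap A D)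
  have key : ∀ w ∈ (maximalIdeal A).map (algebraMap A W), ∃ R : D[X],
      (∀ i, R.coeff i ∈ J) ∧ ev R = (w : S) := by
    intro w hw
    induction hw using Submodule.span_induction with
    | mem w hw =>
      obtain ⟨a, ha, rfl⟩ := hw
      refine ⟨C (algebraMap A D a), fun i => ?_, Polynomial.eval₂_C _ _⟩
      rw [coeff_C]
      split
      · exact Ideal.mem_map_of_mem _ ha
      · exact J.zero_mem
    | zero => exact ⟨0, fun i => by simp, map_zero _⟩
    | add a b _ _ ha hb =>
      obtain ⟨R, hR, h1⟩ := ha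
      obtain ⟨R', hR', h2⟩ := hb
      exact ⟨R + R', fun i => by rw [coeff_add]; exact J.add_mem (hR i) (hR' i), by rw [map_add, h1, h2]; rfl⟩
    | smul c a _ ha =>
      obtain ⟨R, hR, h1⟩ := ha
      have hc := c.2
      simp only [W, Algebra.adjoin_singleton_eq_range_aeval] at hc
      obtain ⟨g, hg⟩ := hc
      refine ⟨g.map (algebraMap A D) * R, fun i => ?_, ?_⟩
      · rw [coeff_mul]
        exact J.sum_mem fun p _ => J.mul_mem_left _ (hR _)
      · rw [map_mul, h1, show ev (g.map (algebraMap A D)) = (c : S) from by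
          show eval₂ _ _ _ = _
          rw [eval₂_map, show D.val.toRingHom.comp (algebraMap A D) = algebraMap A S from RingHom.ext fun _ => rfl,
            ← aeval_def]
          exact hg]
        rfl
  have hzW : (Subalgebra.inclusion hDW z) ∈ (maximalIdeal A).map (algebraMap A W) := by
    refine hWm (Subalgebra.inclusion hDW z) fun h => (mem_maximalIdeal z).1 hz ?_
    exact hinv z (h.map W.val)
  obtain ⟨R, hR, hRz⟩ := key _ hzW
  have hmod : ev (R %ₘ P₀) = ev R := by
    conv_rhs => rw [← modByMonic_add_div R P₀]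
    rw [map_add, map_mul, hev0, zero_mul, add_zero]
  have h0 := huniq (R %ₘ P₀) z (degree_modByMonic_lt _ hP₀m) (hmod.trans hRz)
  rw [h0, ← Ideal.Quotient.eq_zero_iff_mem]
  show Ideal.Quotient.mk J ((R %ₘ P₀).coeff 0) = 0
  rw [← Polynomial.coeff_map, Polynomial.map_modByMonic _ hP₀m,
    show R.map (Ideal.Quotient.mk J) = 0 from Polynomial.ext fun i => by
      rw [Polynomial.coeff_map, coeff_zero]; exact Ideal.Quotient.eq_zero_iff_mem.2 (hR i),
    zero_modByMonic, coeff_zero]

end

end Groth.Agent.SHInter
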