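import Groth.Agent.SHInter.Criterion

/-!
Noetherian intermediate algebras between a henselian local ring and its strict henselization.
-/

set_option autoImplicit false

universe u

open IsLocalRing Polynomial
open scoped nonZeroDivisors

namespace Groth.Agent.SHInter

noncomputable section

variable {A S : Type u} [CommRing A] [HenselianLocalRing A] [CommRing S] [IsLocalRing S]
  [Algebra A S] [IsLocalHom (algebraMap A S)] [Hensel.IsStrictHenselization A S]

/-- The residue fields of the normalization have finite separable closures over that of the ring. -/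
def ResSepFinite (A : Type u) [CommRing A] : Prop :=
  ∀ (M : Ideal (integralClosure A (FractionRing A))) [M.IsMaximal],
    FiniteDimensional (Subfield.closure (Set.range ((algebraMap (integralClosure A (FractionRing A))
      M.ResidueField).comp (algebraMap A (integralClosure A (FractionRing A))))))
      (separableClosure (Subfield.closure (Set.range ((algebraMap (integralClosure A (FractionRing A))
      M.ResidueField).comp (algebraMap A (integralClosure A (FractionRing A)))))) M.ResidueField)

/-- A Noetherian intermediate algebra with trivial residue extension is finite. -/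
theorem finite_of_isNoetherianRing [IsNoetherianRing A] (D : Subalgebra A S) [IsNoetherianRing D]
    (hkD : ∀ d : D, ∃ a : A, residue S (d : S) = residue S (algebraMap A S a)) :
    Module.Finite A D := by
  classical
  haveI := isLocalRing_of_henselian D
  haveI := isLocalHom_of_henselian D
  haveI := isLocalHom_base D
  haveI : Algebra.IsIntegral A D := by
    haveI := isIntegral_sh (A := A) (S := S)
    exact Algebra.IsIntegral.of_injective D.val Subtype.val_injective
  let J : Ideal D := (maximalIdeal A).map (algebraMap A D)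
  obtain ⟨N, hN⟩ : ∃ N, (maximalIdeal D) ^ N ≤ J := by
    refine Ideal.exists_pow_le_of_le_radical_of_fg ?_ (IsNoetherian.noetherian _)
    rw [Ideal.radical_eq_sInf]
    refine le_sInf fun P hP => ?_
    haveI := hP.2
    have hc : P.comap (algebraMap A D) = maximalIdeal A :=
      le_antisymm (le_maximalIdeal (Ideal.IsPrime.ne_top inferInstance)) (Ideal.map_le_iff_le_comap.1 hP.1)
    haveI : P.IsMaximal := Ideal.isMaximal_of_isIntegral_of_isMaximal_comap (R := A) P
      (hc ▸ maximalIdeal.isMaximal A)
    exact (eq_maximalIdeal (R := D) inferInstance).ge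
  obtain ⟨G, hG⟩ := (IsNoetherian.noetherian (maximalIdeal D) : (maximalIdeal D).FG)
  have hres : ∀ d : D, ∃ a : A, d - algebraMap A D a ∈ maximalIdeal D := fun d => by
    obtain ⟨a, ha⟩ := hkD d
    refine ⟨a, (mem_maximalIdeal _).2 fun hu => ?_⟩
    have h1 := residue_ne_zero_iff_isUnit (algebraMap D S (d - algebraMap A D a)) |>.2 (hu.map _)
    refine h1 ?_
    rw [map_sub, map_sub, ← IsScalarTower.algebraMap_apply, ← ha]
    exact sub_self _
  have hT : ∀ i : ℕ, ∃ T : Finset D, ∀ d : D,
      d ∈ Submodule.span A (T : Set D) ⊔ ((maximalIdeal D) ^ i).restrictScalars A := by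
    intro i
    induction i with
    | zero =>
      refine ⟨∅, fun d => Submodule.mem_sup_right ?_⟩
      rw [Submodule.restrictScalars_mem, pow_zero, Ideal.one_eq_top]
      trivial
    | succ i ih =>
      obtain ⟨T, hT⟩ := ih
      refine ⟨insert 1 (Finset.image₂ (· * ·) G T), fun d => ?_⟩
      obtain ⟨a, ha⟩ := hres d
      have hmul : ∀ g ∈ G, ∀ c : D, g * c ∈
          Submodule.span A ((insert 1 (Finset.image₂ (· * ·) G T) : Finset D) : Set D) ⊔
            ((maximalIdeal D) ^ (i + 1)).restrictScalars A := by
        intro g hg c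
        obtain ⟨u, hu, v, hv, huv⟩ := Submodule.mem_sup.1 (hT c)
        rw [← huv, mul_add]
        refine add_mem (Submodule.mem_sup_left ?_) (Submodule.mem_sup_right ?_)
        · have h1 : g * u ∈ (Submodule.span A (T : Set D)).map (LinearMap.mulLeft A g) := ⟨u, hu, rfl⟩
          rw [Submodule.map_span] at h1
          refine Submodule.span_mono ?_ h1
          rintro _ ⟨w, hw, rfl⟩
          exact Finset.mem_insert_of_mem (Finset.mem_image₂_of_mem hg hw)
        · rw [Submodule.restrictScalars_mem, pow_succ']
          exact Ideal.mul_mem_mul (hG ▸ Submodule.subset_span hg) hv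
      rw [← hG] at ha
      obtain ⟨c, -, hc⟩ := Submodule.mem_span_finset.1 ha
      rw [show d = algebraMap A D a + (d - algebraMap A D a) by ring, ← hc]
      refine add_mem (Submodule.mem_sup_left ?_) (sum_mem fun g hg => ?_)
      · rw [Algebra.algebraMap_eq_smul_one]
        exact Submodule.smul_mem _ _ (Submodule.subset_span (Finset.mem_insert_self _ _))
      · rw [smul_eq_mul, mul_comm]
        exact hmul g hg (c g)
  obtain ⟨T, hT⟩ := hT N
  let P : Submodule A D := Submodule.span A (T : Set D)
  have h1 : (⊤ : Submodule A D) ≤ P ⊔ (maximalIdeal A) • ⊤ := fun d _ => by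
    refine sup_le_sup_left ?_ P (hT d)
    rw [Ideal.smul_top_eq_map]
    exact fun x hx => hN hx
  have h2 : ∀ k : ℕ, (⊤ : Submodule A D) ≤ P ⊔ ((maximalIdeal A) ^ k) • (⊤ : Submodule A D) := by
    intro k
    induction k with
    | zero => rw [pow_zero, Ideal.one_eq_top, Submodule.top_smul]; exact le_sup_right
    | succ k ih =>
      refine ih.trans (sup_le le_sup_left ?_)
      calc ((maximalIdeal A) ^ k) • (⊤ : Submodule A D)
          ≤ ((maximalIdeal A) ^ k) • (P ⊔ (maximalIdeal A) • (⊤ : Submodule A D)) :=
            Submodule.smul_mono le_rfl h1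
        _ ≤ _ := by
          rw [Submodule.smul_sup, ← Submodule.mul_smul, ← pow_succ]
          exact sup_le_sup_right Submodule.smul_le_right _
  refine ⟨⟨T, top_le_iff.1 fun d _ => ?_⟩⟩
  obtain ⟨f, x₀, -, -, -, -, hsW, hWloc, -, hW, hWfin, -⟩ := exists_monogenic_stage A S
    ((insert d T).image fun z : D => (z : S))
  let W := Algebra.adjoin A ({x₀} : Set S)
  haveI := hWfin
  haveI := hWloc
  haveI := faithfullyFlat_of_essEt (S := S) hW
  let PW : Submodule A W := Submodule.span A (W.val.toLinearMap ⁻¹' ((fun z : D => (z : S)) '' (T : Set D)))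
  have hle : P.map D.val.toLinearMap ≤ PW.map W.val.toLinearMap := by
    rw [Submodule.map_span, Submodule.span_le]
    rintro _ ⟨t, ht, rfl⟩
    exact ⟨⟨(t : S), hsW (Finset.mem_image_of_mem _ (Finset.mem_insert_of_mem ht))⟩,
      Submodule.subset_span ⟨t, ht, rfl⟩, rfl⟩
  let dW : W := ⟨(d : S), hsW (Finset.mem_image_of_mem _ (Finset.mem_insert_self d T))⟩
  have hk : ∀ k : ℕ, dW ∈ PW ⊔ ((maximalIdeal A) ^ k) • (⊤ : Submodule A W) := by
    intro k
    obtain ⟨p, hp, j, hj, hpj⟩ := Submodule.mem_sup.1 (h2 k (Submodule.mem_top (x := d)))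
    obtain ⟨p', hp', hpp⟩ := hle ⟨p, hp, rfl⟩
    refine Submodule.mem_sup.2 ⟨p', hp', dW - p', ?_, add_sub_cancel _ _⟩
    rw [Ideal.smul_top_eq_map, Submodule.restrictScalars_mem,
      ← Ideal.comap_map_eq_self_of_faithfullyFlat (B := S) (((maximalIdeal A) ^ k).map (algebraMap A W)),
      Ideal.mem_comap, Ideal.map_map, ← IsScalarTower.algebraMap_eq]
    rw [Ideal.smul_top_eq_map, Submodule.restrictScalars_mem] at hj
    have h3 := Ideal.mem_map_of_mem (algebraMap D S) hj
    rw [Ideal.map_map, ← IsScalarTower.algebraMap_eq] at h3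
    have he : algebraMap W S (dW - p') = algebraMap D S j := by
      show (d : S) - (p' : S) = (j : S)
      rw [show (p' : S) = (p : S) from hpp, ← hpj]
      show (p : S) + (j : S) - (p : S) = (j : S)
      ring
    exact he ▸ h3
  have hdP : dW ∈ PW := by
    have h4 : Submodule.Quotient.mk (p := PW) dW ∈
        (⨅ k : ℕ, (maximalIdeal A) ^ k • ⊤ : Submodule A (W ⧸ PW)) := by
      rw [Submodule.mem_iInf]
      intro k
      obtain ⟨p, hp, j, hj, hpj⟩ := Submodule.mem_sup.1 (hk k)
      rw [← hpj, Submodule.Quotient.mk_add, (Submodule.Quotient.mk_eq_zero PW).2 hp, zero_add]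
      have h5 : Submodule.Quotient.mk (p := PW) j ∈
          (((maximalIdeal A) ^ k) • (⊤ : Submodule A W)).map PW.mkQ := ⟨j, hj, rfl⟩
      rw [Submodule.map_smul''] at h5
      exact Submodule.smul_mono le_rfl le_top h5
    rw [Ideal.iInf_pow_smul_eq_bot_of_le_jacobson _
      (jacobson_eq_maximalIdeal (⊥ : Ideal A) bot_ne_top).ge, Submodule.mem_bot,
      Submodule.Quotient.mk_eq_zero] at h4
    exact h4
  have h6 : (d : S) ∈ PW.map W.val.toLinearMap := ⟨dW, hdP, rfl⟩
  have h7 : PW.map W.val.toLinearMap ≤ P.map D.val.toLinearMap := by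
    rw [Submodule.map_span, Submodule.span_le]
    rintro _ ⟨w, ⟨t, ht, htw⟩, rfl⟩
    exact ⟨t, Submodule.subset_span ht, htw⟩
  obtain ⟨p, hp, hpd⟩ := h7 h6
  exact Subtype.ext hpd ▸ hp

end

noncomputable section

/-- Simple roots in the residue field of a normalized branch lift. -/
theorem exists_root_of_branch {A : Type u} [CommRing A] [HenselianLocalRing A]
    {B : Type u} [CommRing B] [IsDomain B] {f : A[X]} (hfm : f.Monic)
    (φ : A →+* B) (hint : ∀ x, φ.IsIntegralElem x) {k' : Type u} [Field k'] (σ : B →+* k')
    (hσ : Function.Surjective σ) (ζ : k') (h0 : eval₂ (σ.comp φ) ζ f = 0)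
    (h1 : eval₂ (σ.comp φ) ζ f.derivative ≠ 0) : ∃ z, eval₂ φ z f = 0 := by
  letI : Algebra A B := φ.toAlgebra
  haveI : Algebra.IsIntegral A B := ⟨hint⟩
  haveI : IsLocalRing B := WLocalLib.isLocalRing_of_isIntegral A B
  haveI : HenselianLocalRing B := SHTensor.henselian_of_isIntegral A B
  have hker : RingHom.ker σ = maximalIdeal B :=
    IsLocalRing.eq_maximalIdeal (RingHom.ker_isMaximal_of_surjective σ hσ)
  obtain ⟨y₀, rfl⟩ := hσ ζ
  rw [← Polynomial.hom_eval₂, ← eval_map] at h0
  rw [← Polynomial.hom_eval₂, ← eval_map, ← derivative_map] at h1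
  obtain ⟨z, hz, -⟩ := HenselianLocalRing.is_henselian (f.map φ) (hfm.map _) y₀ (hker.le h0) (by
    by_contra hn
    exact h1 (hker.ge ((mem_maximalIdeal _).2 hn)))
  exact ⟨z, by rw [← eval_map]; exact hz⟩

/-- A branch of a reduced Artinian ring has an idempotent. -/
theorem exists_branch_idempotent {T : Type u} [CommRing T] [IsArtinianRing T] [IsReduced T]
    {K : Type u} [CommRing K] (π : T →+* K) :
    ∃ e : T, e * e = e ∧ π e = 1 ∧ ∀ y, π y = 0 → e * y = 0 := by
  obtain ⟨e₀, he₀, hke⟩ : ∃ e : T, IsIdempotentElem e ∧ RingHom.ker π = Ideal.span {e} := by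
    refine (Ideal.isIdempotentElem_iff_of_fg _ (IsNoetherian.noetherian _)).1 ?_
    refine le_antisymm Ideal.mul_le_right fun x hx => ?_
    obtain ⟨n, w, hw⟩ := IsArtinian.exists_pow_succ_smul_dvd x (1 : T)
    have h1 : x = x * (x * w) := by
      rw [← sub_eq_zero]
      refine IsNilpotent.eq_zero ⟨n + 1, ?_⟩
      have h0 : x ^ n * (1 - x * w) = 0 := by
        rw [mul_sub, mul_one, ← mul_assoc, ← pow_succ]
        simpa [smul_eq_mul, sub_eq_zero] using hw.symm
      rw [← mul_one_sub, mul_pow, pow_succ, pow_succ,
        show x ^ n * x * ((1 - x * w) ^ n * (1 - x * w)) =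
          (x ^ n * (1 - x * w)) * (x * (1 - x * w) ^ n) by ring, h0, zero_mul]
    rw [h1]
    exact Ideal.mul_mem_mul hx (Ideal.mul_mem_right _ _ hx)
  refine ⟨1 - e₀, he₀.one_sub, ?_, fun y hy => ?_⟩
  · rw [map_sub, map_one, show π e₀ = 0 from hke.ge (Ideal.subset_span rfl), sub_zero]
  · obtain ⟨c, rfl⟩ := Ideal.mem_span_singleton'.1 (hke.le hy)
    rw [show (1 - e₀) * (c * e₀) = c * (e₀ - e₀ * e₀) by ring, he₀.eq, sub_self, mul_zero]

/-- Integral elements of a branch lift to integral elements killed off the branch. -/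
theorem isIntegral_mul_idempotent {A T K : Type u} [CommRing A] [CommRing T] [Algebra A T]
    [CommRing K] (π : T →+* K) {e : T} (he : e * e = e) (hkill : ∀ y, π y = 0 → e * y = 0)
    (y : T) (hy : (π.comp (algebraMap A T)).IsIntegralElem (π y)) : IsIntegral A (e * y) := by
  obtain ⟨p, hp, hp0⟩ := hy
  have hp1 : e * eval₂ (algebraMap A T) y p = 0 := hkill _ (by rw [Polynomial.hom_eval₂]; exact hp0)
  refine ⟨X * p, monic_X.mul hp, ?_⟩
  have he1 : ∀ q : A[X], e * eval₂ (algebraMap A T) (e * y) q = e * eval₂ (algebraMap A T) y q := by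
    intro q
    induction q using Polynomial.induction_on' with
    | add a b ha hb => rw [eval₂_add, eval₂_add, mul_add, mul_add, ha, hb]
    | monomial i a =>
      rw [eval₂_monomial, eval₂_monomial]
      rcases i with _ | i
      · simp
      · rw [mul_pow, show e ^ (i + 1) = e from IsIdempotentElem.pow_succ_eq i he]
        linear_combination algebraMap A T a * y ^ (i + 1) * he
  rw [eval₂_mul, eval₂_X, mul_comm e y, mul_assoc, mul_comm y e, he1, hp1, mul_zero]

theorem finrank_adjoin_simple_le {F E : Type u} [Field F] [Field E] [Algebra F E] {N : ℕ}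
    (K : IntermediateField F E) [Algebra.IsSeparable F K]
    (h : ∀ x : K, (minpoly F x).natDegree ≤ N) : FiniteDimensional F K := by
  classical
  let deg : K → ℕ := fun x => (minpoly F x).natDegree
  have hex : ∃ n, ∃ x, deg x = n := ⟨_, 0, rfl⟩
  obtain ⟨x, hx⟩ : ∃ x, deg x = Nat.findGreatest (fun n => ∃ x, deg x = n) N :=
    Nat.findGreatest_spec (P := fun n => ∃ x, deg x = n) (h 0) ⟨0, rfl⟩
  have hmax : ∀ y, deg y ≤ deg x := fun y => by
    rw [hx]
    exact Nat.le_findGreatest (h y) ⟨y, rfl⟩
  haveI : FiniteDimensional F (IntermediateField.adjoin F ({x} : Set K)) :=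
    IntermediateField.adjoin.finiteDimensional (Algebra.IsSeparable.isIntegral F x)
  suffices htop : IntermediateField.adjoin F ({x} : Set K) = ⊤ by
    exact Module.Finite.equiv
      ((IntermediateField.equivOfEq htop).trans (IntermediateField.topEquiv (F := F) (E := K))).toLinearEquiv
  refine eq_top_iff.2 fun y _ => ?_
  haveI : FiniteDimensional F (IntermediateField.adjoin F ({x, y} : Set K)) :=
    IntermediateField.finiteDimensional_adjoin fun z _ => Algebra.IsSeparable.isIntegral F z
  haveI : Algebra.IsSeparable F (IntermediateField.adjoin F ({x, y} : Set K)) := inferInstance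
  obtain ⟨z, hz⟩ := Field.exists_primitive_element F (IntermediateField.adjoin F ({x, y} : Set K))
  have hzd : Module.finrank F (IntermediateField.adjoin F ({x, y} : Set K)) = deg (z : K) := by
    rw [← IntermediateField.finrank_top', ← hz, IntermediateField.adjoin.finrank (IsIntegral.of_finite F z)]
    exact (congrArg natDegree (minpoly.algebraMap_eq (Subtype.val_injective) z).symm)
  have hxd : Module.finrank F (IntermediateField.adjoin F ({x} : Set K)) = deg x :=
    IntermediateField.adjoin.finrank (Algebra.IsSeparable.isIntegral F x)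
  have hle : IntermediateField.adjoin F ({x} : Set K) ≤ IntermediateField.adjoin F ({x, y} : Set K) :=
    IntermediateField.adjoin.mono F _ _ (by simp)
  rw [IntermediateField.eq_of_le_of_finrank_le hle (by rw [hzd, hxd]; exact hmax _)]
  exact IntermediateField.subset_adjoin F _ (by simp)

variable {A S : Type u} [CommRing A] [HenselianLocalRing A] [IsReduced A] [IsNoetherianRing A]
  [CommRing S] [IsLocalRing S] [Algebra A S] [IsLocalHom (algebraMap A S)]
  [Hensel.IsStrictHenselization A S]

omit [IsNoetherianRing A] in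
theorem isReduced_sh (A S : Type u) [CommRing A] [IsLocalRing A] [IsReduced A] [CommRing S]
    [IsLocalRing S] [Algebra A S] [IsLocalHom (algebraMap A S)] [Hensel.IsStrictHenselization A S] :
    IsReduced S := by
  obtain ⟨e⟩ := Henselization.exists_algEquiv_of_isStrictHenselization A S
  exact (Henselization.isReduced_of_equiv e).2 inferInstance

omit [IsReduced A] [IsNoetherianRing A] in
theorem residue_map_bijective (D : Subalgebra A S) [IsLocalRing D] [IsLocalHom (algebraMap D S)]
    [IsLocalHom (algebraMap A D)]
    (hkD : ∀ d : D, ∃ a : A, residue S (d : S) = residue S (algebraMap A S a)) :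
    Function.Bijective (ResidueField.map (algebraMap A D)) := by
  refine ⟨RingHom.injective _, fun z => ?_⟩
  obtain ⟨d, rfl⟩ := residue_surjective z
  obtain ⟨a, ha⟩ := hkD d
  exact ⟨residue A a, (ResidueField.map (algebraMap D S)).injective ha.symm⟩

theorem natDegree_minpoly_coe {F K : Type u} [Field F] [Field K] [Algebra F K]
    (L : IntermediateField F K) (z : L) :
    (minpoly F z).natDegree = (minpoly F (z : K)).natDegree :=
  congrArg natDegree (minpoly.algebraMap_eq (Subtype.val_injective) z).symm

/-- The residue field maps isomorphically onto its image in that of the normalization. -/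
theorem exists_resHom {A : Type u} [CommRing A] [IsLocalRing A]
    (M : Ideal (integralClosure A (FractionRing A))) [M.IsMaximal] :
    ∃ r : ResidueField A →+* Subfield.closure (Set.range ((algebraMap (integralClosure A (FractionRing A))
      M.ResidueField).comp (algebraMap A (integralClosure A (FractionRing A))))),
      Function.Bijective r ∧ ∀ a, (r (residue A a) : M.ResidueField) =
        algebraMap (integralClosure A (FractionRing A)) M.ResidueField (algebraMap A _ a) :=
  ⟨(resMap M).codRestrict _ fun x => (closure_range_eq M).ge ⟨x, rfl⟩,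
    ⟨RingHom.injective _, fun c => by
      obtain ⟨x, hx⟩ := (closure_range_eq M).le c.2
      exact ⟨x, Subtype.ext hx⟩⟩, fun _ => rfl⟩

/-- Separable residue elements of a normalization give roots on the branch. -/
theorem exists_root_of_separable {A N : Type u} [CommRing A] [HenselianLocalRing A] [CommRing N]
    (ψ : A →+* N) (hint : ψ.IsIntegral) (P : Ideal N) [P.IsPrime] (M : Ideal N) [M.IsMaximal]
    (hPM : P ≤ M) {F : Type u} [CommRing F] (π : N →+* F) (hπ : P ≤ RingHom.ker π)
    (F₀ : Subfield M.ResidueField) (r' : ResidueField A →+* F₀) (hr' : Function.Bijective r')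
    (hcompat : ∀ a, (r' (residue A a) : M.ResidueField) = algebraMap N M.ResidueField (ψ a))
    (ζ : M.ResidueField) (hζ : IsSeparable F₀ ζ) :
    ∃ f : A[X], f.Monic ∧ (f.map (residue A)).Separable ∧ Irreducible (f.map (residue A)) ∧
      f.natDegree = (minpoly F₀ ζ).natDegree ∧ ∃ y : N, eval₂ (π.comp ψ) (π y) f = 0 := by
  obtain ⟨f, hf, -, hfm⟩ := Polynomial.lifts_and_natDegree_eq_and_monic
    (show minpoly F₀ ζ ∈ Polynomial.lifts (r'.comp (residue A)) from
      (Polynomial.lifts_iff_coeff_lifts _).2 fun i => (hr'.2.comp residue_surjective) _)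
    (minpoly.monic hζ.isIntegral)
  rw [← Polynomial.map_map] at hf
  have hir : Irreducible (f.map (residue A)) :=
    (hfm.map _).irreducible_of_irreducible_map r' _ (hf ▸ minpoly.irreducible hζ.isIntegral)
  have hsep : (f.map (residue A)).Separable := (separable_map r').1 (hf ▸ hζ)
  have hc : (algebraMap F₀ M.ResidueField).comp (r'.comp (residue A)) =
      (algebraMap N M.ResidueField).comp ψ := RingHom.ext hcompat
  have h0 : eval₂ ((algebraMap N M.ResidueField).comp ψ) ζ f = 0 := by
    rw [← hc, ← eval₂_map, ← Polynomial.map_map, hf]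
    exact minpoly.aeval F₀ _
  have h1 : eval₂ ((algebraMap N M.ResidueField).comp ψ) ζ f.derivative ≠ 0 := by
    rw [← hc, ← eval₂_map, ← Polynomial.map_map, ← derivative_map, ← derivative_map, hf]
    exact hζ.aeval_derivative_ne_zero (minpoly.aeval F₀ _)
  obtain ⟨z, hz⟩ := exists_root_of_branch (A := A) (B := N ⧸ P) hfm
    ((Ideal.Quotient.mk P).comp ψ)
    (fun x => by
      obtain ⟨y, rfl⟩ := Ideal.Quotient.mk_surjective x
      exact RingHom.IsIntegralElem.map (hint y) (Ideal.Quotient.mk P))
    (Ideal.Quotient.lift P (algebraMap N M.ResidueField)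
      fun x hx => Ideal.algebraMap_residueField_eq_zero.2 (hPM hx))
    (fun x => by
      obtain ⟨y, hy⟩ := M.bijective_algebraMap_quotient_residueField.2 x
      obtain ⟨y, rfl⟩ := Ideal.Quotient.mk_surjective y
      exact ⟨Ideal.Quotient.mk P y, hy⟩)
    ζ h0 h1
  obtain ⟨y, rfl⟩ := Ideal.Quotient.mk_surjective z
  refine ⟨f, hfm, hsep, hir, ?_, y, ?_⟩
  · rw [← hf, natDegree_map_eq_of_injective r'.injective, hfm.natDegree_map]
  · rw [← Polynomial.hom_eval₂, Ideal.Quotient.eq_zero_iff_mem] at hz
    rw [← Polynomial.hom_eval₂]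
    exact hπ hz

/-- Roots on the branch bound degrees by residue degrees. -/
theorem natDegree_le_of_root {A S : Type u} [CommRing A] [HenselianLocalRing A]
    [CommRing S] [IsLocalRing S] [Algebra A S] [IsLocalHom (algebraMap A S)]
    [Hensel.IsStrictHenselization A S] (Q : Ideal S) [Q.IsPrime] (E : Subalgebra A (S ⧸ Q))
    [IsLocalRing E] [IsLocalHom (algebraMap A E)] [Module.Finite A E]
    (L : Set (FractionRing (S ⧸ Q))) (hE : ∀ x, algebraMap (S ⧸ Q) _ x ∈ L → x ∈ E)
    {f : A[X]} (hfm : f.Monic) (hsep : (f.map (residue A)).Separable)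
    (hir : Irreducible (f.map (residue A))) (z : FractionRing (S ⧸ Q)) (hzL : z ∈ L)
    (hz : eval₂ (((algebraMap (S ⧸ Q) (FractionRing (S ⧸ Q))).comp (Ideal.Quotient.mk Q)).comp
      (algebraMap A S)) z f = 0) :
    f.natDegree ≤ Module.finrank (ResidueField A) (ResidueField E) := by
  let F := FractionRing (S ⧸ Q)
  let φ : S →+* F := (algebraMap (S ⧸ Q) F).comp (Ideal.Quotient.mk Q)
  have hroot : (f.map (φ.comp (algebraMap A S))).IsRoot z := by
    rw [IsRoot, eval_map]
    exact hz
  obtain ⟨-, hroots⟩ := splits_and_roots_mem_of_hom (A := A) hfm hsep φ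
  obtain ⟨x, hx⟩ := hroots _ (by rw [mem_roots (hfm.map _).ne_zero]; exact hroot)
  have hxE : Ideal.Quotient.mk Q x ∈ E := hE _ (show φ x ∈ L by rw [hx]; exact hzL)
  let w : E := ⟨Ideal.Quotient.mk Q x, hxE⟩
  have hw0 : aeval (residue E w) (f.map (residue A)) = 0 := by
    have h3 : aeval w f = 0 := Subtype.ext (IsFractionRing.injective (S ⧸ Q) F (by
      show (algebraMap (S ⧸ Q) F).comp E.val.toRingHom (aeval w f) = algebraMap (S ⧸ Q) F 0
      rw [map_zero, aeval_def, Polynomial.hom_eval₂,
        ← show eval z (f.map (φ.comp (algebraMap A S))) = 0 from hroot, eval_map, ← hx]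
      rfl))
    rw [aeval_def, eval₂_map, show (algebraMap (ResidueField A) (ResidueField E)).comp (residue A) =
      (residue E).comp (algebraMap A E) from rfl, ← Polynomial.hom_eval₂, ← aeval_def, h3, map_zero]
  haveI : Module.Finite (ResidueField A) (ResidueField E) :=
    Module.Finite.of_restrictScalars_finite A (ResidueField A) (ResidueField E)
  rw [← hfm.natDegree_map (residue A), minpoly.eq_of_irreducible_of_monic hir hw0 (hfm.map _)]
  exact minpoly.natDegree_le _

omit [IsReduced A] in
/-- On each branch of a finite intermediate algebra the unramified degrees are bounded. -/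
theorem exists_bound_of_finite (D : Subalgebra A S) [Module.Finite A D]
    (P' : Ideal (FractionRing D)) [hP' : P'.IsPrime] [IsArtinianRing (FractionRing D)] :
    ∃ n : ℕ, ∀ f : A[X], f.Monic → (f.map (residue A)).Separable → Irreducible (f.map (residue A)) →
      ∀ y : FractionRing D, eval₂ (algebraMap A (FractionRing D)) y f ∈ P' → f.natDegree ≤ n := by
  classical
  haveI : IsNoetherianRing S := isNoetherianRing_sh (A := A)
  haveI : IsNoetherianRing D := IsNoetherianRing.of_finite A D
  let T := FractionRing D
  haveI : P'.IsMaximal := IsArtinianRing.isMaximal_of_isPrime P'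
  let PD : Ideal D := P'.under D
  have hPD : PD ∈ minimalPrimes D := by
    refine ⟨⟨Ideal.IsPrime.under D P', bot_le⟩, fun q hq hle => ?_⟩
    haveI := hq.1
    have hdisj : Disjoint (D⁰ : Set D) (q : Set D) := Set.disjoint_left.2 fun a ha haq =>
      (IsLocalization.map_units T (⟨a, ha⟩ : D⁰) |> fun h => hP'.ne_top (Ideal.eq_top_of_isUnit_mem _ (hle haq) h))
    haveI : (q.map (algebraMap D T)).IsPrime := IsLocalization.isPrime_of_isPrime_disjoint D⁰ T q hq.1 hdisj
    have h1 : q.map (algebraMap D T) ≤ P' := Ideal.map_le_iff_le_comap.2 hle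
    have h2 : q.map (algebraMap D T) = P' :=
      (IsArtinianRing.isMaximal_of_isPrime _).eq_of_le hP'.ne_top h1
    show P'.comap (algebraMap D T) ≤ q
    rw [← h2]
    exact (IsLocalization.under_map_of_isPrime_disjoint D⁰ T hq.1 hdisj).le
  obtain ⟨Q, hQp, hQD⟩ := Ideal.exists_comap_eq_of_mem_minimalPrimes_of_injective
    (f := D.val.toRingHom) Subtype.val_injective PD hPD
  haveI := hQp
  let F := FractionRing (S ⧸ Q)
  let φ : S →+* F := (algebraMap (S ⧸ Q) F).comp (Ideal.Quotient.mk Q)
  have hu : ∀ d : D⁰, IsUnit ((φ.comp D.val.toRingHom) d) := fun d => isUnit_iff_ne_zero.2 fun h => by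
    have h1 : (d : D) ∈ PD := by
      rw [← hQD, Ideal.mem_comap, ← Ideal.Quotient.eq_zero_iff_mem]
      exact IsFractionRing.injective (S ⧸ Q) F (h.trans (map_zero _).symm)
    exact Set.disjoint_left.1 (Ideal.disjoint_nonZeroDivisors_of_mem_minimalPrimes hPD) h1 d.2
  let π : T →+* F := IsLocalization.lift hu
  have hπ : ∀ d : D, π (algebraMap D T d) = φ (d : S) := fun d => IsLocalization.lift_eq hu d
  have hker : RingHom.ker π = P' := by
    haveI : (RingHom.ker π).IsPrime := RingHom.ker_isPrime π
    refine (‹P'.IsMaximal›.eq_of_le (Ideal.IsPrime.ne_top inferInstance) fun y hy => ?_).symm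
    obtain ⟨⟨a, b⟩, hab⟩ := IsLocalization.surj D⁰ y
    have ha : a ∈ PD := by
      show algebraMap D T a ∈ P'
      rw [← hab]
      exact P'.mul_mem_right _ hy
    have h1 : π (algebraMap D T a) = 0 := by
      rw [hπ]
      show algebraMap (S ⧸ Q) F (Ideal.Quotient.mk Q (a : S)) = 0
      rw [Ideal.Quotient.eq_zero_iff_mem.2 (show (a : S) ∈ Q by rw [← hQD] at ha; exact ha), map_zero]
    rw [← hab, map_mul, hπ] at h1
    exact (mul_eq_zero.1 h1).resolve_right (hu b).ne_zero
  obtain ⟨s, hs⟩ := Module.Finite.fg_top (R := A) (M := D)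
  let t : Finset F := s.image fun d : D => φ (d : S)
  have hex := exists_finite_inter (A := A) Q t
  obtain ⟨x₀, hex⟩ := hex
  obtain ⟨E, hE, hEfin, hEinv, -, -, hEloc, hElh, hEunr⟩ := hex
  haveI := hEfin
  haveI := hEloc
  haveI := hElh
  haveI := hEunr
  haveI : Module.Finite (ResidueField A) (ResidueField E) := Algebra.FormallyUnramified.finite_of_free _ _
  let L : Subfield F := Subfield.closure (Set.range (algebraMap A F) ∪ (t : Set F))
  have hDL : ∀ d : D, φ (d : S) ∈ L := by
    intro d
    have hd : d ∈ Submodule.span A (s : Set D) := hs.ge trivial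
    induction hd using Submodule.span_induction with
    | mem d hd => exact Subfield.subset_closure (Or.inr (Finset.mem_image_of_mem _ hd))
    | zero => rw [ZeroMemClass.coe_zero, map_zero]; exact L.zero_mem
    | add a b _ _ ha hb => rw [Subalgebra.coe_add, map_add]; exact L.add_mem ha hb
    | smul c a _ ha =>
      rw [Subalgebra.coe_smul, Algebra.smul_def, map_mul]
      exact L.mul_mem (Subfield.subset_closure (Or.inl ⟨c, rfl⟩)) ha
  have hTL : ∀ y : T, π y ∈ L := by
    intro y
    obtain ⟨⟨a, b⟩, hab⟩ := IsLocalization.surj D⁰ y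
    have h1 := congrArg π hab
    rw [map_mul, hπ, hπ] at h1
    have hb : φ ((b : D) : S) ≠ 0 := (hu b).ne_zero
    rw [show π y = φ (a : S) / φ ((b : D) : S) from eq_div_of_mul_eq hb h1]
    exact L.div_mem (hDL a) (hDL b)
  refine ⟨Module.finrank (ResidueField A) (ResidueField E), fun f hfm hsep hir y hy => ?_⟩
  refine natDegree_le_of_root Q E (L : Set F) (fun x hx => ?_) hfm hsep hir (π y) (hTL _) ?_
  · rw [← SetLike.mem_coe, hE]
    exact hx
  · have h1 : π (eval₂ (algebraMap A T) y f) = 0 := hker.ge hy
    rw [Polynomial.hom_eval₂] at h1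
    refine Eq.trans ?_ h1
    refine congrArg₂ (fun g w => eval₂ g w f) (RingHom.ext fun a => ?_) rfl
    show φ (algebraMap A S a) = π (algebraMap D T (algebraMap A D a))
    rw [hπ]
    rfl

/-- A finite intermediate algebra with trivial residue extension has finite separable residue
extensions in its normalization. -/
theorem resSepFinite_of_finite (D : Subalgebra A S) [Module.Finite A D]
    (hkD : ∀ d : D, ∃ a : A, residue S (d : S) = residue S (algebraMap A S a)) :
    ResSepFinite D := by
  classical
  haveI := isReduced_sh A S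
  haveI : IsNoetherianRing S := isNoetherianRing_sh (A := A)
  haveI := isLocalRing_of_henselian D
  haveI := isLocalHom_of_henselian D
  haveI := isLocalHom_base D
  haveI : IsNoetherianRing D := IsNoetherianRing.of_finite A D
  haveI : Algebra.IsIntegral A D := Algebra.IsIntegral.of_finite A D
  haveI : IsReduced D := isReduced_of_injective D.val Subtype.val_injective
  haveI : IsArtinianRing (FractionRing D) :=
    Groth.Agent.S2139.isNoetherian_frac (Ideal.finite_minimalPrimes_of_isNoetherianRing D ⊥)
  have hbij := residue_map_bijective D hkD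
  intro M hM
  obtain ⟨r, hr, hrc⟩ := exists_resHom M
  obtain ⟨P, hP, hPM⟩ := Ideal.exists_minimalPrimes_le
    (I := (⊥ : Ideal (integralClosure D (FractionRing D)))) (J := M) bot_le
  haveI : P.IsPrime := hP.1.1
  obtain ⟨P', hP', hPP'⟩ := Ideal.exists_comap_eq_of_mem_minimalPrimes_of_injective
    (f := (integralClosure D (FractionRing D)).val.toRingHom) Subtype.val_injective P hP
  haveI := hP'
  obtain ⟨n, hn⟩ := exists_bound_of_finite D P'
  refine finrank_adjoin_simple_le (N := n) _ fun ζ => ?_
  have hrt := exists_root_of_separable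
    ((algebraMap D (integralClosure D (FractionRing D))).comp (algebraMap A D))
    (RingHom.IsIntegral.trans _ _ (Algebra.IsIntegral.isIntegral (R := A) (A := D))
      (Algebra.IsIntegral.isIntegral (R := D))) P M hPM
    ((Ideal.Quotient.mk P').comp (integralClosure D (FractionRing D)).val.toRingHom)
    (hPP'.ge.trans_eq (by rw [← RingHom.comap_ker, Ideal.mk_ker]))
    _ (r.comp (ResidueField.map (algebraMap A D))) (hr.comp hbij)
    (fun a => hrc (algebraMap A D a)) (ζ.1) (mem_separableClosure_iff.1 ζ.2)
  obtain ⟨f, hfm, hsep, hir, hdeg, y, hy⟩ := hrt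
  refine (natDegree_minpoly_coe _ ζ).trans_le ?_
  refine hdeg.ge.trans (hn f hfm hsep hir (y : FractionRing D) ?_)
  rw [← Ideal.Quotient.eq_zero_iff_mem, Polynomial.hom_eval₂]
  exact hy

/-- Conversely. -/
theorem finite_of_resSepFinite (D : Subalgebra A S)
    (hkD : ∀ d : D, ∃ a : A, residue S (d : S) = residue S (algebraMap A S a))
    (hres : ResSepFinite D) : Module.Finite A D := by
  classical
  haveI := isReduced_sh A S
  haveI : IsNoetherianRing S := isNoetherianRing_sh (A := A)
  haveI := isLocalRing_of_henselian D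
  haveI := isLocalHom_of_henselian D
  haveI := isLocalHom_base D
  haveI : Module.Flat A S := flat_sh
  haveI : IsReduced D := isReduced_of_injective D.val Subtype.val_injective
  haveI : Algebra.IsIntegral A D := by
    haveI := isIntegral_sh (A := A) (S := S)
    exact Algebra.IsIntegral.of_injective D.val Subtype.val_injective
  have hminD : (minimalPrimes D).Finite := by
    refine ((Ideal.finite_minimalPrimes_of_isNoetherianRing S ⊥).image
      (Ideal.comap (algebraMap D S))).subset fun p hp => ?_
    haveI := hp.1.1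
    obtain ⟨Q, hQp, hQD⟩ := Ideal.exists_comap_eq_of_mem_minimalPrimes_of_injective
      (f := D.val.toRingHom) Subtype.val_injective p hp
    haveI := hQp
    obtain ⟨Q', hQ', hle⟩ := Ideal.exists_minimalPrimes_le (I := (⊥ : Ideal S)) (J := Q) bot_le
    haveI := hQ'.1.1
    have h1 : Q'.comap (algebraMap D S) ≤ p := (Ideal.comap_mono hle).trans hQD.le
    exact ⟨Q', hQ', le_antisymm h1 (hp.2 ⟨Ideal.IsPrime.comap _, bot_le⟩ h1)⟩
  haveI : IsArtinianRing (FractionRing D) := Groth.Agent.S2139.isNoetherian_frac hminD
  let T := FractionRing D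
  let N := integralClosure D T
  haveI : IsReduced T := isReduced_localizationPreserves D⁰ T inferInstance
  have hbij := residue_map_bijective D hkD
  have key : ∀ Q ∈ minimalPrimes S, ∃ E : Subalgebra A (S ⧸ Q), Module.Finite A E ∧
      ∀ d : D, Ideal.Quotient.mk Q (d : S) ∈ E := by
    intro Q hQ
    haveI := hQ.1.1
    let PD := Q.comap (algebraMap D S)
    have hPD : PD ∈ minimalPrimes D := by
      refine ⟨⟨Ideal.IsPrime.comap _, bot_le⟩, fun p hp hle => ?_⟩
      haveI := hp.1
      refine (eq_or_lt_of_le hle).elim (fun h => h.ge) fun hlt => ?_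
      have h1 := Ideal.IsIntegral.comap_lt_comap (R := A) hlt
      have h2 : PD.comap (algebraMap A D) = Q.comap (algebraMap A S) := by
        rw [Ideal.comap_comap, ← IsScalarTower.algebraMap_eq]
      haveI : Q.LiesOver (Q.comap (algebraMap A S)) := ⟨rfl⟩
      obtain ⟨Q', hQ'le, hQ'p, hQ'o⟩ :=
        Ideal.exists_ideal_le_liesOver_of_le (p := p.comap (algebraMap A D)) Q (h1.le.trans_eq h2)
      have h3 := Ideal.comap_mono (f := algebraMap A S) (hQ.2 ⟨hQ'p, bot_le⟩ hQ'le)
      rw [← h2] at h3
      have h4 : p.comap (algebraMap A D) = Q'.comap (algebraMap A S) := hQ'o.over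
      exact absurd (h3.trans_eq h4.symm) h1.not_ge
    let F := FractionRing (S ⧸ Q)
    let φ : S →+* F := (algebraMap (S ⧸ Q) F).comp (Ideal.Quotient.mk Q)
    have hu : ∀ d : D⁰, IsUnit ((φ.comp D.val.toRingHom) d) := fun d => isUnit_iff_ne_zero.2 fun h => by
      have h1 : (d : D) ∈ PD := by
        rw [Ideal.mem_comap, ← Ideal.Quotient.eq_zero_iff_mem]
        exact IsFractionRing.injective (S ⧸ Q) F (h.trans (map_zero _).symm)
      exact Set.disjoint_left.1 (Ideal.disjoint_nonZeroDivisors_of_mem_minimalPrimes hPD) h1 d.2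
    let π : T →+* F := IsLocalization.lift hu
    have hπ : ∀ d : D, π (algebraMap D T d) = φ (d : S) := fun d => IsLocalization.lift_eq hu d
    obtain ⟨e, he, hπe, hkill⟩ := exists_branch_idempotent π
    let eN : N := ⟨e, ⟨X ^ 2 - X, monic_X_pow_sub (by rw [degree_X]; norm_num), by
      rw [eval₂_sub, eval₂_X_pow, eval₂_X, pow_two, he, sub_self]⟩⟩
    have hne : RingHom.ker (π.comp N.val.toRingHom) ≠ ⊤ := RingHom.ker_ne_top _
    obtain ⟨M, hM, hMle⟩ := Ideal.exists_le_maximal _ hne
    haveI := hM
    let F₀ := Subfield.closure (Set.range ((algebraMap N M.ResidueField).comp (algebraMap D N)))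
    haveI : FiniteDimensional F₀ (separableClosure F₀ M.ResidueField) := hres M
    let r' : ResidueField A →+* F₀ :=
      ((resMap M).codRestrict F₀ fun x => (closure_range_eq M).ge ⟨x, rfl⟩).comp
        (ResidueField.map (algebraMap A D))
    choose x₀ E hE hEfin hEinv _hnum _hWfin hEloc hElh hEunr using
      fun s : Finset D => exists_finite_inter (A := A) Q (s.image fun d : D => φ (d : S))
    haveI := hEfin
    haveI := hEloc
    haveI := hElh
    haveI := hEunr
    haveI : ∀ s, Module.Finite (ResidueField A) (ResidueField (E s)) := fun s =>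
      Algebra.FormallyUnramified.finite_of_free _ _
    have hbound : ∀ s, Module.finrank (ResidueField A) (ResidueField (E s)) ≤
        Module.finrank F₀ (separableClosure F₀ M.ResidueField) := by
      intro s
      let g : E s →+* F := (algebraMap (S ⧸ Q) F).comp (E s).val.toRingHom
      have hlift : ∀ u : E s, ∃ c : N, (π.comp N.val.toRingHom) c = g u := by
        intro u
        have hu' : g u ∈ Subfield.closure (Set.range (algebraMap A F) ∪
            ((s.image fun d : D => φ (d : S)) : Set F)) := by
          have h1 : (u : S ⧸ Q) ∈ (E s : Set (S ⧸ Q)) := u.2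
          rw [hE s] at h1
          exact h1
        have hTF : Subfield.closure (Set.range (algebraMap A F) ∪
            ((s.image fun d : D => φ (d : S)) : Set F)) ≤
            Subfield.closure (((φ.comp D.val.toRingHom).range : Subring F) : Set F) := by
          refine Subfield.closure_le.2 ?_
          rintro z (⟨a, rfl⟩ | hz)
          · exact Subfield.subset_closure ⟨algebraMap A D a, rfl⟩
          · obtain ⟨d, -, rfl⟩ := Finset.mem_image.1 (Finset.mem_coe.1 hz)
            exact Subfield.subset_closure ⟨d, rfl⟩
        obtain ⟨p, hp, q, hq, hpq⟩ := Subfield.mem_closure_iff.1 (hTF hu')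
        rw [Subring.closure_eq] at hp hq
        obtain ⟨a, rfl⟩ := hp
        obtain ⟨b, rfl⟩ := hq
        obtain ⟨y, hy⟩ : ∃ y, π y = g u := by
          obtain ⟨n, w, hw⟩ := IsArtinian.exists_pow_succ_smul_dvd (algebraMap D T b) (1 : T)
          by_cases hb : φ (b : S) = 0
          · exact ⟨0, by rw [map_zero, ← hpq]; exact (by
              show (0 : F) = _ / φ (b : S)
              rw [hb, div_zero])⟩
          refine ⟨algebraMap D T a * w, mul_right_cancel₀ hb ?_⟩
          have h1 := congrArg π hw
          simp only [smul_eq_mul, mul_one, map_mul, map_pow, hπ, pow_succ] at h1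
          have h2 : φ (b : S) * π w = 1 := mul_left_cancel₀ (pow_ne_zero n hb) (by rw [← mul_assoc, h1, mul_one])
          rw [← hpq, map_mul, hπ, mul_assoc, mul_comm (π w), h2, mul_one]
          exact (div_mul_cancel₀ _ hb).symm
        refine ⟨⟨e * y, (isIntegral_mul_idempotent (A := A) π he hkill y ?_).tower_top⟩, ?_⟩
        · rw [hy, show π.comp (algebraMap A T) = g.comp (algebraMap A (E s)) from RingHom.ext fun a => by
            show π (algebraMap D T (algebraMap A D a)) = _
            rw [hπ]
            rfl]
          exact RingHom.IsIntegralElem.map (Algebra.IsIntegral.of_finite A (E s) |>.isIntegral u) g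
        · show π (e * y) = _
          rw [map_mul, hπe, one_mul, hy]
      choose c hc using hlift
      let ρ : N →+* M.ResidueField := algebraMap N M.ResidueField
      have hwd : ∀ a b : N, π (a : T) = π (b : T) → ρ a = ρ b := fun a b h => by
        rw [← sub_eq_zero, ← map_sub]
        refine Ideal.algebraMap_residueField_eq_zero.2 (hMle ?_)
        show π ((a : T) - (b : T)) = 0
        rw [map_sub, h, sub_self]
      have hc' : ∀ u, π ((c u : N) : T) = g u := hc
      let σ : E s →+* M.ResidueField :=
        { toFun := fun u => ρ (c u)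
          map_one' := by rw [← map_one ρ]; exact hwd _ _ (by rw [hc', map_one, OneMemClass.coe_one, map_one])
          map_mul' := fun u v => by
            rw [← map_mul]; exact hwd _ _ (by rw [hc', MulMemClass.coe_mul, map_mul, map_mul, hc', hc'])
          map_zero' := by rw [← map_zero ρ]; exact hwd _ _ (by rw [hc', map_zero, ZeroMemClass.coe_zero, map_zero])
          map_add' := fun u v => by
            rw [← map_add]; exact hwd _ _ (by rw [hc', AddMemClass.coe_add, map_add, map_add, hc', hc']) }
      have hσA : ∀ a, σ (algebraMap A (E s) a) = (algebraMap F₀ M.ResidueField) (r' (residue A a)) := fun a => by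
        show ρ (c _) = ρ (algebraMap D N (algebraMap A D a))
        refine hwd _ _ ?_
        rw [hc']
        show algebraMap (S ⧸ Q) F (algebraMap A (S ⧸ Q) a) = π (algebraMap D T (algebraMap A D a))
        rw [hπ]
        rfl
      have hσm : ∀ u ∈ maximalIdeal (E s), σ u = 0 := by
        intro u hu
        rw [← Algebra.FormallyUnramified.map_maximalIdeal (R := A)] at hu
        have h1 : (maximalIdeal A).map (algebraMap A (E s)) ≤ RingHom.ker σ :=
          Ideal.map_le_iff_le_comap.2 fun a ha => by
            show σ (algebraMap A (E s) a) = 0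
            rw [hσA, (residue_eq_zero_iff a).2 ha, map_zero, map_zero]
        exact h1 hu
      let κ : ResidueField (E s) →+* M.ResidueField := Ideal.Quotient.lift _ σ hσm
      obtain ⟨θ, hθ⟩ := Field.exists_primitive_element (ResidueField A) (ResidueField (E s))
      have hθi : IsIntegral (ResidueField A) θ := IsIntegral.of_finite _ _
      let g₀ := (minpoly (ResidueField A) θ).map r'
      have hg₀ : aeval (κ θ) g₀ = 0 := by
        rw [aeval_def, eval₂_map,
          show (algebraMap F₀ M.ResidueField).comp r' = κ.comp (algebraMap (ResidueField A) (ResidueField (E s)))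
            from RingHom.ext fun x => by
              obtain ⟨a, rfl⟩ := residue_surjective x
              exact (hσA a).symm,
          ← Polynomial.hom_eval₂, ← aeval_def, minpoly.aeval, map_zero]
      have hr : Function.Bijective ((resMap M).codRestrict F₀
          fun x => (closure_range_eq M).ge ⟨x, rfl⟩) := ⟨RingHom.injective _, fun c' => by
        obtain ⟨x, hx⟩ := (closure_range_eq M).le c'.2
        exact ⟨x, Subtype.ext hx⟩⟩
      have hr'bij : Function.Bijective r' := hr.comp hbij
      have hg₀irr : Irreducible g₀ :=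
        (MulEquiv.irreducible_iff (f := (Polynomial.mapEquiv (RingEquiv.ofBijective _ hr'bij)).toMulEquiv)).2
          (minpoly.irreducible hθi)
      have hg₀eq : g₀ = minpoly F₀ (κ θ) :=
        minpoly.eq_of_irreducible_of_monic hg₀irr hg₀ ((minpoly.monic hθi).map _)
      have hsep : κ θ ∈ separableClosure F₀ M.ResidueField := mem_separableClosure_iff.2 (by
        show (minpoly F₀ (κ θ)).Separable
        rw [← hg₀eq]
        exact (show (minpoly (ResidueField A) θ).Separable from Algebra.IsSeparable.isSeparable _ θ).map)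
      calc Module.finrank (ResidueField A) (ResidueField (E s))
          = (minpoly (ResidueField A) θ).natDegree := by
            rw [← IntermediateField.adjoin.finrank hθi, hθ, IntermediateField.finrank_top']
        _ = (minpoly F₀ (κ θ)).natDegree := by
            rw [← hg₀eq, (minpoly.monic hθi).natDegree_map]
        _ = (minpoly F₀ (⟨κ θ, hsep⟩ : separableClosure F₀ M.ResidueField)).natDegree := by
            rw [← minpoly.algebraMap_eq (FaithfulSMul.algebraMap_injective (separableClosure F₀ M.ResidueField) M.ResidueField) (⟨κ θ, hsep⟩ : separableClosure F₀ M.ResidueField)]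
            rfl
        _ ≤ _ := minpoly.natDegree_le _
    let deg : Finset D → ℕ := fun s => Module.finrank (ResidueField A) (ResidueField (E s))
    obtain ⟨s, hs⟩ : ∃ s, deg s = Nat.findGreatest (fun n => ∃ s, deg s = n)
        (Module.finrank F₀ (separableClosure F₀ M.ResidueField)) :=
      Nat.findGreatest_spec (P := fun n => ∃ s, deg s = n) (hbound ∅) ⟨∅, rfl⟩
    refine ⟨E s, inferInstance, fun d => ?_⟩
    let s' := insert d s
    have hle : E s ≤ E s' := fun u hu => by
      rw [← SetLike.mem_coe, hE] at hu ⊢
      refine Subfield.closure_mono (Set.union_subset_union_right _ ?_) hu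
      exact Finset.coe_subset.2 (Finset.image_subset_image (Finset.subset_insert d s))
    let ι : E s →ₐ[A] E s' := Subalgebra.inclusion hle
    haveI : IsLocalHom ι.toRingHom := ⟨fun u hu => hEinv s u (hu.map (E s').val)⟩
    let κ : ResidueField (E s) →ₐ[ResidueField A] ResidueField (E s') :=
      { toRingHom := ResidueField.map ι.toRingHom
        commutes' := fun x => by obtain ⟨r, rfl⟩ := residue_surjective x; rfl }
    have hsurj : Function.Surjective κ := by
      refine (LinearMap.injective_iff_surjective_of_finrank_eq_finrank (f := κ.toLinearMap) ?_).1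
        κ.toRingHom.injective
      refine le_antisymm (LinearMap.finrank_le_finrank_of_injective (f := κ.toLinearMap) κ.toRingHom.injective) ?_
      show deg s' ≤ deg s
      rw [hs]
      exact Nat.le_findGreatest (hbound s') ⟨s', rfl⟩
    have htop : LinearMap.range ι.toLinearMap = ⊤ := by
      refine top_le_iff.1 (Submodule.le_of_le_smul_of_le_jacobson_bot Module.Finite.fg_top
        (jacobson_eq_maximalIdeal (⊥ : Ideal A) bot_ne_top).ge ?_)
      intro z _
      obtain ⟨u, hu⟩ := hsurj (residue (E s') z)
      obtain ⟨u, rfl⟩ := residue_surjective u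
      refine Submodule.mem_sup.2 ⟨ι u, ⟨u, rfl⟩, z - ι u, ?_, by abel⟩
      rw [Ideal.smul_top_eq_map, Submodule.restrictScalars_mem,
        Algebra.FormallyUnramified.map_maximalIdeal, ← residue_eq_zero_iff, map_sub, sub_eq_zero]
      exact hu.symm
    have hd : Ideal.Quotient.mk Q (d : S) ∈ E s' := by
      rw [← SetLike.mem_coe, hE]
      exact Subfield.subset_closure (Or.inr (Finset.mem_image_of_mem _ (Finset.mem_insert_self d s)))
    obtain ⟨u, hu⟩ := htop.ge (Submodule.mem_top (x := (⟨_, hd⟩ : E s')))
    have h1 : (u : S ⧸ Q) = Ideal.Quotient.mk Q (d : S) := congrArg Subtype.val hu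
    exact h1 ▸ u.2
  choose E hEfin hDE using fun Q : {Q // Q ∈ minimalPrimes S} => key Q.1 Q.2
  haveI : Fintype {Q // Q ∈ minimalPrimes S} :=
    (Ideal.finite_minimalPrimes_of_isNoetherianRing S ⊥).fintype
  let Φ : D →ₗ[A] ((Q : {Q // Q ∈ minimalPrimes S}) → E Q) :=
    LinearMap.pi fun Q => (((Ideal.Quotient.mkₐ A Q.1).comp D.val).codRestrict (E Q) (hDE Q)).toLinearMap
  have hΦ : Function.Injective Φ := by
    intro d d' h
    refine Subtype.ext (sub_eq_zero.1 (IsNilpotent.eq_zero (mem_nilradical.1 ?_)))
    rw [nilradical, Ideal.zero_eq_bot, ← Ideal.sInf_minimalPrimes]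
    refine Ideal.mem_sInf.2 fun {Q} hQ => ?_
    rw [← Ideal.Quotient.eq_zero_iff_mem, map_sub, sub_eq_zero]
    exact congrArg Subtype.val (congrFun h ⟨Q, hQ⟩)
  haveI := hEfin
  haveI : IsNoetherian A ((Q : {Q // Q ∈ minimalPrimes S}) → E Q) :=
    isNoetherian_of_isNoetherianRing_of_finite A _
  exact Module.Finite.of_injective Φ hΦ

end

end Groth.Agent.SHInter
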