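import Groth.Agent.SHInter.NoethIff
import Groth.Agent.SHInter.SemiLocal
import Groth.Prelude.Def_Found

/-!
Subalgebras of an essentially étale algebra with semilocal normalization are essentially of finite
type.
-/

set_option autoImplicit false

universe u

open IsLocalRing Polynomial
open scoped nonZeroDivisors

namespace Groth.Agent.SHInter

noncomputable section

/-- The integral closure in a finite reduced algebra over the total ring of fractions is finite. -/
theorem finite_integralClosure_of_nagata {A Q T : Type u} [CommRing A] [IsNoetherianRing A]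
    (hN : CAlg.IsNagata A) [CommRing Q] [Algebra A Q] [IsLocalization A⁰ Q] [CommRing T]
    [IsReduced T] [IsArtinianRing T] [Algebra A T] [Algebra Q T] [IsScalarTower A Q T]
    [Module.Finite Q T] : Module.Finite A (integralClosure A T) := by
  classical
  have key : ∀ P : PrimeSpectrum T, ∃ (N : Type u) (_ : AddCommGroup N) (_ : Module A N)
      (θ : integralClosure A T →ₗ[A] N), Module.Finite A N ∧
      ∀ x, θ x = 0 → (x : T) ∈ P.asIdeal := by
    intro P
    haveI : P.asIdeal.IsMaximal := IsArtinianRing.isMaximal_of_isPrime _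
    let F := T ⧸ P.asIdeal
    letI : Field F := Ideal.Quotient.field _
    let p : Ideal A := RingHom.ker (algebraMap A F)
    haveI : p.IsPrime := RingHom.ker_isPrime _
    letI : Algebra (A ⧸ p) F := (RingHom.kerLift (algebraMap A F)).toAlgebra
    haveI : IsScalarTower A (A ⧸ p) F := IsScalarTower.of_algebraMap_eq fun a => rfl
    have hinj : Function.Injective (algebraMap (A ⧸ p) F) := RingHom.kerLift_injective _
    letI : Algebra (FractionRing (A ⧸ p)) F := (IsFractionRing.lift hinj).toAlgebra
    haveI : IsScalarTower (A ⧸ p) (FractionRing (A ⧸ p)) F :=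
      IsScalarTower.of_algebraMap_eq fun z => (IsFractionRing.lift_algebraMap hinj z).symm
    haveI : Module.Finite (FractionRing (A ⧸ p)) F := by
      obtain ⟨G, hG⟩ := Module.Finite.fg_top (R := Q) (M := T)
      refine ⟨⟨G.image (Ideal.Quotient.mk P.asIdeal), top_le_iff.1 fun z _ => ?_⟩⟩
      obtain ⟨y, rfl⟩ := Ideal.Quotient.mk_surjective z
      have hy : y ∈ Submodule.span Q (G : Set T) := hG.ge trivial
      induction hy using Submodule.span_induction with
      | mem y hy => exact Submodule.subset_span (Finset.mem_image_of_mem _ hy)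
      | zero => rw [map_zero]; exact zero_mem _
      | add a b _ _ ha hb => rw [map_add]; exact add_mem (ha trivial) (hb trivial)
      | smul q a _ ha =>
        obtain ⟨⟨r, s⟩, hrs⟩ := IsLocalization.surj A⁰ q
        have hs : algebraMap A F (s : A) ≠ 0 := by
          rw [IsScalarTower.algebraMap_apply A T F, IsScalarTower.algebraMap_apply A Q T]
          exact (((IsLocalization.map_units Q s).map (algebraMap Q T)).map (algebraMap T F)).ne_zero
        have h1 : Ideal.Quotient.mk P.asIdeal (q • a) =
            ((algebraMap (A ⧸ p) (FractionRing (A ⧸ p)) (Ideal.Quotient.mk p r)) /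
              (algebraMap (A ⧸ p) (FractionRing (A ⧸ p)) (Ideal.Quotient.mk p s))) •
              Ideal.Quotient.mk P.asIdeal a := by
          rw [Algebra.smul_def, map_mul, Algebra.smul_def, map_div₀, ← IsScalarTower.algebraMap_apply,
            ← IsScalarTower.algebraMap_apply]
          congr 1
          rw [eq_div_iff (by exact hs)]
          show algebraMap T F (algebraMap Q T q) * algebraMap A F (s : A) = algebraMap A F r
          rw [IsScalarTower.algebraMap_apply A T F, IsScalarTower.algebraMap_apply A T F r,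
            IsScalarTower.algebraMap_apply A Q T, IsScalarTower.algebraMap_apply A Q T r,
            ← map_mul, ← map_mul, hrs]
        rw [h1]
        exact Submodule.smul_mem _ _ (ha trivial)
    haveI := hN.2 p F inferInstance
    haveI : Module.Finite A (A ⧸ p) :=
      Module.Finite.of_surjective (Ideal.Quotient.mkₐ A p).toLinearMap Ideal.Quotient.mk_surjective
    haveI : Module.Finite A (integralClosure (A ⧸ p) F) := Module.Finite.trans (A ⧸ p) _
    let θ : integralClosure A T →ₗ[A] integralClosure (A ⧸ p) F :=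
      { toFun := fun x => ⟨algebraMap T F (x : T),
          (x.2.map (IsScalarTower.toAlgHom A T F)).tower_top⟩
        map_add' := fun a b => Subtype.ext (map_add (algebraMap T F) _ _)
        map_smul' := fun c a => Subtype.ext (map_smul (IsScalarTower.toAlgHom A T F) c (a : T)) }
    exact ⟨integralClosure (A ⧸ p) F, inferInstance, inferInstance, θ, inferInstance, fun x hx =>
      Ideal.Quotient.eq_zero_iff_mem.1 (congrArg Subtype.val hx)⟩
  choose N hN1 hN2 θ hfin hker using key
  haveI : Fintype (PrimeSpectrum T) := Fintype.ofFinite _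
  haveI := hfin
  haveI : IsNoetherian A ((P : PrimeSpectrum T) → N P) := isNoetherian_of_isNoetherianRing_of_finite A _
  refine Module.Finite.of_injective (LinearMap.pi θ) fun x y h => ?_
  refine Subtype.ext (sub_eq_zero.1 (IsNilpotent.eq_zero (mem_nilradical.1 ?_)))
  rw [nilradical_eq_sInf, Submodule.mem_sInf]
  intro P hP
  exact hker ⟨P, hP⟩ (x - y) (by rw [map_sub, sub_eq_zero]; exact congrFun h _)

/-- A denominator outside a prime, in a field extension. -/
theorem exists_mul_isIntegral {A K F : Type u} [CommRing A] [Field K] [Field F] [Algebra A K]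
    [Algebra K F] [Algebra A F] [IsScalarTower A K F] (x : K) (s : F) (hs : IsIntegral A s)
    (ht : IsIntegral A (algebraMap K F x * s)) (Q : Ideal (integralClosure A F)) [Q.IsPrime]
    (hsQ : (⟨s, hs⟩ : integralClosure A F) ∉ Q) :
    ∃ (c : K) (hc : IsIntegral A (algebraMap K F c)),
      (⟨algebraMap K F c, hc⟩ : integralClosure A F) ∉ Q ∧ IsIntegral A c ∧ IsIntegral A (c * x) := by
  classical
  rcases eq_or_ne x 0 with rfl | hx
  · refine ⟨1, by rw [map_one]; exact isIntegral_one, fun h => ?_, isIntegral_one, by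
      rw [mul_zero]; exact isIntegral_zero⟩
    refine Ideal.IsPrime.ne_top inferInstance ((Ideal.eq_top_iff_one Q).2 ?_)
    convert h using 1
    exact Subtype.ext (map_one (algebraMap K F)).symm
  have hsK : IsIntegral K s := hs.tower_top
  let m := minpoly K s
  let n := m.natDegree
  have hm : m.Monic := minpoly.monic hsK
  obtain ⟨p, hp, hp0⟩ := hs
  have hs : IsIntegral A s := ⟨p, hp, hp0⟩
  have hc : ∀ i, IsIntegral A (m.coeff i) := Polynomial.isIntegral_coeff_of_dvd p m hp hm
    (minpoly.dvd K s (by rw [aeval_map_algebraMap]; exact hp0))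
  obtain ⟨q, hq, hq0⟩ := ht
  have hmt : Polynomial.scaleRoots m x = minpoly K (algebraMap K F x * s) := by
    refine minpoly.unique K _ ((Polynomial.monic_scaleRoots_iff x).2 hm)
      (Polynomial.scaleRoots_aeval_eq_zero (minpoly.aeval K s)) fun r hr hr0 => ?_
    rw [Polynomial.degree_scaleRoots]
    have h1 := Polynomial.scaleRoots_aeval_eq_zero (r := x⁻¹) hr0
    rw [← mul_assoc, ← map_mul, inv_mul_cancel₀ hx, map_one, one_mul] at h1
    exact (minpoly.min K s ((Polynomial.monic_scaleRoots_iff _).2 hr) h1).trans_eq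
      (Polynomial.degree_scaleRoots r)
  have hct : ∀ i, IsIntegral A (m.coeff i * x ^ (n - i)) := fun i => by
    have := Polynomial.isIntegral_coeff_of_dvd q (minpoly K (algebraMap K F x * s)) hq
      (minpoly.monic (hsK.smul x |> fun h => by rwa [Algebra.smul_def] at h))
      (minpoly.dvd K _ (by rw [aeval_map_algebraMap]; exact hq0)) i
    rwa [← hmt, Polynomial.coeff_scaleRoots] at this
  let C : ℕ → integralClosure A F := fun i =>
    ⟨algebraMap K F (m.coeff i), (hc i).map (IsScalarTower.toAlgHom A K F)⟩
  let sI : integralClosure A F := ⟨s, hs⟩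
  obtain ⟨i, hi, hiQ⟩ : ∃ i < n, C i ∉ Q := by
    by_contra hcon
    push_neg at hcon
    refine hsQ (‹Q.IsPrime›.mem_of_pow_mem n ?_)
    have h0 := minpoly.aeval K s
    rw [aeval_eq_sum_range, Finset.sum_range_succ, show (minpoly K s).coeff (minpoly K s).natDegree = 1 from hm,
      one_smul] at h0
    have h1 : sI ^ n = -∑ i ∈ Finset.range n, C i * sI ^ i := by
      refine eq_neg_of_add_eq_zero_left (Subtype.ext ?_)
      have hsum : ((∑ i ∈ Finset.range n, C i * sI ^ i : integralClosure A F) : F) =
          ∑ i ∈ Finset.range n, m.coeff i • s ^ i := by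
        rw [AddSubmonoidClass.coe_finsetSum]
        exact Finset.sum_congr rfl fun i _ => by rw [Algebra.smul_def]; rfl
      show s ^ n + ((∑ i ∈ Finset.range n, C i * sI ^ i : integralClosure A F) : F) = 0
      rw [hsum, add_comm]
      exact h0
    rw [h1]
    exact Q.neg_mem (Q.sum_mem fun i hi => Q.mul_mem_right _ (hcon i (Finset.mem_range.1 hi)))
  refine ⟨m.coeff i, (hc i).map (IsScalarTower.toAlgHom A K F), hiQ, hc i, ?_⟩
  have hk : 0 < n - i := Nat.sub_pos_of_lt hi
  refine IsIntegral.of_pow hk ?_
  rw [mul_pow, show n - i = (n - i - 1) + 1 from (Nat.succ_pred_eq_of_pos hk).symm, pow_succ (m.coeff i),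
    mul_assoc, ← show n - i = (n - i - 1) + 1 from (Nat.succ_pred_eq_of_pos hk).symm]
  exact ((hc i).pow _).mul (hct i)

/-- A denominator outside a prime, in a subalgebra of a reduced Artinian algebra. -/
theorem exists_denominator {A T : Type u} [CommRing A] [CommRing T] [IsArtinianRing T] [IsReduced T]
    [Algebra A T] (L : Subalgebra A T) [IsArtinianRing L] (x : L)
    (P : Ideal (integralClosure A T)) [P.IsPrime] (u : integralClosure A T) (hu : u ∉ P)
    (hux : IsIntegral A ((u : T) * (x : T))) :
    ∃ (b : L) (hb : IsIntegral A (b : T)),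
      (⟨(b : T), hb⟩ : integralClosure A T) ∉ P ∧ IsIntegral A ((b : T) * (x : T)) := by
  classical
  haveI : IsReduced L := isReduced_of_injective L.val Subtype.val_injective
  obtain ⟨P₀, hP₀, hP₀P⟩ := Ideal.exists_minimalPrimes_le
    (I := (⊥ : Ideal (integralClosure A T))) (J := P) bot_le
  obtain ⟨P', hP', hPP'⟩ := Ideal.exists_comap_eq_of_mem_minimalPrimes_of_injective
    (f := (integralClosure A T).val.toRingHom) Subtype.val_injective P₀ hP₀
  haveI := hP'
  haveI : P'.IsMaximal := IsArtinianRing.isMaximal_of_isPrime _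
  let F := T ⧸ P'
  letI : Field F := Ideal.Quotient.field _
  let PL : Ideal L := P'.comap L.val.toRingHom
  haveI : PL.IsPrime := Ideal.IsPrime.comap _
  haveI : PL.IsMaximal := IsArtinianRing.isMaximal_of_isPrime _
  let K := L ⧸ PL
  letI : Field K := Ideal.Quotient.field _
  letI : Algebra K F := (Ideal.quotientMap P' L.val.toRingHom le_rfl).toAlgebra
  haveI : IsScalarTower A K F := IsScalarTower.of_algebraMap_eq fun a => rfl
  let π : T →+* F := Ideal.Quotient.mk P'
  let πL : L →+* K := Ideal.Quotient.mk PL
  obtain ⟨e, he, hπe, hkill⟩ := exists_branch_idempotent π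
  obtain ⟨eL, heL, hπeL, hkillL⟩ := exists_branch_idempotent πL
  let θ : integralClosure A T →+* integralClosure A F :=
    (π.comp (integralClosure A T).val.toRingHom).codRestrict (integralClosure A F).toSubring
      fun z => z.2.map (IsScalarTower.toAlgHom A T F)
  have hθ : Function.Surjective θ := fun z => by
    obtain ⟨y, hy⟩ := Ideal.Quotient.mk_surjective (z : F)
    refine ⟨⟨e * y, isIntegral_mul_idempotent π he hkill y ?_⟩, Subtype.ext ?_⟩
    · show (π.comp (algebraMap A T)).IsIntegralElem (π y)
      rw [show π y = (z : F) from hy]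
      exact z.2
    · show π (e * y) = (z : F)
      rw [map_mul, hπe, one_mul]
      exact hy
  have hker : RingHom.ker θ ≤ P := fun z hz => hP₀P (hPP'.le (by
    show (z : T) ∈ P'
    exact Ideal.Quotient.eq_zero_iff_mem.1 (congrArg Subtype.val (RingHom.mem_ker.1 hz))))
  haveI : (P.map θ).IsPrime := Ideal.map_isPrime_of_surjective hθ hker
  have hback : (P.map θ).comap θ = P := by
    rw [Ideal.comap_map_of_surjective' θ hθ, sup_eq_left.2 hker]
  obtain ⟨c, hc, hcQ, hcA, hcx⟩ := exists_mul_isIntegral (A := A) (πL x) (π (u : T))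
    (u.2.map (IsScalarTower.toAlgHom A T F))
    (by
      show IsIntegral A (π (x : T) * π (u : T))
      rw [← map_mul, mul_comm]
      exact hux.map (IsScalarTower.toAlgHom A T F))
    (P.map θ) (fun h => hu (hback.le (show θ u ∈ P.map θ from h)))
  obtain ⟨c₀, rfl⟩ := Ideal.Quotient.mk_surjective c
  have hb : IsIntegral A (eL * c₀) := isIntegral_mul_idempotent πL heL hkillL c₀ hcA
  have hbx : IsIntegral A (eL * (c₀ * x)) := isIntegral_mul_idempotent πL heL hkillL (c₀ * x) (by
    rw [map_mul]; exact hcx)
  refine ⟨eL * c₀, hb.map L.val, fun h => hcQ ?_, ?_⟩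
  · have h1 : θ ⟨((eL * c₀ : L) : T), hb.map L.val⟩ ∈ P.map θ := Ideal.mem_map_of_mem _ h
    convert h1 using 1
    refine Subtype.ext ?_
    show algebraMap K F (πL c₀) = π ((eL * c₀ : L) : T)
    rw [show π ((eL * c₀ : L) : T) = algebraMap K F (πL (eL * c₀)) from rfl, map_mul πL, hπeL, one_mul]
  · have h2 := hbx.map L.val
    rw [← mul_assoc] at h2
    exact h2

/-- Elements integral over an algebra with integral generator become integral over the base after
multiplying by a unit. -/
theorem exists_isUnit_mul_isIntegral {A E T : Type u} [CommRing A] [CommRing E] [CommRing T]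
    [Algebra A E] [Algebra E T] [Algebra A T] [IsScalarTower A E T] (W : Subalgebra A E)
    (hW : ∀ w ∈ W, IsIntegral A w)
    (hfrac : ∀ e : E, ∃ g ∈ W, IsUnit g ∧ e * g ∈ W) {z : T} (hz : IsIntegral E z) :
    ∃ u : E, IsUnit u ∧ IsIntegral A u ∧ IsIntegral A (algebraMap E T u * z) := by
  classical
  obtain ⟨p, hp, hp0⟩ := hz
  choose g hgW hgu hgh using hfrac
  let u := ∏ i ∈ Finset.range p.natDegree, g (p.coeff i)
  have huW : u ∈ W := prod_mem fun i _ => hgW _
  refine ⟨u, IsUnit.prod_iff.2 fun i _ => hgu _, hW u huW, ?_⟩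
  have hcoeff : ∀ i, (p.scaleRoots u).coeff i ∈ W := fun i => by
    rw [Polynomial.coeff_scaleRoots]
    rcases lt_or_ge i p.natDegree with hi | hi
    · rw [show p.natDegree - i = 1 + (p.natDegree - i - 1) by omega, pow_add, pow_one, ← mul_assoc]
      refine W.mul_mem ?_ (W.pow_mem huW _)
      show p.coeff i * ∏ j ∈ Finset.range p.natDegree, g (p.coeff j) ∈ W
      rw [← Finset.mul_prod_erase _ (fun j => g (p.coeff j)) (Finset.mem_range.2 hi), ← mul_assoc]
      exact W.mul_mem (hgh _) (prod_mem fun j _ => hgW _)
    · rw [Nat.sub_eq_zero_of_le hi, pow_zero, mul_one]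
      rcases eq_or_lt_of_le hi with rfl | hi
      · rw [show p.coeff p.natDegree = 1 from hp]; exact W.one_mem
      · rw [Polynomial.coeff_eq_zero_of_natDegree_lt hi]; exact W.zero_mem
  obtain ⟨p', hp', -, hp'm⟩ := Polynomial.lifts_and_natDegree_eq_and_monic
    ((Polynomial.lifts_iff_coeff_lifts (f := W.val.toRingHom) _).2 fun i => ⟨⟨_, hcoeff i⟩, rfl⟩)
    ((Polynomial.monic_scaleRoots_iff u).2 hp)
  have h0 : aeval (algebraMap E T u * z) (p.scaleRoots u) = 0 := Polynomial.scaleRoots_aeval_eq_zero hp0
  have hp'' : p'.map W.val.toRingHom = p.scaleRoots u := hp'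
  rw [← hp''] at h0
  haveI : Algebra.IsIntegral A W := ⟨fun w => (isIntegral_algHom_iff W.val Subtype.val_injective).1 (hW w w.2)⟩
  refine isIntegral_trans (R := A) (A := W) _ ⟨p', hp'm, ?_⟩
  rw [aeval_def, eval₂_map] at h0
  exact h0

end

end Groth.Agent.SHInter
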