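import Mathlib

/-!
Field lemmas: counting embeddings of the separable closure, and integral closures in simple
extensions generated by a simple root.
-/

set_option autoImplicit false

universe u

open Polynomial

namespace Groth.Agent.SHInter

noncomputable section

/-- `l` receives all embeddings of the separable elements of `k'`. -/
def SepSplits (k k' l : Type u) [Field k] [Field k'] [Field l] [Algebra k k'] [Algebra k l] : Prop :=
  ∀ (Ω : Type u) [Field Ω] [IsAlgClosed Ω] (ι : l →+* Ω) (τ : k' →+* Ω),
    ι.comp (algebraMap k l) = τ.comp (algebraMap k k') →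
    ∀ y : k', IsSeparable k y → τ y ∈ ι.range

/-- Counting criterion for `SepSplits`. -/
theorem sepSplits_iff_natCard (k k' l : Type u) [Field k] [Field k'] [Field l] [Algebra k k']
    [Algebra k l] [FiniteDimensional k k'] :
    SepSplits k k' l ↔
      Nat.card (separableClosure k k' →ₐ[k] l) = Module.finrank k (separableClosure k k') := by
  classical
  let ks := separableClosure k k'
  constructor
  · intro h
    let Ω := AlgebraicClosure l
    let i : l →ₐ[k] Ω := IsScalarTower.toAlgHom k l Ω
    rw [← AlgHom.card (F := k) (E := ks) Ω, ← Nat.card_eq_fintype_card]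
    refine Nat.card_eq_of_bijective (fun g : ks →ₐ[k] l => i.comp g) ⟨fun g g' hg => ?_, fun τ => ?_⟩
    · exact AlgHom.ext fun y => i.toRingHom.injective (AlgHom.congr_fun hg y)
    · letI : Algebra ks Ω := τ.toRingHom.toAlgebra
      let τ' : k' →ₐ[ks] Ω := IsAlgClosed.lift
      have hτ : ∀ y : ks, τ' (y : k') = τ y := fun y => τ'.commutes y
      have hmem : ∀ y : ks, ∃ z : l, i z = τ y := fun y => by
        obtain ⟨z, hz⟩ := h Ω i.toRingHom τ'.toRingHom (RingHom.ext fun a => by
          show i (algebraMap k l a) = τ' (algebraMap k k' a)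
          rw [i.commutes, show algebraMap k k' a = ((algebraMap k ks a : ks) : k') from rfl, hτ, τ.commutes])
          (y : k') (mem_separableClosure_iff.1 y.2)
        exact ⟨z, hz.trans (hτ y)⟩
      choose g hg using hmem
      refine ⟨{ toFun := g, map_one' := ?_, map_mul' := fun a b => ?_, map_zero' := ?_,
                map_add' := fun a b => ?_, commutes' := fun a => ?_ }, AlgHom.ext hg⟩
      all_goals refine i.toRingHom.injective ?_
      · exact (hg 1).trans (by rw [map_one, map_one])
      · exact (hg (a * b)).trans (by rw [map_mul, map_mul]; exact congrArg₂ (· * ·) (hg a).symm (hg b).symm)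
      · exact (hg 0).trans (by rw [map_zero, map_zero])
      · exact (hg (a + b)).trans (by rw [map_add, map_add]; exact congrArg₂ (· + ·) (hg a).symm (hg b).symm)
      · exact (hg _).trans (by rw [τ.commutes]; exact (i.commutes a).symm)
  · intro h Ω _ _ ι τ hc y hy
    letI : Algebra k Ω := (ι.comp (algebraMap k l)).toAlgebra
    let i : l →ₐ[k] Ω := { ι with commutes' := fun _ => rfl }
    have hbij : Function.Bijective (fun g : ks →ₐ[k] l => i.comp g) := by
      rw [Fintype.bijective_iff_injective_and_card]
      refine ⟨fun g g' hg => AlgHom.ext fun z => i.toRingHom.injective (AlgHom.congr_fun hg z), ?_⟩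
      rw [AlgHom.card (F := k) (E := ks) Ω, ← Nat.card_eq_fintype_card, h]
    let τs : ks →ₐ[k] Ω :=
      { toRingHom := τ.comp (algebraMap ks k'), commutes' := fun a => (RingHom.congr_fun hc a).symm }
    obtain ⟨g, hg⟩ := hbij.2 τs
    exact ⟨g ⟨y, mem_separableClosure_iff.2 hy⟩, AlgHom.congr_fun hg ⟨y, mem_separableClosure_iff.2 hy⟩⟩

/-- The integral closure in a simple extension generated by a simple root with invertible
derivative. -/
theorem mem_adjoin_of_isUnit_derivative {R K L : Type u} [CommRing R] [IsDomain R]
    [IsIntegrallyClosed R] [Field K] [Algebra R K] [IsFractionRing R K] [Field L] [Algebra K L]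
    [Algebra R L] [IsScalarTower R K L] (θ : L) {g : R[X]} (hgm : g.Monic) (hg : aeval θ g = 0)
    (hu : ∃ u : L, IsIntegral R u ∧ aeval θ g.derivative * u = 1)
    (htop : IntermediateField.adjoin K ({θ} : Set L) = ⊤) {z : L} (hz : IsIntegral R z) :
    z ∈ Algebra.adjoin R ({θ} : Set L) := by
  classical
  obtain ⟨u, hui, hu⟩ := hu
  have hθR : IsIntegral R θ := ⟨g, hgm, hg⟩
  have hθ : IsIntegral K θ := hθR.tower_top
  have hm : minpoly K θ = (minpoly R θ).map (algebraMap R K) :=
    minpoly.isIntegrallyClosed_eq_field_fractions' K hθR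
  haveI : Module.IsTorsionFree R L := Module.IsTorsionFree.trans_faithfulSMul R K L
  obtain ⟨h, hgh⟩ := minpoly.isIntegrallyClosed_dvd hθR hg
  have hu' : aeval θ (minpoly R θ).derivative * (aeval θ h * u) = 1 := by
    rw [← hu, hgh, derivative_mul, map_add, map_mul, map_mul, minpoly.aeval, zero_mul, add_zero,
      mul_assoc]
  have hd : aeval θ (minpoly K θ).derivative = aeval θ (minpoly R θ).derivative := by
    rw [hm, derivative_map, aeval_map_algebraMap]
  haveI : Algebra.IsSeparable K L := by
    have hsep : IsSeparable K θ := by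
      refine (separable_iff_derivative_ne_zero (minpoly.irreducible hθ)).2 fun h0 => ?_
      rw [← hd, h0, map_zero, zero_mul] at hu'
      exact zero_ne_one hu'
    haveI := (IntermediateField.isSeparable_adjoin_simple_iff_isSeparable K L).2 hsep
    rw [htop] at this
    exact Algebra.IsSeparable.of_algHom K _ (IntermediateField.topEquiv (F := K) (E := L)).symm.toAlgHom
  let pb : PowerBasis K L := (IntermediateField.adjoin.powerBasis hθ).map
    ((IntermediateField.equivOfEq htop).trans IntermediateField.topEquiv)
  have hgen : pb.gen = θ := rfl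
  haveI : FiniteDimensional K L := pb.finite
  have h1 := Algebra.discr_mul_isIntegral_mem_adjoin (R := R) K (B := pb) (by rw [hgen]; exact hθR) hz
  rw [hgen, Algebra.discr_powerBasis_eq_norm, hgen] at h1
  have hn : (Algebra.norm K) (aeval θ (minpoly K θ).derivative) *
      (Algebra.norm K) (aeval θ h * u) = 1 := by rw [← map_mul, hd, hu', map_one]
  obtain ⟨r, hr⟩ := IsIntegrallyClosed.isIntegral_iff.1
    (Algebra.isIntegral_norm K ((show IsIntegral R (aeval θ h) from Algebra.adjoin_le (Set.singleton_subset_iff.2 (show θ ∈ integralClosure R L from hθR)) (aeval_mem_adjoin_singleton R θ)).mul hui))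
  have h2 : (algebraMap R L ((-1) ^ (Module.finrank K L * (Module.finrank K L - 1) / 2) * r)) *
      ((((-1 : K) ^ (Module.finrank K L * (Module.finrank K L - 1) / 2)) *
        (Algebra.norm K) (aeval θ (minpoly K θ).derivative)) • z) = z := by
    rw [IsScalarTower.algebraMap_apply R K L, ← Algebra.smul_def, smul_smul, map_mul, map_pow, map_neg,
      map_one, hr, mul_mul_mul_comm, ← mul_pow, neg_one_mul, neg_neg, one_pow, one_mul,
      mul_comm ((Algebra.norm K) (aeval θ h * u)), hn, one_smul]
  rw [← h2]
  exact mul_mem (Subalgebra.algebraMap_mem _ _) h1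

end

end Groth.Agent.SHInter
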