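import Groth.Agent.SHInter.Criterion
import Groth.Agent.SHInter.SemiLocal
import Groth.Agent.SHInter.SplitField

/-!
Residue fields of the normalization of a finite étale algebra over a unibranch base.
-/

set_option autoImplicit false

universe u

open IsLocalRing Polynomial
open scoped nonZeroDivisors TensorProduct

namespace Groth.Agent.SHInter

noncomputable section

/-- Elements of a branch integral over a monogenic unramified algebra over a normal base. -/
theorem exists_rep {R K B L : Type u} [CommRing R] [IsDomain R] [IsIntegrallyClosed R] [Field K]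
    [Algebra R K] [IsFractionRing R K] [CommRing B] [Field L] [Algebra B L] (e : K →+* L) (θ : L)
    {g : R[X]} (hgm : g.Monic) (hg : eval₂ (e.comp (algebraMap R K)) θ g = 0)
    (hu : ∃ b : B, eval₂ (e.comp (algebraMap R K)) θ g.derivative * algebraMap B L b = 1)
    (hgen : ∀ b : B, ∃ G : R[X], eval₂ (e.comp (algebraMap R K)) θ G = algebraMap B L b)
    (hfrac : ∀ z : L, ∃ a b : B, algebraMap B L b ≠ 0 ∧ z * algebraMap B L b = algebraMap B L a)
    {z : L} (hz : IsIntegral B z) :
    ∃ G : R[X], eval₂ (e.comp (algebraMap R K)) θ G = z := by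
  classical
  letI : Algebra K L := e.toAlgebra
  letI : Algebra R L := (e.comp (algebraMap R K)).toAlgebra
  haveI : IsScalarTower R K L := IsScalarTower.of_algebraMap_eq fun _ => rfl
  have hθ : IsIntegral R θ := ⟨g, hgm, hg⟩
  let W := Algebra.adjoin R ({θ} : Set L)
  have hB : ∀ b : B, algebraMap B L b ∈ W := fun b => by
    obtain ⟨G, hG⟩ := hgen b
    rw [← hG]
    exact aeval_mem_adjoin_singleton R θ
  have hWle : W ≤ integralClosure R L := Algebra.adjoin_le (Set.singleton_subset_iff.2 hθ)
  have hzR : IsIntegral R z := by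
    haveI : Algebra.IsIntegral R W := ⟨fun w => (isIntegral_algHom_iff W.val Subtype.val_injective).1 (hWle w.2)⟩
    refine isIntegral_trans (R := R) (A := W) z ?_
    obtain ⟨p, hp, hp0⟩ := hz
    refine ⟨p.map ((algebraMap B L).codRestrict W.toSubring hB), hp.map _, ?_⟩
    rw [eval₂_map]
    exact hp0
  have htop : IntermediateField.adjoin K ({θ} : Set L) = ⊤ := by
    have hW : ∀ w ∈ W, w ∈ IntermediateField.adjoin K ({θ} : Set L) := fun w hw => by
      simp only [W, Algebra.adjoin_singleton_eq_range_aeval] at hw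
      obtain ⟨G, rfl⟩ := hw
      show aeval θ G ∈ _
      rw [← aeval_map_algebraMap K θ G]
      exact IntermediateField.algebra_adjoin_le_adjoin K _ (aeval_mem_adjoin_singleton K θ)
    refine eq_top_iff.2 fun y _ => ?_
    obtain ⟨a, b, hb, hab⟩ := hfrac y
    rw [eq_div_of_mul_eq hb hab]
    exact div_mem (hW _ (hB a)) (hW _ (hB b))
  obtain ⟨b, hb⟩ := hu
  have h1 := mem_adjoin_of_isUnit_derivative (K := K) θ hgm hg ⟨_, hWle (hB b), hb⟩ htop hzR
  rw [Algebra.adjoin_singleton_eq_range_aeval] at h1
  exact h1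

variable {A B : Type u} [CommRing A] [IsLocalRing A] [IsDomain A] [CommRing B]
  [Algebra A B] [Module.Flat A B]

/-- The normalization maps to that of a flat algebra. -/
theorem exists_normalization_hom :
    ∃ (e : FractionRing A →+* FractionRing B)
      (η : integralClosure A (FractionRing A) →+* integralClosure B (FractionRing B)),
      (∀ a, e (algebraMap A _ a) = algebraMap B _ (algebraMap A B a)) ∧
      ∀ c, (η c : FractionRing B) = e (c : FractionRing A) := by
  have hu : ∀ a : A⁰, IsUnit (((algebraMap B (FractionRing B)).comp (algebraMap A B)) a) := fun a =>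
    IsLocalization.map_units (FractionRing B) (⟨algebraMap A B a, mem_nonZeroDivisors_iff_right.2 fun b hb => by
      have h : IsSMulRegular B (a : A) :=
        Module.Flat.isSMulRegular_of_isRegular (isRegular_iff_mem_nonZeroDivisors.mpr a.2)
      exact h.right_eq_zero_of_smul (by rw [Algebra.smul_def, mul_comm]; exact hb)⟩ : B⁰)
  let e : FractionRing A →+* FractionRing B := IsLocalization.lift hu
  have he : ∀ a, e (algebraMap A _ a) = algebraMap B _ (algebraMap A B a) := fun a =>
    IsLocalization.lift_eq hu a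
  have hi : ∀ c : integralClosure A (FractionRing A),
      e (c : FractionRing A) ∈ integralClosure B (FractionRing B) := fun c => by
    obtain ⟨p, hp, hp0⟩ := c.2
    refine ⟨p.map (algebraMap A B), hp.map _, ?_⟩
    rw [eval₂_map, show (algebraMap B (FractionRing B)).comp (algebraMap A B) =
      e.comp (algebraMap A (FractionRing A)) from RingHom.ext fun a => (he a).symm,
      ← Polynomial.hom_eval₂, hp0, map_zero]
  exact ⟨e, (e.comp (integralClosure A (FractionRing A)).val.toRingHom).codRestrict
    (integralClosure B (FractionRing B)).toSubring hi, he, fun _ => rfl⟩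

variable [IsLocalRing B] [IsLocalHom (algebraMap A B)] [IsReduced B] [IsNoetherianRing B]
  [IsLocalRing (integralClosure A (FractionRing A))]
  [IsLocalHom (algebraMap A (integralClosure A (FractionRing A)))]

/-- If the residue field receives all embeddings, the normalization has purely inseparable residue
fields. -/
theorem resPurelyInsep_of_sepSplits (x : B) {f : A[X]} (hfm : f.Monic) (hfx : aeval x f = 0)
    (hu : IsUnit (aeval x f.derivative)) (hgen : ∀ b, ∃ g : A[X], aeval x g = b)
    (hsplit : SepSplits (ResidueField A) (ResidueField (integralClosure A (FractionRing A)))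
      (ResidueField B)) : ResPurelyInsep B := by
  classical
  haveI : IsArtinianRing (FractionRing B) :=
    Groth.Agent.S2139.isNoetherian_frac (Ideal.finite_minimalPrimes_of_isNoetherianRing B ⊥)
  haveI : IsFractionRing (integralClosure A (FractionRing A)) (FractionRing A) :=
    integralClosure.isFractionRing_of_finite_extension (FractionRing A) (FractionRing A)
  haveI : IsIntegrallyClosed (integralClosure A (FractionRing A)) :=
    integralClosure.isIntegrallyClosedOfFiniteExtension (FractionRing A)
  obtain ⟨e, η, he, hη⟩ := exists_normalization_hom (A := A) (B := B)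
  intro M hM
  rw [eq_bot_iff]
  intro ζ hζ
  obtain ⟨z, hz⟩ := M.bijective_algebraMap_quotient_residueField.2 ζ
  obtain ⟨z, rfl⟩ := Ideal.Quotient.mk_surjective z
  obtain ⟨P, hP, hPM⟩ := Ideal.exists_minimalPrimes_le
    (I := (⊥ : Ideal (integralClosure B (FractionRing B)))) (J := M) bot_le
  obtain ⟨P', hP', hPP'⟩ := Ideal.exists_comap_eq_of_mem_minimalPrimes_of_injective
    (f := (integralClosure B (FractionRing B)).val.toRingHom) Subtype.val_injective P hP
  haveI := hP'
  haveI : P'.IsMaximal := IsArtinianRing.isMaximal_of_isPrime P'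
  letI := Ideal.Quotient.field P'
  let π : FractionRing B →+* FractionRing B ⧸ P' := Ideal.Quotient.mk P'
  let eL : FractionRing A →+* FractionRing B ⧸ P' := π.comp e
  have hcomp : (eL.comp (algebraMap (integralClosure A (FractionRing A)) (FractionRing A))).comp
      (algebraMap A (integralClosure A (FractionRing A))) =
      (algebraMap B (FractionRing B ⧸ P')).comp (algebraMap A B) :=
    RingHom.ext fun a => congrArg π (he a)
  have hev : ∀ g : A[X], eval₂ (eL.comp (algebraMap (integralClosure A (FractionRing A)) (FractionRing A)))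
      (algebraMap B (FractionRing B ⧸ P') x) (g.map (algebraMap A _)) =
      algebraMap B (FractionRing B ⧸ P') (aeval x g) := fun g => by
    rw [eval₂_map, hcomp, aeval_def, Polynomial.hom_eval₂]
  obtain ⟨u, hu⟩ := isUnit_iff_exists_inv.1 hu
  have hrep := exists_rep (B := B) eL (algebraMap B (FractionRing B ⧸ P') x)
    (hfm.map (algebraMap A (integralClosure A (FractionRing A))))
    (by rw [hev, hfx, map_zero]) ⟨u, by rw [derivative_map, hev, ← map_mul, hu, map_one]⟩
    (fun b => by
      obtain ⟨g, hg⟩ := hgen b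
      exact ⟨_, (hev g).trans (congrArg _ hg)⟩)
    (fun w => by
      obtain ⟨y, rfl⟩ := Ideal.Quotient.mk_surjective w
      obtain ⟨⟨a, b⟩, hab⟩ := IsLocalization.surj B⁰ y
      refine ⟨a, b, ((IsLocalization.map_units (FractionRing B) b).map π).ne_zero, ?_⟩
      exact (map_mul π _ _).symm.trans (congrArg π hab))
    (z := π (z : FractionRing B)) (by
      obtain ⟨p, hp, hp0⟩ := z.2
      exact ⟨p, hp, (Polynomial.hom_eval₂ p (algebraMap B (FractionRing B)) π (z : FractionRing B)).symm.trans
        (by rw [hp0, map_zero])⟩)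
  obtain ⟨G, hG⟩ := hrep
  let xN : integralClosure B (FractionRing B) := algebraMap B _ x
  have hmem : z - eval₂ η xN G ∈ P := by
    rw [← hPP', Ideal.mem_comap, ← Ideal.Quotient.eq_zero_iff_mem]
    show π ((z : FractionRing B) - ((eval₂ η xN G : integralClosure B (FractionRing B)) : FractionRing B)) = 0
    rw [map_sub, sub_eq_zero, ← hG]
    symm
    refine (Polynomial.hom_eval₂ G η (π.comp (integralClosure B (FractionRing B)).val.toRingHom) xN).trans ?_
    refine congrArg₂ (fun a b => eval₂ a b G) (RingHom.ext fun c => congrArg π (hη c)) rfl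
  let ρ : integralClosure B (FractionRing B) →+* M.ResidueField := algebraMap _ M.ResidueField
  have hζG : ζ = eval₂ (ρ.comp η) (ρ xN) G := by
    rw [← Polynomial.hom_eval₂, ← hz, ← sub_eq_zero]
    show ρ z - ρ (eval₂ η xN G) = 0
    rw [← map_sub]
    exact Ideal.algebraMap_residueField_eq_zero.2 (hPM hmem)
  have hρA : ∀ a, ρ (η (algebraMap A _ a)) = resMap M (residue B (algebraMap A B a)) := fun a => by
    show ρ _ = ρ (algebraMap B (integralClosure B (FractionRing B)) (algebraMap A B a))
    refine congrArg ρ (Subtype.ext ?_)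
    rw [hη]
    exact he a
  have hker : RingHom.ker (ρ.comp η) = maximalIdeal (integralClosure A (FractionRing A)) := by
    haveI : (RingHom.ker (ρ.comp η)).IsPrime := RingHom.ker_isPrime _
    have hc : (RingHom.ker (ρ.comp η)).comap (algebraMap A _) = maximalIdeal A := by
      ext a
      rw [Ideal.mem_comap, RingHom.mem_ker, RingHom.comp_apply, hρA, map_eq_zero, residue_eq_zero_iff,
        mem_maximalIdeal, mem_maximalIdeal]
      exact not_congr ⟨fun h => isUnit_of_map_unit _ _ h, fun h => h.map _⟩
    haveI : (RingHom.ker (ρ.comp η)).IsMaximal :=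
      Ideal.isMaximal_of_isIntegral_of_isMaximal_comap (R := A) _ (hc ▸ maximalIdeal.isMaximal A)
    exact eq_maximalIdeal inferInstance
  let φ : ResidueField (integralClosure A (FractionRing A)) →+* M.ResidueField :=
    Ideal.Quotient.lift _ (ρ.comp η) fun c hc => hker.ge hc
  haveI : Algebra.IsIntegral (ResidueField A) (ResidueField (integralClosure A (FractionRing A))) :=
    ⟨fun y => by
      obtain ⟨c, rfl⟩ := residue_surjective y
      obtain ⟨p, hp, hp0⟩ := Algebra.IsIntegral.isIntegral (R := A) c
      refine ⟨p.map (residue A), hp.map _, ?_⟩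
      rw [eval₂_map, show (algebraMap (ResidueField A) (ResidueField _)).comp (residue A) =
        (residue (integralClosure A (FractionRing A))).comp (algebraMap A _) from rfl,
        ← Polynomial.hom_eval₂, hp0, map_zero]⟩
  let F₀ := Subfield.closure (Set.range (ρ.comp (algebraMap B (integralClosure B (FractionRing B)))))
  have hres : ∀ w : ResidueField B, resMap M w ∈ (algebraMap F₀ M.ResidueField).range := fun w =>
    ⟨⟨resMap M w, (closure_range_eq M).ge ⟨w, rfl⟩⟩, rfl⟩
  let q := ringExpChar F₀
  haveI : ExpChar F₀ q := inferInstance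
  haveI : ExpChar M.ResidueField q :=
    expChar_of_injective_ringHom (algebraMap F₀ M.ResidueField).injective q
  let ks := separableClosure (ResidueField A) (ResidueField (integralClosure A (FractionRing A)))
  haveI : ExpChar ks q := RingHom.expChar (φ.comp (algebraMap ks _)) (RingHom.injective _) q
  have hperf : ∀ y, φ y ∈ perfectClosure F₀ M.ResidueField := by
    intro y
    obtain ⟨n, w, hw⟩ := IsPurelyInseparable.pow_mem ks q y
    obtain ⟨v, hv⟩ := hsplit (AlgebraicClosure M.ResidueField)
      ((algebraMap M.ResidueField _).comp (resMap M)) ((algebraMap M.ResidueField _).comp φ)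
      (RingHom.ext fun a => by
        obtain ⟨a, rfl⟩ := residue_surjective a
        exact congrArg (algebraMap M.ResidueField _) (hρA a).symm)
      (w : ResidueField (integralClosure A (FractionRing A))) (mem_separableClosure_iff.1 w.2)
    have hv' : resMap M v = φ w := (algebraMap M.ResidueField (AlgebraicClosure M.ResidueField)).injective hv
    refine (mem_perfectClosure_iff_pow_mem q).2 ⟨n, ?_⟩
    rw [← map_pow, ← hw]
    exact hv' ▸ hres v
  have hxP : ρ xN ∈ perfectClosure F₀ M.ResidueField := by
    obtain ⟨c, hc⟩ := hres (residue B x)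
    exact hc ▸ (perfectClosure F₀ M.ResidueField).algebraMap_mem c
  have hζP : ζ ∈ perfectClosure F₀ M.ResidueField := by
    rw [hζG, eval₂_eq_sum]
    exact sum_mem fun i _ => mul_mem (hperf (residue _ (G.coeff i))) (pow_mem hxP i)
  exact (separableClosure_inf_perfectClosure (F := F₀) (E := M.ResidueField)).le ⟨hζ, hζP⟩

theorem exists_point_aux {A B R Ω : Type u} [CommRing A] [HenselianLocalRing A] [IsDomain A]
    [CommRing B] [HenselianLocalRing B] [Algebra A B] [IsLocalHom (algebraMap A B)]
    [Algebra.IsIntegral A B] [IsReduced B] [IsNoetherianRing B]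
    [IsLocalRing (integralClosure A (FractionRing A))]
    [IsLocalHom (algebraMap A (integralClosure A (FractionRing A)))] [CommRing R] [Field Ω]
    (hres : ResPurelyInsep B) (ι : ResidueField B →+* Ω)
    (τ : ResidueField (integralClosure A (FractionRing A)) →+* Ω)
    (hc : ι.comp (algebraMap (ResidueField A) (ResidueField B)) =
      τ.comp (algebraMap (ResidueField A) (ResidueField (integralClosure A (FractionRing A)))))
    (c : integralClosure A (FractionRing A)) (hy : IsSeparable (ResidueField A) (residue _ c))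
    (i₁ : integralClosure A (FractionRing A) →+* R) (i₂ : B →+* R)
    (hi : ∀ a, i₂ (algebraMap A B a) = i₁ (algebraMap A _ a)) (hreg : ∀ n, n ≠ 0 → i₁ n ∈ R⁰)
    (σ : R →+* Ω) (hσ1 : σ (i₁ c) = τ (residue _ c)) (hσ2 : ∀ b, σ (i₂ b) = ι (residue B b)) :
    τ (residue _ c) ∈ ι.range := by
  classical
  letI : Algebra (ResidueField B) Ω := ι.toAlgebra
  haveI : (RingHom.ker σ).IsPrime := RingHom.ker_isPrime _
  obtain ⟨P₀, hP₀, hP₀σ⟩ := Ideal.exists_minimalPrimes_le
    (I := (⊥ : Ideal R)) (J := RingHom.ker σ) bot_le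
  haveI := hP₀.1.1
  let j : R →+* FractionRing (R ⧸ P₀) :=
    (algebraMap (R ⧸ P₀) (FractionRing (R ⧸ P₀))).comp (Ideal.Quotient.mk P₀)
  have hn0 : ∀ n, n ≠ 0 → j (i₁ n) ≠ 0 := fun n hn h => by
    have h1 : i₁ n ∈ P₀ := Ideal.Quotient.eq_zero_iff_mem.1
      (IsFractionRing.injective (R ⧸ P₀) (FractionRing (R ⧸ P₀)) (h.trans (map_zero _).symm))
    exact Set.disjoint_left.1 (Ideal.disjoint_nonZeroDivisors_of_mem_minimalPrimes hP₀) h1 (hreg n hn)
  let μ : B →+* FractionRing (R ⧸ P₀) := j.comp i₂
  let P := RingHom.ker μ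
  haveI : P.IsPrime := RingHom.ker_isPrime μ
  have hainj : Function.Injective (algebraMap A (integralClosure A (FractionRing A))) :=
    fun a b h => IsFractionRing.injective A (FractionRing A) (congrArg Subtype.val h)
  have hPA : P.comap (algebraMap A B) = ⊥ := by
    refine le_bot_iff.1 fun a ha => by_contra fun hne =>
      hn0 _ (fun h => hne ?_) (show j (i₁ (algebraMap A _ a)) = 0 by rw [← hi]; exact ha)
    exact hainj (h.trans (map_zero _).symm)
  have hPmin : P ∈ minimalPrimes B := by
    refine ⟨⟨inferInstance, bot_le⟩, fun p hp hle => ?_⟩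
    haveI := hp.1
    refine (eq_or_lt_of_le hle).elim (fun h => h.ge) fun hlt => ?_
    exact absurd (bot_le.trans_lt' (hPA ▸ Ideal.IsIntegral.comap_lt_comap (R := A) hlt)) not_lt_bot
  let κ : B →+* FractionRing (B ⧸ P) := (algebraMap (B ⧸ P) _).comp (Ideal.Quotient.mk P)
  let ι₀ : FractionRing (B ⧸ P) →+* FractionRing (R ⧸ P₀) :=
    IsFractionRing.lift (g := RingHom.kerLift μ) (RingHom.kerLift_injective μ)
  have hι₀ : ∀ b, ι₀ (κ b) = μ b := fun b =>
    IsFractionRing.lift_algebraMap (g := RingHom.kerLift μ) (RingHom.kerLift_injective μ) (Ideal.Quotient.mk P b)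
  obtain ⟨⟨a, ⟨d, hd⟩⟩, hab⟩ := IsLocalization.surj A⁰ (c : FractionRing A)
  let z₀ : FractionRing (B ⧸ P) := κ (algebraMap A B a) / κ (algebraMap A B d)
  have hz₀ : ι₀ z₀ = j (i₁ c) := by
    have hd0 : j (i₁ (algebraMap A _ d)) ≠ 0 :=
      hn0 _ fun h => nonZeroDivisors.ne_zero hd (hainj (h.trans (map_zero _).symm))
    have h1 : c * algebraMap A _ d = algebraMap A (integralClosure A (FractionRing A)) a := Subtype.ext hab
    rw [map_div₀, hι₀, hι₀, div_eq_iff (by show j (i₂ _) ≠ 0; rw [hi]; exact hd0)]
    show j (i₂ _) = _ * j (i₂ _)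
    rw [hi, hi, ← map_mul j, ← map_mul i₁, h1]
  let ev : B[X] →+* FractionRing (B ⧸ P) := eval₂RingHom κ z₀
  have hev : ∀ p : B[X], ι₀ (ev p) = j (eval₂ i₂ (i₁ c) p) := fun p => by
    rw [Polynomial.hom_eval₂, show ev p = eval₂ κ z₀ p from rfl, Polynomial.hom_eval₂, hz₀]
    exact congrArg₂ (fun f w => eval₂ f w p) (RingHom.ext hι₀) rfl
  let ρ : Ω := τ (residue _ c)
  have hρsep : IsSeparable (ResidueField B) ρ := by
    have h0 : eval₂ (ι.comp (algebraMap (ResidueField A) (ResidueField B))) ρ
        (minpoly (ResidueField A) (residue _ c)) = 0 := by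
      rw [hc, ← Polynomial.hom_eval₂, ← aeval_def, minpoly.aeval, map_zero]
    rw [← eval₂_map] at h0
    exact Polynomial.Separable.of_dvd (Separable.map hy) (minpoly.dvd (ResidueField B) ρ h0)
  let l := IntermediateField.adjoin (ResidueField B) ({ρ} : Set Ω)
  let σB : B[X] →+* Ω := eval₂RingHom (ι.comp (residue B)) ρ
  have hσB : ∀ p, σB p = σ (eval₂ i₂ (i₁ c) p) := fun p => by
    refine Eq.trans ?_ (Polynomial.hom_eval₂ p i₂ σ (i₁ c)).symm
    exact congrArg₂ (fun f w => eval₂ f w p) (RingHom.ext fun b => (hσ2 b).symm) hσ1.symm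
  have hσl : ∀ p, σB p ∈ l := fun p => by
    show eval₂ (ι.comp (residue B)) ρ p ∈ l
    rw [← eval₂_map]
    exact IntermediateField.algebra_adjoin_le_adjoin _ _ (aeval_mem_adjoin_singleton (ResidueField B) ρ)
  have hkill : ∀ p ∈ RingHom.ker ev, σB.codRestrict l.toSubfield hσl p = 0 := fun p hp => by
    refine Subtype.ext ?_
    show σB p = 0
    rw [hσB]
    refine hP₀σ (Ideal.Quotient.eq_zero_iff_mem.1 (IsFractionRing.injective (R ⧸ P₀) (FractionRing (R ⧸ P₀)) ?_))
    rw [map_zero]
    show j (eval₂ i₂ (i₁ c) p) = 0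
    rw [← hev, RingHom.mem_ker.1 hp, map_zero]
  haveI : (RingHom.ker ev).IsPrime := RingHom.ker_isPrime ev
  obtain ⟨H, hH, -, hHm⟩ := Polynomial.lifts_and_natDegree_eq_and_monic
    (show minpoly (ResidueField B) ρ ∈ Polynomial.lifts (residue B) from
      (Polynomial.lifts_iff_coeff_lifts _).2 fun i => residue_surjective _)
    (minpoly.monic hρsep.isIntegral)
  have hirr : Irreducible (H.map κ) :=
    irreducible_map_of_resPurelyInsep hres κ (frac_comp_fractionRing P)
      (by rw [ker_comp_fractionRing]; exact hPmin) H hHm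
      (hH ▸ minpoly.irreducible hρsep.isIntegral) (hH ▸ hρsep)
  let ψ : B →+* B[X] ⧸ RingHom.ker ev := (Ideal.Quotient.mk _).comp Polynomial.C
  have hψ : ∀ w, ψ.IsIntegralElem w := by
    letI : Algebra B (B[X] ⧸ RingHom.ker ev) := ψ.toAlgebra
    obtain ⟨p, hp, hp0⟩ := c.2
    have hX : IsIntegral B (Ideal.Quotient.mk (RingHom.ker ev) X) := by
      refine ⟨p.map (algebraMap A B), hp.map _, ?_⟩
      show eval₂ ((Ideal.Quotient.mk (RingHom.ker ev)).comp Polynomial.C) (Ideal.Quotient.mk (RingHom.ker ev) X) _ = 0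
      rw [← Polynomial.hom_eval₂, eval₂_C_X, Ideal.Quotient.eq_zero_iff_mem, RingHom.mem_ker]
      refine ι₀.injective ?_
      rw [hev, map_zero, eval₂_map, show i₂.comp (algebraMap A B) = i₁.comp (algebraMap A _) from RingHom.ext hi,
        ← Polynomial.hom_eval₂,
        show eval₂ (algebraMap A (integralClosure A (FractionRing A))) c p = 0 from
          Subtype.ext ((Polynomial.hom_eval₂ p _ (integralClosure A (FractionRing A)).val.toRingHom c).trans hp0),
        map_zero, map_zero]
    intro w
    obtain ⟨G, rfl⟩ := Ideal.Quotient.mk_surjective w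
    have hG : Ideal.Quotient.mk (RingHom.ker ev) G = aeval (Ideal.Quotient.mk (RingHom.ker ev) X) G := by
      rw [aeval_def]
      show _ = eval₂ ((Ideal.Quotient.mk (RingHom.ker ev)).comp Polynomial.C) _ G
      rw [← Polynomial.hom_eval₂, eval₂_C_X]
    rw [hG]
    exact Algebra.adjoin_le (S := integralClosure B _) (Set.singleton_subset_iff.2 hX)
      (aeval_mem_adjoin_singleton B _)
  have hdeg : H.natDegree = 1 := by
    refine natDegree_eq_one_of_branch (A := B) (B := B[X] ⧸ RingHom.ker ev) hHm κ hirr ψ hψ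
      (RingHom.kerLift ev) (RingHom.ext fun b => ?_)
      (Ideal.Quotient.lift _ (σB.codRestrict l.toSubfield hσl) hkill) (fun w => ?_)
      (⟨ρ, IntermediateField.subset_adjoin _ _ rfl⟩ : l) ?_ ?_
    · exact eval₂_C κ z₀
    · have hw : (w : Ω) ∈ l.toSubalgebra := w.2
      rw [IntermediateField.adjoin_simple_toSubalgebra_of_isAlgebraic hρsep.isIntegral.isAlgebraic,
        Algebra.adjoin_singleton_eq_range_aeval] at hw
      obtain ⟨G, hG⟩ := hw
      obtain ⟨G, rfl⟩ := Polynomial.map_surjective _ residue_surjective G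
      refine ⟨Ideal.Quotient.mk _ G, Subtype.ext ?_⟩
      exact (eval₂_map (residue B) ι ρ).symm.trans hG
    · refine Subtype.ext ((Polynomial.hom_eval₂ H _ (algebraMap l Ω) _).trans ?_)
      have h0 : eval₂ (ι.comp (residue B)) ρ H = 0 := by
        rw [← eval₂_map, hH]
        exact minpoly.aeval (ResidueField B) ρ
      refine Eq.trans ?_ h0
      refine congrArg₂ (fun f w => eval₂ f w H) (RingHom.ext fun b => ?_) rfl
      exact eval₂_C (ι.comp (residue B)) ρ
    · intro h
      have h0 := (Polynomial.hom_eval₂ H.derivative _ (algebraMap l Ω) _).symm.trans (congrArg (algebraMap l Ω) h)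
      rw [map_zero] at h0
      refine hρsep.aeval_derivative_ne_zero (minpoly.aeval _ ρ) ?_
      rw [← hH, derivative_map, aeval_def, eval₂_map]
      refine Eq.trans ?_ h0
      refine congrArg₂ (fun f w => eval₂ f w _) (RingHom.ext fun b => ?_) rfl
      exact (eval₂_C (ι.comp (residue B)) ρ).symm
  have h1 : (minpoly (ResidueField B) ρ).natDegree = 1 := by rw [← hH, hHm.natDegree_map, hdeg]
  exact minpoly.natDegree_eq_one_iff.1 h1

/-- The fibre product over a flat algebra. -/
theorem exists_tensor {A N B Ω : Type u} [CommRing A] [CommRing N] [IsDomain N] [Algebra A N]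
    [CommRing B] [Algebra A B] [Module.Flat A B] [CommRing Ω] (g₁ : N →+* Ω) (g₂ : B →+* Ω)
    (hg : g₁.comp (algebraMap A N) = g₂.comp (algebraMap A B)) :
    ∃ (R : Type u) (_ : CommRing R) (i₁ : N →+* R) (i₂ : B →+* R) (σ : R →+* Ω),
      (∀ a, i₂ (algebraMap A B a) = i₁ (algebraMap A N a)) ∧ (∀ n, n ≠ 0 → i₁ n ∈ R⁰) ∧
      (∀ n, σ (i₁ n) = g₁ n) ∧ ∀ b, σ (i₂ b) = g₂ b := by
  letI : Algebra A Ω := (g₂.comp (algebraMap A B)).toAlgebra
  let f₁ : N →ₐ[A] Ω := { g₁ with commutes' := RingHom.congr_fun hg }
  let f₂ : B →ₐ[A] Ω := { g₂ with commutes' := fun _ => rfl }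
  refine ⟨N ⊗[A] B, inferInstance, algebraMap N (N ⊗[A] B),
    (Algebra.TensorProduct.includeRight : B →ₐ[A] N ⊗[A] B).toRingHom,
    (Algebra.TensorProduct.productMap f₁ f₂).toRingHom,
    fun a => (Algebra.TensorProduct.includeRight : B →ₐ[A] N ⊗[A] B).commutes a,
    fun n hn => mem_nonZeroDivisors_iff_right.2 fun z hz =>
      (Module.Flat.isSMulRegular_of_isRegular (M := N ⊗[A] B)
        (isRegular_of_ne_zero hn)).right_eq_zero_of_smul (by rw [Algebra.smul_def, mul_comm]; exact hz),
    fun n => ?_, fun b => ?_⟩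
  · show Algebra.TensorProduct.productMap f₁ f₂ (n ⊗ₜ[A] 1) = _
    rw [Algebra.TensorProduct.productMap_apply_tmul, map_one, mul_one]
    rfl
  · show Algebra.TensorProduct.productMap f₁ f₂ (1 ⊗ₜ[A] b) = _
    rw [Algebra.TensorProduct.productMap_apply_tmul, map_one, one_mul]
    rfl

/-- Conversely. -/
theorem sepSplits_of_resPurelyInsep {A B : Type u} [CommRing A] [HenselianLocalRing A] [IsDomain A]
    [CommRing B] [HenselianLocalRing B] [Algebra A B] [IsLocalHom (algebraMap A B)]
    [Module.Flat A B] [Algebra.IsIntegral A B] [IsReduced B] [IsNoetherianRing B]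
    [IsLocalRing (integralClosure A (FractionRing A))]
    [IsLocalHom (algebraMap A (integralClosure A (FractionRing A)))]
    (hres : ResPurelyInsep B) :
    SepSplits (ResidueField A) (ResidueField (integralClosure A (FractionRing A))) (ResidueField B) := by
  classical
  intro Ω _ _ ι τ hc y hy
  obtain ⟨c, hcy⟩ := residue_surjective y
  subst hcy
  have hex := exists_tensor (A := A) (τ.comp (residue (integralClosure A (FractionRing A))))
    (ι.comp (residue B)) (RingHom.ext fun a => (RingHom.congr_fun hc (residue A a)).symm)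
  obtain ⟨R, hR, i₁, i₂, σ, hi, hreg, hσ1, hσ2⟩ := hex
  exact exists_point_aux hres ι τ hc c hy i₁ i₂ hi hreg σ (hσ1 c) hσ2

end

end Groth.Agent.SHInter
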