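import Groth.Agent.SHInter.Branch
import Groth.Agent.S2139
import Groth.Agent.HensBranch.Core

/-!
Residue fields of normalizations and primes of a strict henselization.
-/

set_option autoImplicit false

universe u

open IsLocalRing Polynomial
open scoped nonZeroDivisors

namespace Groth.Agent.SHInter

noncomputable section

variable {A S : Type u} [CommRing A] [HenselianLocalRing A] [CommRing S] [IsLocalRing S]
  [Algebra A S] [IsLocalHom (algebraMap A S)] [Hensel.IsStrictHenselization A S]

theorem residue_aeval (g : A[X]) (y : S) :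
    residue S (aeval y g) = aeval (residue S y) (g.map (residue A)) := by
  rw [aeval_def, Polynomial.hom_eval₂, aeval_def, eval₂_map]
  rfl

/-- The monogenic algebra of a root is a faithfully flat base of the strict henselization: an
element of small degree vanishing modulo an ideal of the base has coefficients in it. -/
theorem map_eq_zero_of_aeval_mem {f : A[X]} (hf : f.Monic) (hirr : Irreducible (f.map (residue A)))
    (hsep : (f.map (residue A)).Separable) {x₀ : S} (hx : aeval x₀ f = 0) (I : Ideal A) {g : A[X]}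
    (hdeg : g.natDegree < f.natDegree) (hg : aeval x₀ g ∈ I.map (algebraMap A S)) :
    g.map (Ideal.Quotient.mk I) = 0 := by
  let C := AdjoinRoot f
  haveI : Module.Finite A C := hf.finite_adjoinRoot
  haveI : Algebra.IsIntegral A C := Algebra.IsIntegral.of_finite A C
  let π : C →ₐ[A] S := AdjoinRoot.liftAlgHom f (Algebra.ofId A S) x₀ hx
  have hπ : ∀ p, π (AdjoinRoot.mk f p) = aeval x₀ p := fun p =>
    AdjoinRoot.liftAlgHom_mk f (Algebra.ofId A S) x₀ hx p
  let ρ : C →+* ResidueField S := (residue S).comp π.toRingHom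
  have hθ : aeval (residue S x₀) (f.map (residue A)) = 0 := by rw [← residue_aeval, hx, map_zero]
  have hmin : f.map (residue A) = minpoly (ResidueField A) (residue S x₀) :=
    minpoly.eq_of_irreducible_of_monic hirr hθ (hf.map _)
  have hker : RingHom.ker ρ = (maximalIdeal A).map (algebraMap A C) := by
    refine le_antisymm (fun z hz => ?_) (Ideal.map_le_iff_le_comap.2 fun a ha => ?_)
    · obtain ⟨p, rfl⟩ := AdjoinRoot.mk_surjective z
      have h0 : residue S (aeval x₀ p) = 0 := by rw [← hπ]; exact hz
      rw [residue_aeval] at h0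
      obtain ⟨c, hc⟩ := minpoly.dvd (ResidueField A) (residue S x₀) h0
      obtain ⟨c, rfl⟩ := Polynomial.map_surjective _ residue_surjective c
      rw [← hmin, ← Polynomial.map_mul, ← sub_eq_zero, ← Polynomial.map_sub] at hc
      have hmem : p - f * c ∈ (maximalIdeal A).map Polynomial.C := by
        rw [Ideal.mem_map_C_iff]
        intro i
        rw [← residue_eq_zero_iff, ← Polynomial.coeff_map, hc, Polynomial.coeff_zero]
      have h2 := Ideal.mem_map_of_mem (AdjoinRoot.mk f) hmem
      rw [Ideal.map_map, map_sub, map_mul, AdjoinRoot.mk_self, zero_mul, sub_zero] at h2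
      exact h2
    · show residue S (π (algebraMap A C a)) = 0
      rw [π.commutes, residue_eq_zero_iff, mem_maximalIdeal, mem_nonunits_iff]
      exact fun h => (mem_maximalIdeal a).1 ha (isUnit_of_map_unit _ a h)
  haveI : (RingHom.ker ρ).IsPrime := RingHom.ker_isPrime ρ
  have hmax : (RingHom.ker ρ).IsMaximal := by
    refine Ideal.isMaximal_of_isIntegral_of_isMaximal_comap (R := A) _ ?_
    rw [show (RingHom.ker ρ).comap (algebraMap A C) = maximalIdeal A from ?_]
    · exact maximalIdeal.isMaximal A
    refine le_antisymm (le_maximalIdeal (Ideal.IsPrime.ne_top inferInstance)) ?_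
    rw [← Ideal.map_le_iff_le_comap, hker]
  haveI : IsLocalRing C := IsLocalRing.of_unique_max_ideal ⟨RingHom.ker ρ, hmax, fun M hM => by
    refine (hmax.eq_of_le hM.ne_top ?_).symm
    rw [hker, Ideal.map_le_iff_le_comap]
    haveI := hM
    exact (eq_maximalIdeal (Ideal.isMaximal_comap_of_isIntegral_of_isMaximal (R := A) M)).ge⟩
  have hCmax : maximalIdeal C = RingHom.ker ρ := (eq_maximalIdeal hmax).symm
  haveI := SHTensor.isLocalHom_of_isIntegral A C
  letI : Algebra C S := π.toRingHom.toAlgebra
  haveI : IsScalarTower A C S := IsScalarTower.of_algebraMap_eq fun a => (π.commutes a).symm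
  haveI : IsLocalHom (algebraMap C S) := ⟨fun z hz => by
    by_contra hn
    exact (residue_ne_zero_iff_isUnit _).2 hz (hCmax.le ((mem_maximalIdeal z).2 hn))⟩
  haveI := isSeparable_residue_sh (A := A) (S := S)
  haveI : IsScalarTower (ResidueField A) (ResidueField C) (ResidueField S) :=
    IsScalarTower.of_algebraMap_eq fun x => by
      obtain ⟨r, rfl⟩ := residue_surjective x
      show residue S (algebraMap A S r) = residue S (algebraMap C S (algebraMap A C r))
      rw [← IsScalarTower.algebraMap_apply]
  haveI : Algebra.IsSeparable (ResidueField A) (ResidueField C) :=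
    Algebra.isSeparable_tower_bot_of_isSeparable _ _ (ResidueField S)
  haveI : Algebra.EssFiniteType A C := inferInstance
  haveI : Algebra.FormallyUnramified A C :=
    Algebra.FormallyUnramified.of_map_maximalIdeal (by rw [hCmax, hker])
  haveI : Module.Flat A S := flat_sh
  haveI : Module.Flat C S := Algebra.FormallyUnramified.flat_of_restrictScalars A C S
  haveI : Module.FaithfullyFlat C S := Module.FaithfullyFlat.of_flat_of_isLocalHom
  have h1 : AdjoinRoot.mk f g ∈ ((I.map (algebraMap A C)).map (algebraMap C S)).comap (algebraMap C S) := by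
    rw [Ideal.mem_comap, Ideal.map_map, ← IsScalarTower.algebraMap_eq]
    show π (AdjoinRoot.mk f g) ∈ _
    rwa [hπ]
  rw [Ideal.comap_map_eq_self_of_faithfullyFlat,
    show algebraMap A C = (AdjoinRoot.mk f).comp Polynomial.C from rfl, ← Ideal.map_map] at h1
  obtain ⟨h, hh, hhg⟩ := (Ideal.mem_map_iff_of_surjective _ AdjoinRoot.mk_surjective).1 h1
  have hd : f ∣ h - g := by
    rw [← AdjoinRoot.mk_eq_zero, map_sub, sub_eq_zero]
    exact hhg
  obtain ⟨u, hu⟩ := hd
  have hh0 : h.map (Ideal.Quotient.mk I) = 0 := Polynomial.ext fun i => by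
    rw [coeff_map, coeff_zero]
    exact Ideal.Quotient.eq_zero_iff_mem.2 (Ideal.mem_map_C_iff.1 hh i)
  have h2 := congrArg (Polynomial.map (Ideal.Quotient.mk I)) hu
  rw [Polynomial.map_sub, Polynomial.map_mul, hh0, zero_sub] at h2
  by_contra hne
  haveI : Nontrivial (A ⧸ I) := by
    rw [Ideal.Quotient.nontrivial_iff]
    rintro rfl
    exact hne (Polynomial.ext fun i => by
      rw [coeff_map, coeff_zero]; exact Ideal.Quotient.eq_zero_iff_mem.2 trivial)
  have hdvd : f.map (Ideal.Quotient.mk I) ∣ g.map (Ideal.Quotient.mk I) :=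
    dvd_neg.1 ⟨_, h2⟩
  refine hne ?_
  have hlt : (g.map (Ideal.Quotient.mk I)).degree < (f.map (Ideal.Quotient.mk I)).degree := by
    refine degree_lt_degree ?_
    rw [hf.natDegree_map]
    exact natDegree_map_le.trans_lt hdeg
  rw [← (modByMonic_eq_self_iff (hf.map (Ideal.Quotient.mk I))).2 hlt,
    modByMonic_eq_zero_iff_dvd (hf.map _)]
  exact hdvd

/-- If all liftings of separable irreducible polynomials stay irreducible modulo a prime, the prime
stays prime in the strict henselization. -/
theorem isPrime_map {K : Type u} [Field K] (κ : A →+* K)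
    (hirr : ∀ f : A[X], f.Monic → Irreducible (f.map (residue A)) →
      (f.map (residue A)).Separable → Irreducible (f.map κ)) :
    ((RingHom.ker κ).map (algebraMap A S)).IsPrime := by
  classical
  let q := RingHom.ker κ
  have hne : q.map (algebraMap A S) ≠ ⊤ := by
    refine ne_top_of_le_ne_top (maximalIdeal.isMaximal S).ne_top ?_
    exact le_trans (Ideal.map_mono (le_maximalIdeal (RingHom.ker_ne_top κ)))
      (((local_hom_TFAE (algebraMap A S)).out 0 2 rfl rfl).mp inferInstance)
  refine ⟨hne, fun {x y} hxy => ?_⟩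
  obtain ⟨f, x₀, hf, hsep, hir, hfx, hs, -⟩ := exists_monogenic_stage A S {x, y}
  have hrep : ∀ z : S, z ∈ Algebra.adjoin A ({x₀} : Set S) → ∃ g : A[X],
      g %ₘ f = g ∧ aeval x₀ g = z := fun z hz => by
    rw [Algebra.adjoin_singleton_eq_range_aeval] at hz
    obtain ⟨g, rfl⟩ := hz
    refine ⟨g %ₘ f, (modByMonic_eq_self_iff hf).2 (degree_modByMonic_lt _ hf), ?_⟩
    exact aeval_modByMonic_eq_self_of_root hfx
  obtain ⟨g, hg, rfl⟩ := hrep x (hs (by simp))
  obtain ⟨h, hh, rfl⟩ := hrep y (hs (by simp))
  rw [← map_mul] at hxy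
  have hlt : ∀ p : A[X], (p %ₘ f).natDegree < f.natDegree := fun p => natDegree_modByMonic_lt _ hf (by
    rintro rfl
    exact hir.not_isUnit (by rw [Polynomial.map_one]; exact isUnit_one))
  have h0 : ((g * h) %ₘ f).map (Ideal.Quotient.mk q) = 0 :=
    map_eq_zero_of_aeval_mem hf hir hsep hfx q (hlt _) (by
      rwa [aeval_modByMonic_eq_self_of_root hfx])
  have hzero : ∀ p : A[X], p.map (Ideal.Quotient.mk q) = 0 ↔ p.map κ = 0 := fun p => by
    simp only [Polynomial.ext_iff, coeff_map, coeff_zero, Ideal.Quotient.eq_zero_iff_mem]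
    rfl
  rw [hzero, map_modByMonic _ hf, modByMonic_eq_zero_iff_dvd (hf.map κ), Polynomial.map_mul] at h0
  have key : ∀ p : A[X], p %ₘ f = p → f.map κ ∣ p.map κ → aeval x₀ p ∈ q.map (algebraMap A S) := by
    intro p hp hd
    have h1 : p.map κ = 0 := by
      rw [← hp, map_modByMonic _ hf, modByMonic_eq_zero_iff_dvd (hf.map κ)]
      exact hd
    rw [aeval_eq_sum_range]
    refine Submodule.sum_mem _ fun i _ => ?_
    rw [Algebra.smul_def]
    refine Ideal.mul_mem_right _ _ (Ideal.mem_map_of_mem _ ?_)
    show κ (p.coeff i) = 0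
    rw [← coeff_map, h1, coeff_zero]
  exact ((hirr f hf hir hsep).prime.dvd_or_dvd h0).imp (key g hg) (key h hh)

/-- Conversely, if a prime stays prime in the strict henselization, liftings of separable irreducible
polynomials stay irreducible modulo it. -/
theorem irreducible_map_of_isPrime {K : Type u} [Field K] (κ : A →+* K)
    (hfrac : ∀ z : K, ∃ a b : A, κ b ≠ 0 ∧ z * κ b = κ a)
    (hq : ((RingHom.ker κ).map (algebraMap A S)).IsPrime) (f : A[X]) (hf : f.Monic)
    (hir : Irreducible (f.map (residue A))) (hsep : (f.map (residue A)).Separable) :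
    Irreducible (f.map κ) := by
  classical
  haveI := (inferInstance : Hensel.IsStrictHenselization A S).henselian
  haveI : IsSepClosed (ResidueField S) :=
    (Hensel.IsStrictHenselization.isSepClosure (R := A) (S := S)).sep_closed
  let fk := (f.map (residue A)).map (algebraMap (ResidueField A) (ResidueField S))
  have hdpos : 0 < f.natDegree := by
    have := hir.natDegree_pos
    rwa [hf.natDegree_map] at this
  obtain ⟨θ, hθ⟩ := IsSepClosed.exists_root fk
    (by
      rw [degree_map, degree_eq_natDegree (hf.map _).ne_zero, hf.natDegree_map]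
      exact_mod_cast hdpos.ne') hsep.map
  obtain ⟨y₀, rfl⟩ := residue_surjective θ
  have hθ' : aeval (residue S y₀) (f.map (residue A)) = 0 := by rw [aeval_def, ← eval_map]; exact hθ
  obtain ⟨x₀, hx₀, -⟩ := HenselianLocalRing.is_henselian (f.map (algebraMap A S)) (hf.map _) y₀
    (by rw [eval_map, ← aeval_def, ← residue_eq_zero_iff, residue_aeval, hθ'])
    (by
      rw [derivative_map, eval_map, ← aeval_def, ← residue_ne_zero_iff_isUnit, residue_aeval,
        ← derivative_map]
      exact hsep.aeval_derivative_ne_zero hθ')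
  have hfx : aeval x₀ f = 0 := by rw [aeval_def, ← eval_map]; exact hx₀
  by_contra hred
  have hfne : f.map κ ≠ 1 := fun h => by
    have := congrArg natDegree h
    rw [hf.natDegree_map, natDegree_one] at this
    omega
  rw [(hf.map κ).irreducible_iff_natDegree'] at hred
  replace hred := fun h => hred ⟨hfne, h⟩
  simp only [imp_false, not_forall, not_not] at hred
  obtain ⟨g, h, hgm, hhm, hgh, hd⟩ := hred
  rw [Finset.mem_Ioc] at hd
  have hsum : g.natDegree + h.natDegree = f.natDegree := by
    rw [← hgm.natDegree_mul hhm, hgh, hf.natDegree_map]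
  have hclear : ∀ p : K[X], p.Monic → ∃ (P : A[X]) (c : A),
      κ c ≠ 0 ∧ P.map κ = C (κ c) * p ∧ P.natDegree ≤ p.natDegree := by
    intro p hp
    choose num den hden hnd using hfrac
    let s := Finset.range (p.natDegree + 1)
    let c := ∏ i ∈ s, den (p.coeff i)
    refine ⟨∑ i ∈ s, monomial i (num (p.coeff i) * ∏ j ∈ s.erase i, den (p.coeff j)), c, ?_, ?_, ?_⟩
    · rw [map_prod]
      exact Finset.prod_ne_zero_iff.2 fun i _ => hden _
    · rw [Polynomial.map_sum]
      conv_rhs => rw [p.as_sum_range, Finset.mul_sum]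
      refine Finset.sum_congr rfl fun i hi => ?_
      rw [map_monomial, C_mul_monomial, map_mul, ← hnd]
      congr 1
      rw [mul_assoc, ← map_mul, Finset.mul_prod_erase s (fun j => den (p.coeff j)) hi, mul_comm]
    · refine natDegree_sum_le_of_forall_le _ _ fun i hi => (natDegree_monomial_le _).trans ?_
      exact Finset.mem_range_succ_iff.1 hi
  obtain ⟨G, c, hc, hG, hGd⟩ := hclear g hgm
  obtain ⟨H, d, hd', hH, hHd⟩ := hclear h hhm
  have hmem : aeval x₀ G * aeval x₀ H ∈ (RingHom.ker κ).map (algebraMap A S) := by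
    rw [← map_mul]
    have h1 : (G * H - C (c * d) * f).map κ = 0 := by
      rw [Polynomial.map_sub, Polynomial.map_mul, Polynomial.map_mul, hG, hH, map_C, map_mul, ← hgh,
        C_mul]
      ring
    have h2 : aeval x₀ (G * H) = aeval x₀ (G * H - C (c * d) * f) := by
      rw [map_sub, map_mul (aeval x₀) (C (c * d)) f, hfx, mul_zero, sub_zero]
    rw [h2, aeval_eq_sum_range]
    refine Submodule.sum_mem _ fun i _ => ?_
    rw [Algebra.smul_def]
    refine Ideal.mul_mem_right _ _ (Ideal.mem_map_of_mem _ ?_)
    show κ _ = 0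
    rw [← coeff_map, h1, coeff_zero]
  have hno : ∀ (P : A[X]) (p : K[X]) (e : A), p.Monic → P.natDegree < f.natDegree → κ e ≠ 0 →
      P.map κ = C (κ e) * p → aeval x₀ P ∈ (RingHom.ker κ).map (algebraMap A S) → False := by
    intro P p e hpm hPd he hP hPm
    have h0 := map_eq_zero_of_aeval_mem hf hir hsep hfx _ hPd hPm
    have h1 : P.map κ = 0 := Polynomial.ext fun i => by
      have := Polynomial.ext_iff.1 h0 i
      rw [coeff_map, coeff_zero, Ideal.Quotient.eq_zero_iff_mem] at this
      rw [coeff_map, coeff_zero]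
      exact this
    exact mul_ne_zero (mt C_eq_zero.1 he) hpm.ne_zero (hP.symm.trans h1)
  rw [hf.natDegree_map] at hd
  exact (hq.mem_or_mem hmem).elim (hno G g c hgm (by omega) hc hG) (hno H h d hhm (by omega) hd' hH)

end

section residue

variable {A : Type u} [CommRing A] [IsLocalRing A]

/-- The residue condition on the normalization. -/
def ResPurelyInsep (A : Type u) [CommRing A] : Prop :=
  ∀ (M : Ideal (integralClosure A (FractionRing A))) [M.IsMaximal],
    separableClosure (Subfield.closure (Set.range ((algebraMap (integralClosure A (FractionRing A))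
      M.ResidueField).comp (algebraMap A (integralClosure A (FractionRing A))))))
      M.ResidueField = ⊥

theorem comap_eq_maximalIdeal (M : Ideal (integralClosure A (FractionRing A))) [M.IsMaximal] :
    M.comap (algebraMap A (integralClosure A (FractionRing A))) = maximalIdeal A :=
  eq_maximalIdeal (Ideal.isMaximal_comap_of_isIntegral_of_isMaximal (R := A) M)

/-- The residue field of the base, mapped to a residue field of the normalization. -/
noncomputable def resMap (M : Ideal (integralClosure A (FractionRing A))) [M.IsMaximal] :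
    ResidueField A →+* M.ResidueField :=
  Ideal.Quotient.lift _ ((algebraMap (integralClosure A (FractionRing A)) M.ResidueField).comp
    (algebraMap A (integralClosure A (FractionRing A)))) fun a ha => by
      rw [RingHom.comp_apply, Ideal.algebraMap_residueField_eq_zero]
      exact (comap_eq_maximalIdeal M).ge ha

theorem closure_range_eq (M : Ideal (integralClosure A (FractionRing A))) [M.IsMaximal] :
    Subfield.closure (Set.range ((algebraMap (integralClosure A (FractionRing A))
      M.ResidueField).comp (algebraMap A (integralClosure A (FractionRing A))))) =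
      (resMap M).fieldRange := by
  refine le_antisymm (Subfield.closure_le.2 ?_) ?_
  · rintro _ ⟨a, rfl⟩
    exact ⟨residue A a, rfl⟩
  · rintro _ ⟨x, rfl⟩
    obtain ⟨a, rfl⟩ := residue_surjective x
    exact Subfield.subset_closure ⟨a, rfl⟩

variable [IsReduced A] [IsNoetherianRing A]

/-- Purely inseparable residue fields of the normalization keep separable irreducible reductions
irreducible at the minimal primes. -/
theorem irreducible_map_of_resPurelyInsep (hres : ResPurelyInsep A) {K : Type u} [Field K]
    (κ : A →+* K) (hfrac : ∀ z : K, ∃ a b : A, κ b ≠ 0 ∧ z * κ b = κ a)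
    (hmin : RingHom.ker κ ∈ minimalPrimes A) (f : A[X]) (hf : f.Monic)
    (hir : Irreducible (f.map (residue A))) (hsep : (f.map (residue A)).Separable) :
    Irreducible (f.map κ) := by
  classical
  haveI : IsArtinianRing (FractionRing A) :=
    Groth.Agent.S2139.isNoetherian_frac (Ideal.finite_minimalPrimes_of_isNoetherianRing A ⊥)
  let T := FractionRing A
  let N := integralClosure A T
  have hu : ∀ a : A⁰, IsUnit (κ a) := fun a => isUnit_iff_ne_zero.2 fun h =>
    Set.disjoint_left.1 (Ideal.disjoint_nonZeroDivisors_of_mem_minimalPrimes hmin) h a.2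
  let π : T →+* K := IsLocalization.lift hu
  have hπ : ∀ a, π (algebraMap A T a) = κ a := fun a => IsLocalization.lift_eq hu a
  have hπs : Function.Surjective π := by
    intro z
    obtain ⟨a, b, hb, hz⟩ := hfrac z
    haveI : IsReduced T := isReduced_localizationPreserves A⁰ T inferInstance
    obtain ⟨n, w, hw⟩ := IsArtinian.exists_pow_succ_smul_dvd (algebraMap A T b) (1 : T)
    refine ⟨algebraMap A T a * w, mul_right_cancel₀ hb ?_⟩
    have h1 := congrArg π hw
    simp only [smul_eq_mul, mul_one, map_mul, map_pow, hπ, pow_succ] at h1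
    have h2 : κ b * π w = 1 := mul_left_cancel₀ (pow_ne_zero n hb) (by rw [← mul_assoc, h1, mul_one])
    rw [hz, map_mul, hπ, mul_assoc, mul_comm (π w), h2, mul_one]
  obtain ⟨e₀, he₀, hke⟩ : ∃ e : T, IsIdempotentElem e ∧ RingHom.ker π = Ideal.span {e} := by
    refine (Ideal.isIdempotentElem_iff_of_fg _ (IsNoetherian.noetherian _)).1 ?_
    refine le_antisymm Ideal.mul_le_right fun x hx => ?_
    haveI : IsReduced T := isReduced_localizationPreserves A⁰ T inferInstance
    obtain ⟨n, w, hw⟩ := IsArtinian.exists_pow_succ_smul_dvd x (1 : T)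
    have h1 : x = x * (x * w) := by
      rw [← sub_eq_zero]
      refine IsNilpotent.eq_zero ⟨n + 1, ?_⟩
      have h0 : x ^ n * (1 - x * w) = 0 := by
        rw [mul_sub, mul_one, ← mul_assoc, ← pow_succ]
        simpa [smul_eq_mul, sub_eq_zero] using hw.symm
      rw [← mul_one_sub, mul_pow, pow_succ, pow_succ,
        show x ^ n * x * ((1 - x * w) ^ n * (1 - x * w)) =
          (x ^ n * (1 - x * w)) * (x * (1 - x * w) ^ n) by ring, h0, zero_mul]
    rw [h1]
    exact Ideal.mul_mem_mul hx (Ideal.mul_mem_right _ _ hx)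
  let e : T := 1 - e₀
  have he : e * e = e := he₀.one_sub
  have hπe₀ : π e₀ = 0 := hke.ge (Ideal.subset_span rfl)
  have hπe : π e = 1 := by rw [map_sub, hπe₀, map_one, sub_zero]
  have hkill : ∀ y, π y = 0 → e * y = 0 := fun y hy => by
    obtain ⟨c, rfl⟩ := Ideal.mem_span_singleton'.1 (hke.le hy)
    show (1 - e₀) * (c * e₀) = 0
    rw [show (1 - e₀) * (c * e₀) = c * (e₀ - e₀ * e₀) by ring, he₀.eq, sub_self, mul_zero]
  have heN : IsIntegral A e := ⟨X ^ 2 - X, monic_X_pow_sub (by rw [degree_X]; norm_num), by
    rw [eval₂_sub, eval₂_X_pow, eval₂_X, pow_two, he, sub_self]⟩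
  letI : Algebra A K := κ.toAlgebra
  let π' : N →+* K := π.comp N.val.toRingHom
  have hlift : ∀ c : K, IsIntegral A c → c ∈ Set.range π' := by
    intro c hc
    obtain ⟨y, rfl⟩ := hπs c
    obtain ⟨p, hp, hp0⟩ := hc
    have hp1 : e * eval₂ (algebraMap A T) y p = 0 := hkill _ (by
      rw [Polynomial.hom_eval₂, show π.comp (algebraMap A T) = algebraMap A K from RingHom.ext hπ]
      exact hp0)
    have hint : IsIntegral A (e * y) := ⟨X * p, monic_X.mul hp, by
      have he1 : ∀ q : A[X], e * eval₂ (algebraMap A T) (e * y) q = e * eval₂ (algebraMap A T) y q := by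
        intro q
        induction q using Polynomial.induction_on' with
        | add a b ha hb => rw [eval₂_add, eval₂_add, mul_add, mul_add, ha, hb]
        | monomial i a =>
          rw [eval₂_monomial, eval₂_monomial]
          rcases i with _ | i
          · simp
          · rw [mul_pow, show e ^ (i + 1) = e from IsIdempotentElem.pow_succ_eq i he]
            linear_combination algebraMap A T a * y ^ (i + 1) * he
      rw [eval₂_mul, eval₂_X, mul_comm e y, mul_assoc, mul_comm y e, he1, hp1, mul_zero]⟩
    exact ⟨⟨e * y, hint⟩, by show π (e * y) = π y; rw [map_mul, hπe, one_mul]⟩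
  by_contra hred
  have hfne : f.map κ ≠ 1 := fun h => by
    have h1 := congrArg natDegree h
    rw [hf.natDegree_map, natDegree_one] at h1
    have h2 := hir.natDegree_pos
    rw [hf.natDegree_map, h1] at h2
    exact absurd h2 (lt_irrefl 0)
  rw [(hf.map κ).irreducible_iff_natDegree'] at hred
  replace hred := fun h => hred ⟨hfne, h⟩
  simp only [imp_false, not_forall, not_not] at hred
  obtain ⟨g, h, hgm, hhm, hgh, hd⟩ := hred
  rw [Finset.mem_Ioc] at hd
  have hcoef : ∀ p : K[X], p.Monic → p ∣ f.map κ → ∃ P : N[X], P.map π' = p ∧ P.natDegree = p.natDegree ∧ P.Monic := by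
    intro p hp hdvd
    have hmem := integralClosure.mem_lifts_of_monic_of_dvd_map K hf hp hdvd
    have h2 : p ∈ Polynomial.lifts π' := (Polynomial.lifts_iff_coeff_lifts _).2 fun i => by
      obtain ⟨c, hc⟩ := (Polynomial.lifts_iff_coeff_lifts _).1 hmem i
      rw [← hc]
      exact hlift _ c.2
    exact Polynomial.lifts_and_natDegree_eq_and_monic h2 hp
  obtain ⟨G, hG, hGd, hGm⟩ := hcoef g hgm ⟨h, hgh.symm⟩
  obtain ⟨H, hH, hHd, hHm⟩ := hcoef h hhm ⟨g, by rw [mul_comm, hgh]⟩
  let eN : N := ⟨e, heN⟩
  have hne : Ideal.span {(1 : N) - eN} ≠ ⊤ := fun htop => by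
    obtain ⟨c, hc⟩ := Ideal.mem_span_singleton'.1 (htop.ge (trivial : (1 : N) ∈ ⊤))
    have h1 : (c : T) * (1 - e) = 1 := congrArg Subtype.val hc
    have h2 := congrArg π h1
    rw [map_mul, map_sub, hπe, map_one, sub_self, mul_zero] at h2
    exact zero_ne_one h2
  obtain ⟨M, hM, hMle⟩ := Ideal.exists_le_maximal _ hne
  haveI := hM
  let ρ : N →+* M.ResidueField := algebraMap N M.ResidueField
  have hρe : ρ eN = 1 := by
    have h1 : ρ (1 - eN) = 0 :=
      Ideal.algebraMap_residueField_eq_zero.2 (hMle (Ideal.subset_span rfl))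
    rw [map_sub, map_one, sub_eq_zero] at h1
    exact h1.symm
  have hprod : (G * H).map ρ = (f.map (algebraMap A N)).map ρ := by
    refine Polynomial.ext fun i => ?_
    rw [coeff_map, coeff_map, ← one_mul (ρ ((G * H).coeff i)), ← one_mul (ρ ((f.map (algebraMap A N)).coeff i)),
      ← hρe, ← map_mul, ← map_mul]
    refine congrArg ρ (sub_eq_zero.1 ?_)
    rw [← mul_sub]
    refine Subtype.ext (hkill _ ?_)
    change π' ((G * H).coeff i - (f.map (algebraMap A N)).coeff i) = 0
    rw [map_sub, ← coeff_map, ← coeff_map, Polynomial.map_mul, hG, hH, hgh, Polynomial.map_map,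
      show π'.comp (algebraMap A N) = κ from RingHom.ext hπ, sub_self]
  letI : Algebra (ResidueField A) M.ResidueField := (resMap M).toAlgebra
  have hfk : (f.map (algebraMap A N)).map ρ =
      (f.map (residue A)).map (algebraMap (ResidueField A) M.ResidueField) := by
    rw [Polynomial.map_map, Polynomial.map_map]
    rfl
  rw [hfk, Polynomial.map_mul] at hprod
  have hrange : ∀ i, (G.map ρ).coeff i ∈ Set.range (algebraMap (ResidueField A) M.ResidueField) := by
    intro i
    let C' := AlgebraicClosure M.ResidueField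
    let j := algebraMap M.ResidueField C'
    have hsplit : ((G.map ρ).map j).Splits := IsAlgClosed.splits _
    have hmem : (G.map ρ).map j ∈ Polynomial.lifts (separableClosure (ResidueField A) C').val.toRingHom := by
      rw [hsplit.eq_prod_roots_of_monic ((hGm.map _).map _)]
      refine Subsemiring.multiset_prod_mem _ _ fun l hl => ?_
      obtain ⟨r, hr, rfl⟩ := Multiset.mem_map.1 hl
      have hroot : aeval r (f.map (residue A)) = 0 := by
        have h1 : ((G.map ρ).map j * (H.map ρ).map j).eval r = 0 := by
          rw [eval_mul, (mem_roots'.1 hr).2, zero_mul]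
        rwa [← Polynomial.map_mul, hprod, Polynomial.map_map, ← IsScalarTower.algebraMap_eq,
          eval_map, ← aeval_def] at h1
      have hrs : r ∈ separableClosure (ResidueField A) C' :=
        mem_separableClosure_iff.2 (hsep.of_dvd (minpoly.dvd _ _ hroot))
      exact ⟨X - C ⟨r, hrs⟩, by simp⟩
    obtain ⟨c, hc⟩ := (Polynomial.lifts_iff_coeff_lifts _).1 hmem i
    have hs : IsSeparable (ResidueField A) ((G.map ρ).coeff i) := by
      have h1 : IsSeparable (ResidueField A) (j ((G.map ρ).coeff i)) := by
        rw [← coeff_map, ← hc]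
        exact mem_separableClosure_iff.1 c.2
      rw [IsSeparable] at h1 ⊢
      rwa [← minpoly.algebraMap_eq j.injective]
    let F₀ := Subfield.closure (Set.range ((algebraMap N M.ResidueField).comp (algebraMap A N)))
    letI : Algebra (ResidueField A) F₀ :=
      ((resMap M).codRestrict F₀ fun x => (closure_range_eq M).ge ⟨x, rfl⟩).toAlgebra
    haveI : IsScalarTower (ResidueField A) F₀ M.ResidueField := IsScalarTower.of_algebraMap_eq fun _ => rfl
    have h2 : (G.map ρ).coeff i ∈ separableClosure F₀ M.ResidueField :=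
      mem_separableClosure_iff.2 (hs.tower_top F₀)
    rw [hres M, IntermediateField.mem_bot] at h2
    obtain ⟨c', hc'⟩ := h2
    obtain ⟨x, hx⟩ := (closure_range_eq M).le c'.2
    exact ⟨x, hx.trans hc'⟩
  obtain ⟨G₀, hG₀, hG₀d, hG₀m⟩ := Polynomial.lifts_and_natDegree_eq_and_monic
    ((Polynomial.lifts_iff_coeff_lifts _).2 hrange) (hGm.map ρ)
  have hdvd : G₀ ∣ f.map (residue A) := by
    rw [← Polynomial.map_dvd_map' (algebraMap (ResidueField A) M.ResidueField), hG₀, ← hprod]
    exact dvd_mul_right _ _
  have hGdeg : G₀.natDegree = g.natDegree := by rw [hG₀d, hGm.natDegree_map, hGd]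
  have hsum : g.natDegree + h.natDegree = f.natDegree := by
    rw [← hgm.natDegree_mul hhm, hgh, hf.natDegree_map]
  rw [hf.natDegree_map] at hd
  obtain ⟨c, hc⟩ := hdvd
  rcases hir.isUnit_or_isUnit hc with hu1 | hu2
  · have := natDegree_eq_zero_of_isUnit hu1
    omega
  · have h1 := congrArg natDegree hc
    rw [natDegree_mul hG₀m.ne_zero hu2.ne_zero, natDegree_eq_zero_of_isUnit hu2,
      hf.natDegree_map] at h1
    omega

/-- A polynomial irreducible on a branch with a simple root in the residue field of the normalized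
branch is linear. -/
theorem natDegree_eq_one_of_branch {A : Type u} [CommRing A] [HenselianLocalRing A]
    {B : Type u} [CommRing B] [IsDomain B] {K : Type u} [Field K] {f : A[X]} (hfm : f.Monic)
    (κ : A →+* K) (hirr : Irreducible (f.map κ)) (φ : A →+* B) (hint : ∀ x, φ.IsIntegralElem x)
    (ι : B →+* K) (hι : ι.comp φ = κ) {k' : Type u} [Field k'] (σ : B →+* k')
    (hσ : Function.Surjective σ) (ζ : k') (h0 : eval₂ (σ.comp φ) ζ f = 0)
    (h1 : eval₂ (σ.comp φ) ζ f.derivative ≠ 0) : f.natDegree = 1 := by
  letI : Algebra A B := φ.toAlgebra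
  haveI : Algebra.IsIntegral A B := ⟨hint⟩
  haveI : IsLocalRing B := WLocalLib.isLocalRing_of_isIntegral A B
  haveI : HenselianLocalRing B := SHTensor.henselian_of_isIntegral A B
  have hker : RingHom.ker σ = maximalIdeal B :=
    IsLocalRing.eq_maximalIdeal (RingHom.ker_isMaximal_of_surjective σ hσ)
  obtain ⟨y₀, rfl⟩ := hσ ζ
  rw [← Polynomial.hom_eval₂, ← eval_map] at h0
  rw [← Polynomial.hom_eval₂, ← eval_map, ← derivative_map] at h1
  obtain ⟨z, hz, -⟩ := HenselianLocalRing.is_henselian (f.map φ) (hfm.map _) y₀ (hker.le h0) (by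
    by_contra hn
    exact h1 (hker.ge ((mem_maximalIdeal _).2 hn)))
  have hroot : (f.map κ).IsRoot (ι z) := by
    rw [IsRoot, ← hι, ← Polynomial.map_map, eval_map, eval₂_at_apply,
      show (f.map φ).eval z = 0 from hz, map_zero]
  have := natDegree_eq_of_degree_eq_some (degree_eq_one_of_irreducible_of_root hirr hroot)
  rwa [hfm.natDegree_map] at this

/-- Conversely. -/
theorem resPurelyInsep_of_irreducible [HenselianRing A (maximalIdeal A)]
    (hirr : ∀ (K : Type u) [Field K] (κ : A →+* K),
      (∀ z : K, ∃ a b : A, κ b ≠ 0 ∧ z * κ b = κ a) → RingHom.ker κ ∈ minimalPrimes A →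
      ∀ f : A[X], f.Monic → Irreducible (f.map (residue A)) → (f.map (residue A)).Separable →
        Irreducible (f.map κ)) : ResPurelyInsep A := by
  classical
  haveI : HenselianLocalRing A := Hensel.henselianRing_maximalIdeal_iff.1 inferInstance
  haveI : IsArtinianRing (FractionRing A) :=
    Groth.Agent.S2139.isNoetherian_frac (Ideal.finite_minimalPrimes_of_isNoetherianRing A ⊥)
  let T := FractionRing A
  let N := integralClosure A T
  intro M hM
  rw [eq_bot_iff]
  intro ζ hζ
  have hsep0 : IsSeparable _ ζ := mem_separableClosure_iff.1 hζ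
  rw [IntermediateField.mem_bot]
  let F₀ := Subfield.closure (Set.range ((algebraMap N M.ResidueField).comp (algebraMap A N)))
  let r : ResidueField A →+* F₀ := (resMap M).codRestrict F₀ fun x => (closure_range_eq M).ge ⟨x, rfl⟩
  have hr : Function.Bijective r := ⟨r.injective, fun c => by
    obtain ⟨x, hx⟩ := (closure_range_eq M).le c.2
    exact ⟨x, Subtype.ext hx⟩⟩
  obtain ⟨f, hf, -, hfm⟩ := Polynomial.lifts_and_natDegree_eq_and_monic
    (show minpoly F₀ ζ ∈ Polynomial.lifts (r.comp (residue A)) from
      (Polynomial.lifts_iff_coeff_lifts _).2 fun i => (hr.2.comp residue_surjective) _)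
    (minpoly.monic hsep0.isIntegral)
  rw [← Polynomial.map_map] at hf
  have hir : Irreducible (f.map (residue A)) :=
    (hfm.map _).irreducible_of_irreducible_map r _ (hf ▸ minpoly.irreducible hsep0.isIntegral)
  have hsep : (f.map (residue A)).Separable := (separable_map r).1 (hf ▸ hsep0)
  have hρM : RingHom.ker (algebraMap N M.ResidueField) = M :=
    Ideal.ker_algebraMap_residueField M
  obtain ⟨P, hP, hPM⟩ := Ideal.exists_minimalPrimes_le (I := (⊥ : Ideal N)) (J := M) bot_le
  obtain ⟨P', hP', hPP'⟩ := Ideal.exists_comap_eq_of_mem_minimalPrimes_of_injective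
    (f := N.val.toRingHom) Subtype.val_injective P hP
  haveI := hP'
  haveI : P'.IsMaximal := IsArtinianRing.isMaximal_of_isPrime P'
  letI := Ideal.Quotient.field P'
  let π : T →+* T ⧸ P' := Ideal.Quotient.mk P'
  let κ : A →+* T ⧸ P' := π.comp (algebraMap A T)
  have hfrac : ∀ z : T ⧸ P', ∃ a b : A, κ b ≠ 0 ∧ z * κ b = κ a := fun z => by
    obtain ⟨y, rfl⟩ := Ideal.Quotient.mk_surjective z
    obtain ⟨⟨a, b⟩, hab⟩ := IsLocalization.surj A⁰ y
    exact ⟨a, b, ((IsLocalization.map_units T b).map π).ne_zero, by
      rw [RingHom.comp_apply, RingHom.comp_apply, ← map_mul]; exact congrArg π hab⟩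
  have hker : RingHom.ker κ = P'.under A := by
    ext a
    exact Ideal.Quotient.eq_zero_iff_mem
  have hmin : RingHom.ker κ ∈ minimalPrimes A := by
    rw [hker]
    refine ⟨⟨Ideal.IsPrime.under A P', bot_le⟩, fun q hq hle => ?_⟩
    haveI := hq.1
    have hdisj : Disjoint (A⁰ : Set A) (q : Set A) := Set.disjoint_left.2 fun a ha haq =>
      (IsLocalization.map_units T (⟨a, ha⟩ : A⁰) |> fun h => hP'.ne_top (Ideal.eq_top_of_isUnit_mem _ (hle haq) h))
    haveI : (q.map (algebraMap A T)).IsPrime :=
      IsLocalization.isPrime_of_isPrime_disjoint A⁰ T q hq.1 hdisj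
    have h1 : q.map (algebraMap A T) ≤ P' := Ideal.map_le_iff_le_comap.2 hle
    have h2 : q.map (algebraMap A T) = P' :=
      (IsArtinianRing.isMaximal_of_isPrime _).eq_of_le hP'.ne_top h1
    rw [Ideal.under_def, ← h2]
    exact (IsLocalization.under_map_of_isPrime_disjoint A⁰ T hq.1 hdisj).le
  have hirrK := hirr (T ⧸ P') κ hfrac hmin f hfm hir hsep
  -- a root in the normalization of the branch
  haveI : P.IsPrime := hP.1.1
  have hle : P ≤ P'.comap N.val.toRingHom := hPP'.ge
  have hdeg : f.natDegree = 1 := by
    refine natDegree_eq_one_of_branch (A := A) (B := N ⧸ P) hfm κ hirrK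
      (Ideal.Quotient.mk P |>.comp (algebraMap A N))
      (fun x => ?_) (Ideal.quotientMap P' N.val.toRingHom hle) (RingHom.ext fun a => rfl)
      (Ideal.Quotient.lift P (algebraMap N M.ResidueField)
        fun x hx => Ideal.algebraMap_residueField_eq_zero.2 (hPM hx)) (fun z => ?_) ζ ?_ ?_
    · obtain ⟨y, rfl⟩ := Ideal.Quotient.mk_surjective x
      exact RingHom.IsIntegralElem.map (Algebra.IsIntegral.isIntegral (R := A) y) (Ideal.Quotient.mk P)
    · obtain ⟨y, hy⟩ := M.bijective_algebraMap_quotient_residueField.2 z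
      obtain ⟨y, rfl⟩ := Ideal.Quotient.mk_surjective y
      exact ⟨Ideal.Quotient.mk P y, hy⟩
    · have h0 : eval₂ ((algebraMap F₀ M.ResidueField).comp (r.comp (residue A))) ζ f = 0 := by
        rw [← eval₂_map, ← Polynomial.map_map, hf]
        exact minpoly.aeval F₀ ζ
      exact h0
    · have h0 : eval₂ ((algebraMap F₀ M.ResidueField).comp (r.comp (residue A))) ζ f.derivative ≠ 0 := by
        rw [← eval₂_map, ← Polynomial.map_map, ← derivative_map, ← derivative_map, hf]
        exact hsep0.aeval_derivative_ne_zero (minpoly.aeval F₀ ζ)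
      exact h0
  have h1 : (minpoly F₀ ζ).natDegree = 1 := by rw [← hf, (hfm.map _).natDegree_map, hfm.natDegree_map, hdeg]
  exact minpoly.natDegree_eq_one_iff.1 h1

end residue

end Groth.Agent.SHInter
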